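/-
Binary coset actions (relational complexity two) for abstract groups.

Main results (namespace `Cfsg.Agent.BinaryPSL`):
* `Binary H`            : the action of `G` on `G ⧸ H` is binary
* `Binary.triangle`     : `a = b * c` in three point stabilisers forces a factor in two of them
* `Binary.suborbit`     : the same test inside a point stabiliser acting on a suborbit
* `Binary.map`          : invariance under automorphisms
* `eq_conj_of_binary`   : conjugate-subgroup versions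
-/
import Cfsg.Agent.EqLemmas

set_option autoImplicit false

open MulAction

namespace Cfsg.Agent.BinaryPSL

variable {G : Type*} [Group G]

/-- The action of `G` on the cosets of `H` is binary. -/
def Binary (H : Subgroup G) : Prop :=
  ∀ (n : ℕ) (I J : Fin n → G ⧸ H), 2 ≤ n →
    (∀ i j : Fin n, i ≠ j → ∃ g : G, g • I i = J i ∧ g • I j = J j) →
      ∃ g : G, ∀ i, g • I i = J i

theorem smul_mk_eq {H : Subgroup G} (x g : G) :
    x • (QuotientGroup.mk g : G ⧸ H) = QuotientGroup.mk g ↔ g⁻¹ * x * g ∈ H := by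
  rw [MulAction.Quotient.smul_mk, QuotientGroup.eq, smul_eq_mul, mul_inv_rev]
  constructor
  · intro h
    have := H.inv_mem h
    simpa [mul_assoc] using this
  · intro h
    have := H.inv_mem h
    simpa [mul_assoc] using this

variable {H : Subgroup G}

/-- Triangle test in conjugates of the point stabiliser. -/
theorem Binary.triangle (hB : Binary H) {a b c g₀ g₁ g₂ : G} (ha : g₀⁻¹ * a * g₀ ∈ H)
    (hb : g₁⁻¹ * b * g₁ ∈ H) (hc : g₂⁻¹ * c * g₂ ∈ H) (habc : a = b * c) :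
    ∃ e : G, g₀⁻¹ * e * g₀ ∈ H ∧ g₁⁻¹ * e * g₁ ∈ H ∧ g₂⁻¹ * (e⁻¹ * a) * g₂ ∈ H := by
  let x : Fin 3 → G ⧸ H :=
    ![QuotientGroup.mk g₀, QuotientGroup.mk g₁, QuotientGroup.mk g₂]
  let y : Fin 3 → G ⧸ H :=
    ![QuotientGroup.mk g₀, QuotientGroup.mk g₁, a • (QuotientGroup.mk g₂ : G ⧸ H)]
  have h0 : a • (QuotientGroup.mk g₀ : G ⧸ H) = QuotientGroup.mk g₀ := (smul_mk_eq _ _).2 ha
  have h1 : b • (QuotientGroup.mk g₁ : G ⧸ H) = QuotientGroup.mk g₁ := (smul_mk_eq _ _).2 hb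
  have h2 : b • (QuotientGroup.mk g₂ : G ⧸ H) = a • (QuotientGroup.mk g₂ : G ⧸ H) := by
    rw [habc, mul_smul, (smul_mk_eq c g₂).2 hc]
  obtain ⟨e, he⟩ := hB 3 x y (by norm_num) fun i j hij => by
    fin_cases i <;> fin_cases j
    · exact absurd rfl hij
    · exact ⟨1, one_smul _ _, one_smul _ _⟩
    · exact ⟨a, h0, rfl⟩
    · exact ⟨1, one_smul _ _, one_smul _ _⟩
    · exact absurd rfl hij
    · exact ⟨b, h1, h2⟩
    · exact ⟨a, rfl, h0⟩
    · exact ⟨b, h2, h1⟩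
    · exact absurd rfl hij
  refine ⟨e, (smul_mk_eq _ _).1 (he 0), (smul_mk_eq _ _).1 (he 1), (smul_mk_eq _ _).1 ?_⟩
  rw [mul_smul, inv_smul_eq_iff]
  exact (he 2).symm

/-- Triangle test inside `H` acting on the orbit of `g H`. -/
theorem Binary.suborbit (hB : Binary H) {g u v w a b c : G} (hu : u ∈ H) (hv : v ∈ H) (hw : w ∈ H)
    (ha : u⁻¹ * a * u ∈ H ∧ g⁻¹ * (u⁻¹ * a * u) * g ∈ H)
    (hb : v⁻¹ * b * v ∈ H ∧ g⁻¹ * (v⁻¹ * b * v) * g ∈ H)
    (hc : w⁻¹ * c * w ∈ H ∧ g⁻¹ * (w⁻¹ * c * w) * g ∈ H) (habc : a = b * c) :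
    ∃ e : G, (u⁻¹ * e * u ∈ H ∧ g⁻¹ * (u⁻¹ * e * u) * g ∈ H) ∧
      (v⁻¹ * e * v ∈ H ∧ g⁻¹ * (v⁻¹ * e * v) * g ∈ H) ∧
      (w⁻¹ * (e⁻¹ * a) * w ∈ H ∧ g⁻¹ * (w⁻¹ * (e⁻¹ * a) * w) * g ∈ H) := by
  have hmemH : ∀ {s x : G}, s ∈ H → s⁻¹ * x * s ∈ H → x ∈ H := by
    intro s x hs hx
    have := H.mul_mem (H.mul_mem hs hx) (H.inv_mem hs)
    rwa [show s * (s⁻¹ * x * s) * s⁻¹ = x by group] at this
  have hconj : ∀ {s x : G}, s ∈ H → x ∈ H → s⁻¹ * x * s ∈ H := fun hs hx =>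
    H.mul_mem (H.mul_mem (H.inv_mem hs) hx) hs
  have haH : a ∈ H := hmemH hu ha.1
  have hbH : b ∈ H := hmemH hv hb.1
  let x : Fin 4 → G ⧸ H := ![QuotientGroup.mk 1, QuotientGroup.mk (u * g), QuotientGroup.mk (v * g),
    QuotientGroup.mk (w * g)]
  let y : Fin 4 → G ⧸ H := ![QuotientGroup.mk 1, QuotientGroup.mk (u * g), QuotientGroup.mk (v * g),
    a • (QuotientGroup.mk (w * g) : G ⧸ H)]
  have fix1 : ∀ {z : G}, z ∈ H → z • (QuotientGroup.mk 1 : G ⧸ H) = QuotientGroup.mk 1 :=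
    fun {z} hz => (smul_mk_eq z 1).2 (by simpa using hz)
  have fixs : ∀ {s z : G}, g⁻¹ * (s⁻¹ * z * s) * g ∈ H →
      z • (QuotientGroup.mk (s * g) : G ⧸ H) = QuotientGroup.mk (s * g) := fun {s z} hz =>
    (smul_mk_eq z _).2 (by simpa [mul_assoc] using hz)
  have hcw : c • (QuotientGroup.mk (w * g) : G ⧸ H) = QuotientGroup.mk (w * g) := fixs hc.2
  have h2 : b • (QuotientGroup.mk (w * g) : G ⧸ H) = a • (QuotientGroup.mk (w * g) : G ⧸ H) := by
    rw [habc, mul_smul, hcw]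
  obtain ⟨e, he⟩ := hB 4 x y (by norm_num) fun i j hij => by
    fin_cases i <;> fin_cases j
    · exact absurd rfl hij
    · exact ⟨1, one_smul _ _, one_smul _ _⟩
    · exact ⟨1, one_smul _ _, one_smul _ _⟩
    · exact ⟨a, fix1 haH, rfl⟩
    · exact ⟨1, one_smul _ _, one_smul _ _⟩
    · exact absurd rfl hij
    · exact ⟨1, one_smul _ _, one_smul _ _⟩
    · exact ⟨a, fixs ha.2, rfl⟩
    · exact ⟨1, one_smul _ _, one_smul _ _⟩
    · exact ⟨1, one_smul _ _, one_smul _ _⟩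
    · exact absurd rfl hij
    · exact ⟨b, fixs hb.2, h2⟩
    · exact ⟨a, rfl, fix1 haH⟩
    · exact ⟨a, rfl, fixs ha.2⟩
    · exact ⟨b, h2, fixs hb.2⟩
    · exact absurd rfl hij
  have he0 : e ∈ H := by simpa using (smul_mk_eq e 1).1 (he 0)
  have hg : ∀ {s z : G}, z • (QuotientGroup.mk (s * g) : G ⧸ H) = QuotientGroup.mk (s * g) →
      g⁻¹ * (s⁻¹ * z * s) * g ∈ H := fun {s z} hz => by
    simpa [mul_assoc] using (smul_mk_eq z _).1 hz
  have he3 : (e⁻¹ * a) • (QuotientGroup.mk (w * g) : G ⧸ H) = QuotientGroup.mk (w * g) := by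
    rw [mul_smul, inv_smul_eq_iff]
    exact (he 3).symm
  exact ⟨e, ⟨hconj hu he0, hg (he 1)⟩, ⟨hconj hv he0, hg (he 2)⟩,
    ⟨hconj hw (H.mul_mem (H.inv_mem he0) haH), hg he3⟩⟩

/-- Binary is invariant under automorphisms. -/
theorem Binary.map (hB : Binary H) (f : G ≃* G) : Binary (H.map f.toMonoidHom) := by
  set K := H.map f.toMonoidHom
  have hmem : ∀ x : G, f x ∈ K ↔ x ∈ H := fun x => by
    simp [K]
  have key : ∀ g s t : G, g • (QuotientGroup.mk s : G ⧸ H) = QuotientGroup.mk t ↔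
      f g • (QuotientGroup.mk (f s) : G ⧸ K) = QuotientGroup.mk (f t) := by
    intro g s t
    rw [MulAction.Quotient.smul_mk, MulAction.Quotient.smul_mk, QuotientGroup.eq, QuotientGroup.eq,
      smul_eq_mul, smul_eq_mul, ← map_mul, ← map_inv, ← map_mul, hmem]
  intro n I J hn hp
  choose sI hI using fun i => QuotientGroup.mk_surjective (I i)
  choose sJ hJ using fun i => QuotientGroup.mk_surjective (J i)
  obtain ⟨g, hg⟩ := hB n (fun i => QuotientGroup.mk (f.symm (sI i)))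
    (fun i => QuotientGroup.mk (f.symm (sJ i))) hn fun i j hij => by
    obtain ⟨g, h1, h2⟩ := hp i j hij
    refine ⟨f.symm g, ?_, ?_⟩ <;> rw [key] <;> simp only [MulEquiv.apply_symm_apply, hI, hJ]
    exacts [h1, h2]
  refine ⟨f g, fun i => ?_⟩
  have := (key g (f.symm (sI i)) (f.symm (sJ i))).1 (hg i)
  simpa only [MulEquiv.apply_symm_apply, hI, hJ] using this

theorem mem_conj_iff {x w : G} {H : Subgroup G} :
    x ∈ H.map (MulAut.conj w).toMonoidHom ↔ w⁻¹ * x * w ∈ H := by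
  rw [Subgroup.mem_map_equiv]
  simp

/-- A criterion for failure: `A`, `B`, `C` conjugates of `H`. -/
theorem not_binary_of_triangle {H : Subgroup G} {a b c g₀ g₁ g₂ : G}
    (ha : g₀⁻¹ * a * g₀ ∈ H) (hb : g₁⁻¹ * b * g₁ ∈ H) (hc : g₂⁻¹ * c * g₂ ∈ H) (habc : a = b * c)
    (h : ∀ e : G, g₀⁻¹ * e * g₀ ∈ H → g₁⁻¹ * e * g₁ ∈ H → g₂⁻¹ * (e⁻¹ * a) * g₂ ∈ H → False) :
    ¬ Binary H := fun hB => by
  obtain ⟨e, h1, h2, h3⟩ := hB.triangle ha hb hc habc
  exact h e h1 h2 h3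

end Cfsg.Agent.BinaryPSL
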