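/-
Criteria for the failure of a coset action to be binary.

Main results (namespace `Cfsg.Agent.BinaryPSL`):
* `not_binary_of_abelian`    : abelian stabiliser with abelian centralisers
* `not_binary_of_inverting`  : odd generalised dihedral stabiliser and a four-group
* `not_binary_of_suborbit`   : three cyclic groups in a suborbit
* `not_binary_of_transitive` : a transitive group of small order
-/
import Cfsg.Agent.Lib.BinaryPSL.Basic

set_option autoImplicit false

open MulAction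

namespace Cfsg.Agent.BinaryPSL

variable {G : Type*} [Group G] {H : Subgroup G}

theorem conj_inj_eq {g x y : G} (h : g⁻¹ * x * g = g⁻¹ * y * g) : x = y :=
  mul_left_cancel (mul_right_cancel h)

theorem conj_mul_eq (g x y : G) : g⁻¹ * (x * y) * g = g⁻¹ * x * g * (g⁻¹ * y * g) := by group

theorem conj_inv_eq (g x : G) : g⁻¹ * x⁻¹ * g = (g⁻¹ * x * g)⁻¹ := by group

theorem conj_eq_one_iff (g x : G) : g⁻¹ * x * g = 1 ↔ x = 1 := by
  refine ⟨fun h => conj_inj_eq (g := g) (by rw [h, mul_one, inv_mul_cancel]), ?_⟩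
  rintro rfl
  rw [mul_one, inv_mul_cancel]

theorem commute_conj_iff (g x y : G) :
    g⁻¹ * x * g * (g⁻¹ * y * g) = g⁻¹ * y * g * (g⁻¹ * x * g) ↔ x * y = y * x := by
  rw [← conj_mul_eq, ← conj_mul_eq]
  exact ⟨conj_inj_eq, fun h => by rw [h]⟩

/-- An abelian stabiliser inside abelian centralisers. -/
theorem not_binary_of_abelian (hcomm : ∀ x ∈ H, ∀ y ∈ H, x * y = y * x)
    (hC : ∀ e ∈ H, e ≠ 1 → ∀ x y : G, x * e = e * x → y * e = e * y → x * y = y * x)
    {a b c g₀ g₁ g₂ : G} (ha : g₀⁻¹ * a * g₀ ∈ H) (hb : g₁⁻¹ * b * g₁ ∈ H)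
    (hc : g₂⁻¹ * c * g₂ ∈ H) (habc : a = b * c) (hne : b * c ≠ c * b) : ¬ Binary H := by
  refine not_binary_of_triangle ha hb hc habc fun e he₀ he₁ he₂ => hne ?_
  by_cases he : e = 1
  · subst he
    rw [inv_one, one_mul] at he₂
    have h := (commute_conj_iff g₂ a c).1 (hcomm _ he₂ _ hc)
    rw [habc, ← mul_assoc c] at h
    exact mul_right_cancel h
  · have hae := (commute_conj_iff g₀ a e).1 (hcomm _ ha _ he₀)
    have hbe := (commute_conj_iff g₁ b e).1 (hcomm _ hb _ he₁)
    have h := hC _ he₀ (fun h => he ((conj_eq_one_iff _ _).1 h)) _ _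
      ((commute_conj_iff g₀ a e).2 hae) ((commute_conj_iff g₀ b e).2 hbe)
    have h' := (commute_conj_iff g₀ a b).1 h
    rw [habc, mul_assoc] at h'
    exact (mul_left_cancel h').symm

/-- Stabilisers in which distinct involutions never commute and invert everything else. -/
theorem not_binary_of_inverting
    (hI : ∀ s ∈ H, ∀ t ∈ H, s * s = 1 → t * t = 1 → s ≠ 1 → t ≠ 1 → s * t = t * s → s = t)
    (hinv : ∀ s ∈ H, ∀ e ∈ H, s * s = 1 → s ≠ 1 → e * e ≠ 1 → s * e * s = e⁻¹)
    {a b g₀ g₁ g₂ : G} (ha : g₀⁻¹ * a * g₀ ∈ H) (hb : g₁⁻¹ * b * g₁ ∈ H)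
    (hc : g₂⁻¹ * (a * b) * g₂ ∈ H) (ha2 : a * a = 1) (hb2 : b * b = 1) (hab : a * b = b * a)
    (ha1 : a ≠ 1) (hb1 : b ≠ 1) (hne : a ≠ b) : ¬ Binary H := by
  have sq : ∀ {g x : G}, x * x = 1 → g⁻¹ * x * g * (g⁻¹ * x * g) = 1 := fun {g x} h => by
    rw [← conj_mul_eq, h, mul_one, inv_mul_cancel]
  have hI' : ∀ {g s t : G}, g⁻¹ * s * g ∈ H → g⁻¹ * t * g ∈ H → s * s = 1 → t * t = 1 → s ≠ 1 →
      t ≠ 1 → s * t = t * s → s = t := fun {g s t} hs ht s2 t2 s1 t1 h =>
    conj_inj_eq (hI _ hs _ ht (sq s2) (sq t2) (fun e => s1 ((conj_eq_one_iff _ _).1 e))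
      (fun e => t1 ((conj_eq_one_iff _ _).1 e)) ((commute_conj_iff _ _ _).2 h))
  have hinv' : ∀ {g s e : G}, g⁻¹ * s * g ∈ H → g⁻¹ * e * g ∈ H → s * s = 1 → s ≠ 1 → e * e ≠ 1 →
      s * e * s = e⁻¹ := by
    intro g s e hs he s2 s1 e2
    have h := hinv _ hs _ he (sq s2) (fun e => s1 ((conj_eq_one_iff _ _).1 e)) (fun h => e2 (by
      rw [← conj_mul_eq] at h
      exact (conj_eq_one_iff _ _).1 h))
    rw [← conj_mul_eq, ← conj_mul_eq, ← conj_inv_eq] at h
    exact conj_inj_eq h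
  have hd : a * b * (a * b) = 1 := by
    rw [mul_assoc, ← mul_assoc b, ← hab, mul_assoc a b, hb2, mul_one, ha2]
  have hd1 : a * b ≠ 1 := fun e => hne (by
    rw [eq_inv_of_mul_eq_one_left e, inv_eq_of_mul_eq_one_right hb2])
  have hda : a * b * a = a * (a * b) := by rw [mul_assoc, ← hab]
  refine not_binary_of_triangle ha hb (c := a * b) hc
    (by rw [← mul_assoc, ← hab, mul_assoc, hb2, mul_one]) fun e he₀ he₁ he₂ => ?_
  by_cases he : e = 1
  · subst he
    rw [inv_one, one_mul] at he₂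
    have h := hI' he₂ hc ha2 hd ha1 hd1 hda.symm
    exact hb1 (by simpa using h)
  by_cases hee : e * e = 1
  · have hie : e⁻¹ = e := inv_eq_of_mul_eq_one_right hee
    by_cases hea : e = a
    · subst hea
      exact hne (hI' he₁ hb ha2 hb2 ha1 hb1 hab)
    rw [hie] at he₂
    have hr₀ : g₀⁻¹ * (e * a) * g₀ ∈ H := by
      rw [conj_mul_eq]
      exact H.mul_mem he₀ ha
    have hr2 : e * a * (e * a) ≠ 1 := fun h => hea (hI' he₀ ha hee ha2 he ha1 (by
      calc e * a = (e * a)⁻¹ := (inv_eq_of_mul_eq_one_right h).symm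
        _ = a * e := by rw [mul_inv_rev, hie, inv_eq_of_mul_eq_one_right ha2]))
    have h1 := hinv' ha hr₀ ha2 ha1 hr2
    have h2 := hinv' hc he₂ hd hd1 hr2
    rw [← h1, show a * b * (e * a) * (a * b) = a * (b * e * b) by
        rw [mul_assoc (a * b), mul_assoc e, ← mul_assoc a a b, ha2, one_mul]; simp only [mul_assoc],
      mul_assoc a (e * a), mul_assoc e, ha2, mul_one] at h2
    have heb : e * b = b * e := by
      conv_lhs => rw [← mul_left_cancel h2, mul_assoc (b * e), hb2, mul_one]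
    have h4 := hI' he₁ hb hee hb2 he hb1 heb
    subst h4
    exact hne (hI' ha he₀ ha2 hb2 ha1 hb1 hab)
  · have h1 := hinv' ha he₀ ha2 ha1 hee
    have h2 := hinv' hb he₁ hb2 hb1 hee
    have h3 : a * b * e = e * (a * b) := by
      calc a * b * e = a * (b * e * b) * b := by
            rw [mul_assoc a (b * e * b) b, mul_assoc (b * e) b b, hb2, mul_one, mul_assoc]
        _ = a * e⁻¹ * b := by rw [h2]
        _ = a * (a * e * a) * b := by rw [h1]
        _ = e * (a * b) := by rw [← mul_assoc, ← mul_assoc, ha2, one_mul, mul_assoc]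
    have hs2 : e⁻¹ * a * (e⁻¹ * a) = 1 := by
      have h4 : a * e⁻¹ * a = e := by
        rw [← h1, ← mul_assoc, ← mul_assoc, ha2, one_mul, mul_assoc, ha2, mul_one]
      rw [mul_assoc, ← mul_assoc a, h4, inv_mul_cancel]
    have hs1 : e⁻¹ * a ≠ 1 := fun h => hee (by rw [inv_mul_eq_one.1 h, ha2])
    have h5 : e⁻¹ * a * (a * b) = a * b * (e⁻¹ * a) := by
      have h3' : a * b * e⁻¹ = e⁻¹ * (a * b) := by
        rw [eq_inv_mul_iff_mul_eq, ← mul_assoc, ← h3, mul_inv_cancel_right]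
      rw [← mul_assoc (a * b), h3', mul_assoc, mul_assoc e⁻¹, hda]
    have h6 := hI' he₂ hc hs2 hd hs1 hd1 h5
    apply hee
    have h7 : e⁻¹ = b := by
      rw [eq_mul_inv_of_mul_eq h6, inv_eq_of_mul_eq_one_right ha2, hda, ← mul_assoc, ha2, one_mul]
    rw [← inv_inv e, h7, inv_eq_of_mul_eq_one_right hb2, hb2]

/-- Three distinct cyclic groups of a suborbit. -/
theorem not_binary_of_suborbit {g x u v w a b c : G} (hx : x ∈ H) (hgx : g * x = x * g)
    (hu : u ∈ H) (hv : v ∈ H) (hw : w ∈ H)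
    (hD : ∀ y ∈ H, g⁻¹ * y * g ∈ H → y ∈ Subgroup.zpowers x)
    (ha : u⁻¹ * a * u ∈ Subgroup.zpowers x) (hb : v⁻¹ * b * v ∈ Subgroup.zpowers x)
    (hc : w⁻¹ * c * w ∈ Subgroup.zpowers x) (habc : a = b * c)
    (hdisj : ∀ e : G, u⁻¹ * e * u ∈ Subgroup.zpowers x → v⁻¹ * e * v ∈ Subgroup.zpowers x → e = 1)
    (hne : w⁻¹ * a * w ∉ Subgroup.zpowers x) : ¬ Binary H := by
  intro hB
  have key : ∀ y ∈ Subgroup.zpowers x, y ∈ H ∧ g⁻¹ * y * g ∈ H := by
    intro y hy
    have hyH := Subgroup.zpowers_le.2 hx hy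
    refine ⟨hyH, ?_⟩
    obtain ⟨i, rfl⟩ := hy
    have h : g * x ^ i = x ^ i * g := ((show Commute g x from hgx).zpow_right i).eq
    simp only at hyH ⊢
    rwa [mul_assoc, ← h, inv_mul_cancel_left]
  obtain ⟨e, h1, h2, h3⟩ := hB.suborbit (g := g) hu hv hw (key _ ha) (key _ hb) (key _ hc) habc
  have he := hdisj e (hD _ h1.1 h1.2) (hD _ h2.1 h2.2)
  subst he
  apply hne
  have := hD _ h3.1 h3.2
  rwa [inv_one, one_mul] at this

/-- `H` is transitive outside a block `K`, and `G` is too small to be symmetric on the blocks. -/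
theorem not_binary_of_transitive [Finite G] {K : Subgroup G} (hHK : H ≤ K)
    (htr : ∀ s t : G, s ∉ K → t ∉ K → ∃ h ∈ H, h • (QuotientGroup.mk s : G ⧸ H) = QuotientGroup.mk t)
    (hcard : Nat.card G < K.index.factorial) : ¬ Binary H := by
  intro hB
  classical
  have : Fintype (G ⧸ K) := Fintype.ofFinite _
  have hn : 2 ≤ K.index := by
    by_contra h
    have h1 : K.index.factorial = 1 := Nat.factorial_eq_one.2 (by omega)
    have := Nat.card_pos (α := G)
    omega
  let e := Fintype.equivFin (G ⧸ K)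
  have hcK : Fintype.card (G ⧸ K) = K.index := by
    rw [← Nat.card_eq_fintype_card, Subgroup.index_eq_card]
  -- the action on the blocks
  have hsurj : Function.Surjective (MulAction.toPermHom G (G ⧸ K)) := by
    intro σ
    let lift : G ⧸ K → G ⧸ H := fun P => QuotientGroup.mk P.out
    obtain ⟨g, hg⟩ := hB (Fintype.card (G ⧸ K)) (fun i => lift (e.symm i))
      (fun i => lift (σ (e.symm i))) (hcK ▸ hn) fun i j hij => by
      set s := (e.symm i).out
      set t := (e.symm j).out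
      set s' := (σ (e.symm i)).out
      set t' := (σ (e.symm j)).out
      have h1 : s⁻¹ * t ∉ K := fun h => hij (e.symm.injective (by
        rw [← QuotientGroup.out_eq' (e.symm i), ← QuotientGroup.out_eq' (e.symm j)]
        exact QuotientGroup.eq.2 h))
      have h2 : s'⁻¹ * t' ∉ K := fun h => hij (e.symm.injective (σ.injective (by
        rw [← QuotientGroup.out_eq' (σ (e.symm i)), ← QuotientGroup.out_eq' (σ (e.symm j))]
        exact QuotientGroup.eq.2 h)))
      obtain ⟨h, hh, hst⟩ := htr _ _ h1 h2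
      refine ⟨s' * h * s⁻¹, ?_, ?_⟩
      · show (s' * h * s⁻¹) • (QuotientGroup.mk s : G ⧸ H) = QuotientGroup.mk s'
        rw [MulAction.Quotient.smul_mk, QuotientGroup.eq, smul_eq_mul, inv_mul_cancel_right,
          mul_inv_rev, inv_mul_cancel_right]
        exact H.inv_mem hh
      · show (s' * h * s⁻¹) • (QuotientGroup.mk t : G ⧸ H) = QuotientGroup.mk t'
        rw [MulAction.Quotient.smul_mk, smul_eq_mul] at hst ⊢
        have := congrArg (fun P : G ⧸ H => s' • P) hst
        simpa only [MulAction.Quotient.smul_mk, smul_eq_mul, mul_assoc, mul_inv_cancel_left] using this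
    refine ⟨g, Equiv.ext fun P => ?_⟩
    obtain ⟨i, rfl⟩ := e.symm.surjective P
    have h := hg i
    simp only [lift, MulAction.Quotient.smul_mk, smul_eq_mul] at h
    rw [MulAction.toPermHom_apply, MulAction.toPerm_apply]
    conv_lhs => rw [← QuotientGroup.out_eq' (e.symm i)]
    rw [MulAction.Quotient.smul_mk, smul_eq_mul, ← QuotientGroup.out_eq' (σ (e.symm i)),
      QuotientGroup.eq]
    exact hHK (QuotientGroup.eq.1 h)
  have := Nat.card_le_card_of_surjective _ hsurj
  rw [Nat.card_perm, ← Subgroup.index_eq_card] at this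
  omega

end Cfsg.Agent.BinaryPSL
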