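/-
Subgroups of `PSL_2(q)`, `q` odd, inside an involution centraliser never give binary actions.

Main results (namespace `Cfsg.Agent.BinaryPSL`):
* `eq_of_commute_pair`   : the centraliser of a four-group is the four-group
* `exists_cycle`         : an element cycling the involutions of a four-group
* `not_binary_of_le_centralizer` : `z ∈ H ≤ C(z)`, `z` an involution, `q ≥ 7`
-/
import Cfsg.Agent.Lib.BinaryPSL.Basic
import Cfsg.Agent.Lib.PSL2.Involutions
import Cfsg.Agent.Lib.PSL2.Existence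

set_option autoImplicit false

open Matrix

namespace Cfsg.Agent.BinaryPSL

open PSL2

variable {F : Type*} [Field F]

local notation "π" => (QuotientGroup.mk : SL2 F → PSL2 F)

theorem commute_lift_cases {X Y : SL2 F} (h : π X * π Y = π Y * π X) :
    X * Y = Y * X ∨ X * Y = -(Y * X) := by
  rw [← QuotientGroup.mk_mul, ← QuotientGroup.mk_mul] at h
  exact mk_eq_mk_iff.1 h

theorem tr_zero_of_anticomm (h2 : (2 : F) ≠ 0) {X Y : SL2 F} (h : X * Y = -(Y * X)) : tr X = 0 := by
  have h' : Y⁻¹ * X * (Y⁻¹)⁻¹ = -X := by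
    rw [inv_inv, mul_assoc, h, mul_neg, inv_mul_cancel_left]
  have ht := tr_conj X Y⁻¹
  rw [h', tr_neg] at ht
  exact (mul_eq_zero.1 (show (2 : F) * tr X = 0 by linear_combination -ht)).resolve_left h2

theorem mk_sq_of_anticomm (h2 : (2 : F) ≠ 0) {X Y : SL2 F} (h : X * Y = -(Y * X)) :
    π X * π X = 1 := by
  rw [← QuotientGroup.mk_mul, mk_one_iff]
  exact Or.inr (sq_eq_neg_one_of_tr_zero (tr_zero_of_anticomm h2 h))

theorem ne_center_of_tr_zero (h2 : (2 : F) ≠ 0) {X : SL2 F} (h : tr X = 0) :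
    X ∉ Subgroup.center (SL2 F) := fun hc =>
  ne_one_of_tr_zero h2 h ((QuotientGroup.eq_one_iff _).2 hc)

/-- The centraliser of a four-group is the four-group. -/
theorem eq_of_commute_pair (h2 : (2 : F) ≠ 0) {a b x : PSL2 F} (ha : a ≠ 1) (hb : b ≠ 1)
    (ha2 : a * a = 1) (hb2 : b * b = 1) (hab : a * b = b * a) (hne : a ≠ b)
    (hxa : x * a = a * x) (hxb : x * b = b * x) : x = 1 ∨ x = a ∨ x = b ∨ x = a * b := by
  obtain ⟨A, B, rfl, rfl, hA, hB, hAB⟩ := exists_lift_pair h2 ha hb ha2 hb2 hab hne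
  obtain ⟨X, rfl⟩ := QuotientGroup.mk_surjective x
  have key : ∀ Y : SL2 F, Y * A = A * Y → Y * B = B * Y → π Y = 1 := by
    intro Y h1 h3
    by_contra hY
    have hc : Y ∉ Subgroup.center (SL2 F) := fun h => hY ((QuotientGroup.eq_one_iff _).2 h)
    have hcomm : Commute A B := commute_of_commute hc h1.symm h3.symm
    have e : -(B * A) = B * A := hAB.symm.trans hcomm.eq
    have e' := congrArg (fun g => (-(g * A⁻¹) : SL2 F)) e
    simp only [neg_mul, mul_inv_cancel_right, neg_neg] at e'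
    have ht := congrArg tr (congrArg (fun g => B⁻¹ * g) e')
    simp only [inv_mul_cancel, mul_neg] at ht
    rw [tr_neg, tr_one] at ht
    exact h2 ((mul_eq_zero.1 (show (2 : F) * 2 = 0 by linear_combination ht)).elim id id)
  have hBA : B * A = -(A * B) := by rw [hAB, neg_neg]
  have hmA := sq_eq_neg_one_of_tr_zero hA
  have hmB := sq_eq_neg_one_of_tr_zero hB
  rcases commute_lift_cases hxa with e1 | e1 <;> rcases commute_lift_cases hxb with e2 | e2
  · exact Or.inl (key X e1 e2)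
  · right; left
    have h : π (X * A) = 1 := key _ (by rw [e1, mul_assoc, e1, ← mul_assoc])
      (by rw [mul_assoc, hAB, mul_neg, ← mul_assoc, e2, neg_mul, neg_neg, mul_assoc])
    rw [QuotientGroup.mk_mul] at h
    rw [eq_inv_of_mul_eq_one_left h, inv_eq_of_mul_eq_one_right ha2]
  · right; right; left
    have h : π (X * B) = 1 := key _
      (by rw [mul_assoc, hBA, mul_neg, ← mul_assoc, e1, neg_mul, neg_neg, mul_assoc])
      (by rw [e2, mul_assoc, e2, ← mul_assoc])
    rw [QuotientGroup.mk_mul] at h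
    rw [eq_inv_of_mul_eq_one_left h, inv_eq_of_mul_eq_one_right hb2]
  · right; right; right
    have h : π (X * (A * B)) = 1 := key _
      (by calc X * (A * B) * A = X * (A * (B * A)) := by simp only [mul_assoc]
            _ = -(X * A * (A * B)) := by rw [hBA, mul_neg, mul_neg, ← mul_assoc]
            _ = A * (X * (A * B)) := by rw [e1, neg_mul, neg_neg, mul_assoc])
      (by calc X * (A * B) * B = -(X * (B * A) * B) := by rw [hBA, mul_neg, neg_mul, neg_neg]
            _ = -(X * B * (A * B)) := by simp only [mul_assoc]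
            _ = B * (X * (A * B)) := by rw [e2, neg_mul, neg_neg, mul_assoc])
    rw [QuotientGroup.mk_mul, QuotientGroup.mk_mul] at h
    rw [eq_inv_of_mul_eq_one_left h, _root_.mul_inv_rev, inv_eq_of_mul_eq_one_right hb2,
      inv_eq_of_mul_eq_one_right ha2, hab]

/-- An element cycling the three involutions of a four-group. -/
theorem exists_cycle (h2 : (2 : F) ≠ 0) {A B : SL2 F} (hA : tr A = 0) (hB : tr B = 0)
    (hAB : A * B = -(B * A)) :
    ∃ W : SL2 F, W.1 * A.1 = B.1 * W.1 ∧ W.1 * B.1 = (A.1 * B.1) * W.1 := by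
  have hBA : B.1 * A.1 = -(A.1 * B.1) := by rw [coe_anticomm hAB, neg_neg]
  have hAA := coe_sq_neg_one hA
  have hBB := coe_sq_neg_one hB
  have hA' : ∀ M, A.1 * (A.1 * M) = -M := fun M => by rw [← mul_assoc, hAA, neg_mul, one_mul]
  have hB' : ∀ M, B.1 * (B.1 * M) = -M := fun M => by rw [← mul_assoc, hBB, neg_mul, one_mul]
  have hBA' : ∀ M, B.1 * (A.1 * M) = -(A.1 * (B.1 * M)) := fun M => by
    rw [← mul_assoc, hBA, neg_mul, mul_assoc]
  have tA : Matrix.trace A.1 = 0 := by rw [← tr_eq_trace, hA]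
  have tB : Matrix.trace B.1 = 0 := by rw [← tr_eq_trace, hB]
  have tC : Matrix.trace (A.1 * B.1) = 0 := by
    have h := Matrix.trace_mul_comm B.1 A.1
    rw [hBA, Matrix.trace_neg] at h
    exact (mul_eq_zero.1 (show (2 : F) * Matrix.trace (A.1 * B.1) = 0 by
      linear_combination -h)).resolve_left h2
  set M : Matrix (Fin 2) (Fin 2) F := (2 : F)⁻¹ • (1 + A.1 + B.1 + A.1 * B.1) with hM
  have hMM : M * M = M - 1 := by
    have e : (1 + A.1 + B.1 + A.1 * B.1) * (1 + A.1 + B.1 + A.1 * B.1) =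
        (2 : F) • (1 + A.1 + B.1 + A.1 * B.1) - (4 : F) • 1 := by
      simp only [mul_add, add_mul, mul_one, one_mul, mul_assoc, hAA, hBB, hA', hB', hBA, hBA',
        mul_neg, neg_mul, neg_neg]
      module
    rw [hM, Matrix.smul_mul, Matrix.mul_smul, smul_smul, e, smul_sub, smul_smul, smul_smul]
    rw [show (2 : F)⁻¹ * (2 : F)⁻¹ * 2 = (2 : F)⁻¹ by field_simp,
      show (2 : F)⁻¹ * (2 : F)⁻¹ * 4 = 1 by field_simp; norm_num, one_smul]
  have htr : Matrix.trace M = 1 := by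
    rw [hM, Matrix.trace_smul, Matrix.trace_add, Matrix.trace_add, Matrix.trace_add, tA, tB, tC,
      Matrix.trace_one]
    simp [h2]
  have hdet : M.det = 1 := by
    rw [Matrix.trace_fin_two] at htr
    have h00 := congrFun (congrFun hMM 0) 0
    simp [Matrix.mul_apply, Fin.sum_univ_two] at h00
    rw [Matrix.det_fin_two]
    linear_combination -h00 + M 0 0 * htr
  refine ⟨⟨M, hdet⟩, ?_, ?_⟩ <;> show M * _ = _ * M <;> rw [hM, Matrix.smul_mul, Matrix.mul_smul] <;>
    congr 1 <;>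
    simp only [mul_add, add_mul, mul_one, one_mul, mul_assoc, hAA, hBB, hA', hB', hBA, hBA',
      mul_neg, neg_mul, neg_neg] <;>
    abel

/-- Commuting trace zero elements. -/
theorem tr_mul_cases (h2 : (2 : F) ≠ 0) {X Y : SL2 F} (hX : tr X = 0) (hY : tr Y = 0)
    (h : π X * π Y = π Y * π X) :
    Matrix.trace (X.1 * Y.1) = 0 ∨ Y.1 = X.1 ∨ Y.1 = -X.1 := by
  rcases commute_lift_cases h with e | e
  · right
    obtain ⟨a, b, hab⟩ := exists_lin_of_commute (ne_center_of_tr_zero h2 hX)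
      (congrArg Subtype.val e.symm)
    have ha : a = 0 := by
      have ht : Matrix.trace Y.1 = 0 := by rw [← tr_eq_trace, hY]
      rw [hab, lin, Matrix.trace_add, Matrix.trace_smul, Matrix.trace_smul, ← tr_eq_trace, hX,
        Matrix.trace_one] at ht
      simpa [h2] using ht
    have hd : a ^ 2 + tr X * a * b + b ^ 2 = 1 := by rw [← det_lin, ← hab]; exact Y.2
    rw [ha, hX] at hd
    rcases sq_eq_one_iff.1 (show b ^ 2 = 1 by linear_combination hd) with rfl | rfl
    · exact Or.inl (by rw [hab, lin, ha]; simp)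
    · exact Or.inr (by rw [hab, lin, ha]; simp)
  · left
    have h' := anticomm_mat (X := X.1) (Y := Y.1) (by rw [← tr_eq_trace, hX]) (by rw [← tr_eq_trace, hY])
    rw [coe_anticomm e, neg_add_cancel] at h'
    rcases smul_eq_zero.1 h'.symm with h'' | h''
    · rw [coe_anticomm e]
      exact h''
    · exact absurd h'' one_ne_zero

/-- Two non-commuting involutions have only involutions in their common centraliser. -/
theorem mul_self_of_commute_two (h2 : (2 : F) ≠ 0) {z z₁ x : PSL2 F} (hz : z ≠ 1) (hz2 : z * z = 1)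
    (hz₁ : z₁ ≠ 1) (hz₁2 : z₁ * z₁ = 1) (hne : z * z₁ ≠ z₁ * z) (h : x * z = z * x)
    (h₁ : x * z₁ = z₁ * x) : x * x = 1 := by
  obtain ⟨Z, rfl, hZ⟩ := exists_lift_involution h2 hz hz2
  obtain ⟨Z₁, rfl, hZ₁⟩ := exists_lift_involution h2 hz₁ hz₁2
  obtain ⟨X, rfl⟩ := QuotientGroup.mk_surjective x
  rcases commute_lift_cases h with e | e
  swap
  · exact mk_sq_of_anticomm h2 e
  rcases commute_lift_cases h₁ with e₁ | e₁
  swap
  · exact mk_sq_of_anticomm h2 e₁
  by_cases hc : X ∈ Subgroup.center (SL2 F)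
  · rw [(QuotientGroup.eq_one_iff X).2 hc, mul_one]
  · exact absurd (by rw [← QuotientGroup.mk_mul, ← QuotientGroup.mk_mul,
      (commute_of_commute hc (Commute.symm e) (Commute.symm e₁)).eq]) hne

/-- The subgroup is not all of the centraliser of its central involution. -/
theorem not_binary_of_lt_centralizer [Finite F] (h2 : (2 : F) ≠ 0) {z : PSL2 F} (hz : z ≠ 1)
    (hz2 : z * z = 1) {H : Subgroup (PSL2 F)} (hzH : z ∈ H)
    (hH : ∀ x ∈ H, x * z = z * x) {x : PSL2 F} (hx : x * z = z * x) (hxH : x ∉ H) :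
    ¬ Binary H := by
  obtain ⟨Z, rfl, hZ⟩ := exists_lift_involution h2 hz hz2
  -- an involution of the centraliser outside `H`
  obtain ⟨r, hr, hrH, hr2⟩ : ∃ r : PSL2 F, r * π Z = π Z * r ∧ r ∉ H ∧ r * r = 1 := by
    obtain ⟨X, rfl⟩ := QuotientGroup.mk_surjective x
    rcases commute_lift_cases hx with e | e
    swap
    · exact ⟨_, hx, hxH, mk_sq_of_anticomm h2 e⟩
    obtain ⟨R, hR, hRZ⟩ := exists_inverting_elt (g := Z) (by
      rw [hZ, zero_pow two_ne_zero, show (4 : F) = 2 * 2 by norm_num]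
      exact (mul_ne_zero h2 h2).symm)
    have hRA : R * Z = -(Z * R) := by
      have hi := conj_eq_inv_of_tr_zero hR hRZ
      rw [show Z⁻¹ = -Z from inv_eq_of_mul_eq_one_right
        (by rw [mul_neg, sq_eq_neg_one_of_tr_zero hZ, neg_neg]), mul_inv_eq_iff_eq_mul] at hi
      rw [hi, neg_mul]
    have hcR : π R * π Z = π Z * π R := by
      rw [← QuotientGroup.mk_mul, ← QuotientGroup.mk_mul, hRA, mk_neg]
    by_cases hRH : π R ∈ H
    · have hRX : R * X * Z = -(Z * (R * X)) := by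
        rw [mul_assoc, e, ← mul_assoc, hRA, neg_mul, mul_assoc]
      refine ⟨π (R * X), ?_, fun hc => hxH ?_, mk_sq_of_anticomm h2 hRX⟩
      · rw [← QuotientGroup.mk_mul, ← QuotientGroup.mk_mul, hRX, mk_neg]
      · have := H.mul_mem (H.inv_mem hRH) hc
        rwa [QuotientGroup.mk_mul, inv_mul_cancel_left] at this
    · exact ⟨_, hcR, hRH, mk_sq_of_anticomm h2 hRA⟩
  have hr1 : r ≠ 1 := fun e => hrH (e ▸ H.one_mem)
  have hne : π Z ≠ r := fun e => hrH (e ▸ hzH)
  obtain ⟨A, B, hAz, rfl, hA, hB, hAB⟩ := exists_lift_pair h2 hz hr1 hz2 hr2 hr.symm hne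
  obtain ⟨W, hW1, hW2⟩ := exists_cycle h2 hA hB hAB
  rw [← hAz] at hz hz2 hzH hH hr hne
  set z := π A with hzdef
  set r := π B with hrdef
  set w := π W with hwdef
  have w1 : w * z = r * w := by
    rw [hwdef, hzdef, hrdef, ← QuotientGroup.mk_mul, ← QuotientGroup.mk_mul]
    exact congrArg _ (Subtype.ext (by simpa using hW1))
  have w2 : w * r = z * r * w := by
    rw [hwdef, hzdef, hrdef, ← QuotientGroup.mk_mul, ← QuotientGroup.mk_mul, ← QuotientGroup.mk_mul]
    exact congrArg _ (Subtype.ext (by simpa using hW2))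
  have hzr : z * r ∉ H := fun h => hrH (by simpa using H.mul_mem (H.inv_mem hzH) h)
  have iz : z⁻¹ = z := inv_eq_of_mul_eq_one_right hz2
  have w3 : w * (z * r) = z * w := by
    rw [← mul_assoc, w1, mul_assoc, w2, ← mul_assoc, ← mul_assoc, ← hr.symm, mul_assoc z, hr2,
      mul_one]
  have c1 : w⁻¹ * r * w = z := by rw [mul_assoc, ← w1, inv_mul_cancel_left]
  have c2 : w⁻¹ * (z * r) * w = r := by rw [mul_assoc, ← w2, inv_mul_cancel_left]
  have c3 : w⁻¹ * z * w = z * r := by rw [mul_assoc, ← w3, inv_mul_cancel_left]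
  have d1 : (w * w)⁻¹ * (z * r) * (w * w) = z := by
    rw [_root_.mul_inv_rev, show w⁻¹ * w⁻¹ * (z * r) * (w * w) = w⁻¹ * (w⁻¹ * (z * r) * w) * w by group,
      c2, c1]
  refine not_binary_of_triangle (a := z) (b := r) (c := z * r) (g₀ := 1) (g₁ := w) (g₂ := w * w)
    (by simpa using hzH) (by rw [c1]; exact hzH) (by rw [d1]; exact hzH)
    (by rw [← mul_assoc, hr, mul_assoc, hr2, mul_one]) fun e he₀ he₁ he₂ => ?_
  have heH : e ∈ H := by simpa using he₀
  have her : e * r = r * e := by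
    have h' := congrArg (fun g => w * g * w⁻¹) (hH _ he₁)
    rw [show r = w * z * w⁻¹ by rw [w1, mul_inv_cancel_right]]
    calc e * (w * z * w⁻¹) = w * (w⁻¹ * e * w * z) * w⁻¹ := by group
      _ = w * (z * (w⁻¹ * e * w)) * w⁻¹ := h'
      _ = w * z * w⁻¹ * e := by group
  rcases eq_of_commute_pair h2 hz hr1 hz2 hr2 hr.symm hne (hH e heH) her with
    rfl | rfl | rfl | rfl
  · rw [inv_one, one_mul, _root_.mul_inv_rev,
      show w⁻¹ * w⁻¹ * z * (w * w) = w⁻¹ * (w⁻¹ * z * w) * w by group, c3, c2] at he₂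
    exact hrH he₂
  · rw [c3] at he₁
    exact hzr he₁
  · exact hrH heH
  · exact hzr heH

/-- Trace bookkeeping for two anticommuting square roots of `-1`. -/
theorem klein_traces {A B : Matrix (Fin 2) (Fin 2) F} (hAA : A * A = -1) (hBB : B * B = -1)
    (hBA : B * A = -(A * B)) (tA : A.trace = 0) (tB : B.trace = 0) (tC : (A * B).trace = 0)
    {x y : F} (hxy : x ^ 2 + y ^ 2 = 1) :
    (y • B + x • (A * B)) * (y • B + x • (A * B)) = -1 ∧
    A * (y • B + x • (A * B)) = -((y • B + x • (A * B)) * A) ∧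
    (y • B + x • (A * B)).trace = 0 ∧
    (A * (y • (A * B) + x • A)).trace = -(2 * x) ∧
    (A * (y • A + x • B)).trace = -(2 * y) ∧
    ((y • B + x • (A * B)) * (y • (A * B) + x • A)).trace = -(2 * (x * y)) ∧
    ((y • B + x • (A * B)) * (y • A + x • B)).trace = -(2 * (x * y)) ∧
    (A * (y • B + x • (A * B))).trace = 0 ∧
    ((y • (A * B) + x • A) * (A * B)).trace = -(2 * y) ∧
    ((y • A + x • B) * B).trace = -(2 * x) ∧
    (A * (A * B)).trace = 0 := by
  have hA' : ∀ M, A * (A * M) = -M := fun M => by rw [← mul_assoc, hAA, neg_mul, one_mul]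
  have hB' : ∀ M, B * (B * M) = -M := fun M => by rw [← mul_assoc, hBB, neg_mul, one_mul]
  have hBA' : ∀ M, B * (A * M) = -(A * (B * M)) := fun M => by
    rw [← mul_assoc, hBA, neg_mul, mul_assoc]
  refine ⟨?_, ?_, ?_, ?_, ?_, ?_, ?_, ?_, ?_, ?_, ?_⟩
  · simp only [mul_add, add_mul, Matrix.smul_mul, Matrix.mul_smul, mul_assoc, hAA, hBB, hA', hB',
      hBA, hBA', mul_neg, neg_mul, neg_neg, mul_one, smul_neg, smul_smul]
    match_scalars <;> first | (ring; done) | linear_combination hxy | linear_combination -hxy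
  · simp only [mul_add, add_mul, Matrix.smul_mul, Matrix.mul_smul, mul_assoc, hAA, hBB, hA', hB',
      hBA, hBA', mul_neg, neg_mul, neg_neg, mul_one, smul_neg]
    abel
  all_goals
    simp only [mul_add, add_mul, Matrix.smul_mul, Matrix.mul_smul, mul_assoc, hAA, hBB, hA', hB',
      hBA, hBA', mul_neg, neg_mul, neg_neg, mul_one, smul_neg, smul_smul, Matrix.trace_add,
      Matrix.trace_neg, Matrix.trace_smul, Matrix.trace_one, Fintype.card_fin, tA, tB, tC,
      smul_eq_mul, smul_zero, mul_zero, add_zero, zero_add, neg_zero, Nat.cast_ofNat]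
  all_goals ring

/-- The full centraliser of an involution. -/
theorem not_binary_centralizer [Finite F] (h7 : 7 ≤ Nat.card F) (hodd : Odd (Nat.card F))
    {z : PSL2 F} (hz : z ≠ 1) (hz2 : z * z = 1) {H : Subgroup (PSL2 F)}
    (hH : ∀ x : PSL2 F, x ∈ H ↔ x * z = z * x) : ¬ Binary H := by
  intro hbin
  have h2 : (2 : F) ≠ 0 := two_ne_zero_iff_odd.2 hodd
  obtain ⟨A₀, hA₀, hA⟩ := exists_lift_involution h2 hz hz2
  obtain ⟨B, hB, hBA⟩ := exists_inverting_elt (g := A₀) (by
      rw [hA, zero_pow two_ne_zero, show (4 : F) = 2 * 2 by norm_num]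
      exact (mul_ne_zero h2 h2).symm)
  have hAB : A₀ * B = -(B * A₀) := by
    have hi := conj_eq_inv_of_tr_zero hB hBA
    rw [show A₀⁻¹ = -A₀ from inv_eq_of_mul_eq_one_right
        (by rw [mul_neg, sq_eq_neg_one_of_tr_zero hA, neg_neg]), mul_inv_eq_iff_eq_mul] at hi
    rw [hi, neg_mul, neg_neg]
  -- a second involution commuting with `z`, off the four-group
  obtain ⟨x, y, hxy, hx, hy⟩ : ∃ x y : F, x ^ 2 + y ^ 2 = 1 ∧ x ≠ 0 ∧ y ≠ 0 := by
    classical
    have := Fintype.ofFinite F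
    obtain ⟨t, ht⟩ : ∃ t : F, t ∉ (({0, 1, -1} : Finset F) ∪
        Finset.univ.filter fun t : F => t ^ 2 = -1) := by
      by_contra hcon
      push Not at hcon
      have hsq : (Finset.univ.filter fun t : F => t ^ 2 = -1).card ≤ 2 := by
        by_cases he : ∃ s : F, s ^ 2 = -1
        · obtain ⟨s, hs⟩ := he
          refine (Finset.card_le_card (t := {s, -s}) fun t ht => ?_).trans Finset.card_le_two
          rcases sq_eq_sq_iff_eq_or_eq_neg.1 ((Finset.mem_filter.1 ht).2.trans hs.symm) with h | h <;>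
            simp [h]
        · rw [Finset.filter_eq_empty_iff.2 fun t _ h => he ⟨t, h⟩, Finset.card_empty]
          norm_num
      have := (Finset.card_le_card (fun t (_ : t ∈ (Finset.univ : Finset F)) => hcon t)).trans
        (Finset.card_union_le _ _)
      rw [Finset.card_univ, ← Nat.card_eq_fintype_card] at this
      have := Finset.card_le_three (a := (0 : F)) (b := 1) (c := -1)
      omega
    simp only [Finset.mem_union, Finset.mem_insert, Finset.mem_singleton, Finset.mem_filter,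
      Finset.mem_univ, true_and, not_or] at ht
    obtain ⟨⟨ht0, ht1, htm⟩, ht2⟩ := ht
    have hd : 1 + t ^ 2 ≠ 0 := fun e => ht2 (by linear_combination e)
    refine ⟨2 * t / (1 + t ^ 2), (1 - t ^ 2) / (1 + t ^ 2), by field_simp; ring,
      div_ne_zero (mul_ne_zero h2 ht0) hd, div_ne_zero (fun e => ?_) hd⟩
    rcases sq_eq_one_iff.1 (show t ^ 2 = 1 by linear_combination -e) with h | h
    exacts [ht1 h, htm h]
  have hcA := coe_sq_neg_one hA
  have hcB := coe_sq_neg_one hB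
  have hBA1 : B.1 * A₀.1 = -(A₀.1 * B.1) := by rw [coe_anticomm hAB, neg_neg]
  have tA : Matrix.trace A₀.1 = 0 := by rw [← tr_eq_trace, hA]
  have tB : Matrix.trace B.1 = 0 := by rw [← tr_eq_trace, hB]
  have tC : Matrix.trace (A₀.1 * B.1) = 0 := by
    have h := Matrix.trace_mul_comm B.1 A₀.1
    rw [hBA1, Matrix.trace_neg] at h
    exact (mul_eq_zero.1 (show (2 : F) * Matrix.trace (A₀.1 * B.1) = 0 by
      linear_combination -h)).resolve_left h2
  obtain ⟨hMM, hAM', tM, tA1, tA2, tZ1, tZ2, hAM, tC1, tB2, tAC⟩ :=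
    klein_traces hcA hcB hBA1 tA tB tC hxy
  set M : Matrix (Fin 2) (Fin 2) F := y • B.1 + x • (A₀.1 * B.1) with hM
  have hMd : M.det = 1 := by
    rw [Matrix.trace_fin_two] at tM
    have h00 := congrFun (congrFun hMM 0) 0
    simp [Matrix.mul_apply, Fin.sum_univ_two] at h00
    rw [Matrix.det_fin_two]
    linear_combination -h00 + M 0 0 * tM
  let Z : SL2 F := ⟨M, hMd⟩
  have hZ : tr Z = 0 := by rw [tr_eq_trace]; exact tM
  have hAZ : A₀ * Z = -(Z * A₀) := Subtype.ext (by simpa using hAM')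
  have hz' : π Z ≠ 1 := ne_one_of_tr_zero h2 hZ
  have hz'2 : π Z * π Z = 1 := mk_sq_of_anticomm h2 (X := Z) (Y := A₀) (by rw [hAZ, neg_neg])
  -- move `H` onto the centraliser of the new involution
  obtain ⟨k, hk⟩ := isConj_iff.1 (involution_isConj hodd
    (orderOf_eq_prime (by rw [pow_two, hz2]) hz) (orderOf_eq_prime (by rw [pow_two, hz'2]) hz'))
  have hbin' := hbin.map (MulAut.conj k)
  set K := H.map (MulAut.conj k).toMonoidHom
  have hK : ∀ g, g ∈ K ↔ g * π Z = π Z * g := by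
    intro g
    rw [mem_conj_iff, hH, ← hk]
    constructor <;> intro h
    · calc g * (k * z * k⁻¹) = k * (k⁻¹ * g * k * z) * k⁻¹ := by group
        _ = k * (z * (k⁻¹ * g * k)) * k⁻¹ := by rw [h]
        _ = k * z * k⁻¹ * g := by group
    · calc k⁻¹ * g * k * z = k⁻¹ * (g * (k * z * k⁻¹)) * k := by group
        _ = k⁻¹ * (k * z * k⁻¹ * g) * k := by rw [h]
        _ = z * (k⁻¹ * g * k) := by group
  obtain ⟨W, hW1, hW2⟩ := exists_cycle h2 hA hB hAB
  have hW3 : W.1 * (A₀.1 * B.1) = A₀.1 * W.1 := by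
    rw [← mul_assoc, hW1, mul_assoc, hW2, ← mul_assoc, ← mul_assoc, hBA1, neg_mul, mul_assoc A₀.1,
      hcB, mul_neg, mul_one, neg_neg]
  set Z₁ : SL2 F := W * Z * W⁻¹ with hZ₁
  set Z₂ : SL2 F := W * Z₁ * W⁻¹ with hZ₂
  have hWinv : W.1 * (W⁻¹ : SL2 F).1 = 1 := by
    rw [← Matrix.SpecialLinearGroup.coe_mul, mul_inv_cancel, Matrix.SpecialLinearGroup.coe_one]
  have mZ₁ : Z₁.1 = y • (A₀.1 * B.1) + x • A₀.1 := by
    rw [hZ₁, Matrix.SpecialLinearGroup.coe_mul, Matrix.SpecialLinearGroup.coe_mul]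
    show W.1 * M * _ = _
    rw [hM, mul_add, Matrix.mul_smul, Matrix.mul_smul, hW2, hW3, add_mul, Matrix.smul_mul,
      Matrix.smul_mul, mul_assoc, hWinv, mul_one, mul_assoc, hWinv, mul_one]
  have mZ₂ : Z₂.1 = y • A₀.1 + x • B.1 := by
    rw [hZ₂, Matrix.SpecialLinearGroup.coe_mul, Matrix.SpecialLinearGroup.coe_mul, mZ₁, mul_add,
      Matrix.mul_smul, Matrix.mul_smul, hW3, hW1, add_mul, Matrix.smul_mul,
      Matrix.smul_mul, mul_assoc, hWinv, mul_one, mul_assoc, hWinv, mul_one]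
  have hx2 : ∀ u : F, u ≠ 0 → -(2 * u) ≠ 0 := fun u hu => neg_ne_zero.2 (mul_ne_zero h2 hu)
  rw [← mZ₁] at tA1 tZ1 tC1
  rw [← mZ₂] at tA2 tZ2 tB2
  have tr2 : Matrix.trace (1 : Matrix (Fin 2) (Fin 2) F) = 2 := by simp
  have tZ₁ : tr Z₁ = 0 := by rw [hZ₁, tr_conj, hZ]
  have tZ₂ : tr Z₂ = 0 := by rw [hZ₂, tr_conj, tZ₁]
  -- none of the four pairs commutes
  have n_a1 : π A₀ * π Z₁ ≠ π Z₁ * π A₀ := fun h => by
    rcases tr_mul_cases h2 hA tZ₁ h with e | e | e
    · exact hx2 x hx (tA1 ▸ e)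
    all_goals
      rw [e] at tC1
      simp only [neg_mul, Matrix.trace_neg, tAC, neg_zero] at tC1
      exact hx2 y hy tC1.symm
  have n_a2 : π A₀ * π Z₂ ≠ π Z₂ * π A₀ := fun h => by
    rcases tr_mul_cases h2 hA tZ₂ h with e | e | e
    · exact hx2 y hy (tA2 ▸ e)
    all_goals
      rw [e] at tB2
      simp only [neg_mul, Matrix.trace_neg, tC, neg_zero] at tB2
      exact hx2 x hx tB2.symm
  have n_z1 : π Z * π Z₁ ≠ π Z₁ * π Z := fun h => by
    rcases tr_mul_cases h2 hZ tZ₁ h with e | e | e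
    · exact hx2 _ (mul_ne_zero hx hy) (tZ1 ▸ e)
    all_goals
      rw [e, show Z.1 = M from rfl] at tA1
      simp only [mul_neg, Matrix.trace_neg, hAM, neg_zero] at tA1
      exact hx2 x hx tA1.symm
  have n_z2 : π Z * π Z₂ ≠ π Z₂ * π Z := fun h => by
    rcases tr_mul_cases h2 hZ tZ₂ h with e | e | e
    · exact hx2 _ (mul_ne_zero hx hy) (tZ2 ▸ e)
    all_goals
      rw [e, show Z.1 = M from rfl] at tA2
      simp only [mul_neg, Matrix.trace_neg, hAM, neg_zero] at tA2
      exact hx2 y hy tA2.symm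
  set z' := π Z with hz'def
  set a := π A₀ with hadef
  set b := π B with hbdef
  set w := π W with hwdef
  have haz : a * z' = z' * a := by
    rw [hadef, hz'def, ← QuotientGroup.mk_mul, ← QuotientGroup.mk_mul, hAZ, mk_neg]
  have w1 : w * a = b * w := by
    rw [hwdef, hadef, hbdef, ← QuotientGroup.mk_mul, ← QuotientGroup.mk_mul]
    exact congrArg _ (Subtype.ext (by simpa using hW1))
  have w2 : w * b = a * b * w := by
    rw [hwdef, hadef, hbdef, ← QuotientGroup.mk_mul, ← QuotientGroup.mk_mul, ← QuotientGroup.mk_mul]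
    exact congrArg _ (Subtype.ext (by simpa using hW2))
  have c1 : w⁻¹ * b * w = a := by rw [mul_assoc, ← w1, inv_mul_cancel_left]
  have d1 : (w * w)⁻¹ * (a * b) * (w * w) = a := by
    rw [_root_.mul_inv_rev, show w⁻¹ * w⁻¹ * (a * b) * (w * w) = w⁻¹ * (w⁻¹ * (a * b) * w) * w by group,
      show w⁻¹ * (a * b) * w = b by rw [mul_assoc, ← w2, inv_mul_cancel_left], c1]
  have ha1 : a ≠ 1 := hA₀ ▸ hz
  have ha2 : a * a = 1 := hA₀ ▸ hz2
  have hab : a * b = b * a := by
    rw [hadef, hbdef, ← QuotientGroup.mk_mul, ← QuotientGroup.mk_mul, hAB, mk_neg]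
  have hb2 : b * b = 1 := mk_sq_of_anticomm h2 (X := B) (Y := A₀) (by rw [hAB, neg_neg])
  obtain ⟨e, he₀, he₁, he₂⟩ := hbin'.triangle (a := a) (b := b) (c := a * b) (g₀ := 1) (g₁ := w)
    (g₂ := w * w) (by simpa [hK] using haz) (by rw [c1, hK]; exact haz) (by rw [d1, hK]; exact haz)
    (by rw [← mul_assoc, ← hab, mul_assoc, hb2, mul_one])
  have hez : e * z' = z' * e := by simpa [hK] using he₀
  have conj : ∀ g v : PSL2 F, g⁻¹ * v * g ∈ K → v * (g * z' * g⁻¹) = g * z' * g⁻¹ * v := by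
    intro g v h
    have h' := (hK _).1 h
    calc v * (g * z' * g⁻¹) = g * (g⁻¹ * v * g * z') * g⁻¹ := by group
      _ = g * (z' * (g⁻¹ * v * g)) * g⁻¹ := by rw [h']
      _ = g * z' * g⁻¹ * v := by group
  have hez₁ : e * π Z₁ = π Z₁ * e := by
    have := conj w e he₁
    rwa [hZ₁, QuotientGroup.mk_mul, QuotientGroup.mk_mul, QuotientGroup.mk_inv]
  have hfz₂ : e⁻¹ * a * π Z₂ = π Z₂ * (e⁻¹ * a) := by
    have := conj (w * w) _ he₂
    rw [hZ₂, hZ₁, QuotientGroup.mk_mul, QuotientGroup.mk_mul, QuotientGroup.mk_mul,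
      QuotientGroup.mk_mul, QuotientGroup.mk_inv]
    rw [show w * (w * z' * w⁻¹) * w⁻¹ = w * w * z' * (w * w)⁻¹ by group]
    exact this
  have hez2 : (e⁻¹ * a) * z' = z' * (e⁻¹ * a) := by
    rw [mul_assoc, haz, ← mul_assoc, ← mul_assoc]
    exact congrArg (· * a) ((show Commute e z' from hez).inv_left.eq)
  have hz₁ : π Z₁ ≠ 1 := ne_one_of_tr_zero h2 tZ₁
  have hz₂ : π Z₂ ≠ 1 := ne_one_of_tr_zero h2 tZ₂
  have sq0 : ∀ {X : SL2 F}, tr X = 0 → π X * π X = 1 := fun {X} hX => by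
    rw [← QuotientGroup.mk_mul, mk_one_iff]
    exact Or.inr (sq_eq_neg_one_of_tr_zero hX)
  have he2 := mul_self_of_commute_two h2 hz' hz'2 hz₁ (sq0 tZ₁) n_z1 hez hez₁
  have hf2 := mul_self_of_commute_two h2 hz' hz'2 hz₂ (sq0 tZ₂) n_z2 hez2 hfz₂
  have hie : e⁻¹ = e := inv_eq_of_mul_eq_one_right he2
  have hea : e * a = a * e := by
    rw [hie] at hf2
    calc e * a = (e * a)⁻¹ := (inv_eq_of_mul_eq_one_right hf2).symm
      _ = a * e := by rw [_root_.mul_inv_rev, hie, inv_eq_of_mul_eq_one_right ha2]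
  have haz' : a ≠ z' := by
    intro e'
    rcases mk_eq_mk_iff.1 e' with h | h <;>
      have h' := congrArg (fun N : SL2 F => Matrix.trace (A₀.1 * N.1)) h <;>
      simp [hcA, show Z.1 = M from rfl, hAM, tr2, h2] at h'
  rcases eq_of_commute_pair h2 ha1 hz' ha2 hz'2 haz haz' hea hez with rfl | rfl | rfl | rfl
  · rw [inv_one, one_mul] at hfz₂
    exact n_a2 hfz₂
  · exact n_a1 hez₁
  · exact n_z1 hez₁
  · rw [hie, show a * z' * a = z' by rw [haz, mul_assoc, ha2, mul_one]] at hfz₂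
    exact n_z2 hfz₂

/-- Subgroups inside an involution centraliser containing that involution. -/
theorem not_binary_of_le_centralizer [Finite F] (h7 : 7 ≤ Nat.card F) (hodd : Odd (Nat.card F))
    {z : PSL2 F} (hz : z ≠ 1) (hz2 : z * z = 1) {H : Subgroup (PSL2 F)} (hzH : z ∈ H)
    (hH : ∀ x ∈ H, x * z = z * x) : ¬ Binary H := by
  by_cases h : ∀ x : PSL2 F, x * z = z * x → x ∈ H
  · exact not_binary_centralizer h7 hodd hz hz2 fun x => ⟨hH x, h x⟩
  · push Not at h
    obtain ⟨x, hx, hxH⟩ := h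
    exact not_binary_of_lt_centralizer (two_ne_zero_iff_odd.2 hodd) hz hz2 hzH hH hx hxH

end Cfsg.Agent.BinaryPSL
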