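/-
Tools for `PSL_2(q)`: upper triangular elements, centralisers, four-groups of involutions.

Main results (namespace `Cfsg.Agent.BinaryPSL`):
* `bor`, `mk_bor_eq_iff`, `mk_smul_pinf_iff`, `exists_conj_bor` : upper triangular elements
* `commute_of_commute_psl`   : centralisers of elements that are not involutions are abelian
* `conj_eq_inv_of_inverting` : what inverts an element inverts its centraliser
* `exists_four`              : two commuting involutions
* `involution_conj`          : involutions are conjugate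
-/
import Cfsg.Agent.Lib.BinaryPSL.Klein
import Cfsg.Agent.Lib.BinaryPSL.Criteria
import Cfsg.Agent.Lib.PSL2.Transvections

set_option autoImplicit false
set_option linter.unusedSectionVars false

open Matrix MulAction

namespace Cfsg.Agent.BinaryPSL

open PSL2

variable {F : Type*} [Field F]

local notation "π" => (QuotientGroup.mk : SL2 F → PSL2 F)

/-- The element `(l, b; 0, l⁻¹)`. -/
def bor (l : Fˣ) (b : F) : SL2 F :=
  ⟨!![(l : F), b; 0, ((l⁻¹ : Fˣ) : F)], by
    rw [Matrix.det_fin_two_of, mul_zero, sub_zero, ← Units.val_mul, mul_inv_cancel, Units.val_one]⟩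

theorem bor_coe (l : Fˣ) (b : F) : (bor l b).1 = !![(l : F), b; 0, ((l⁻¹ : Fˣ) : F)] := rfl

theorem bor_mul (l l' : Fˣ) (b b' : F) :
    bor l b * bor l' b' = bor (l * l') (l * b' + b * ((l'⁻¹ : Fˣ) : F)) := by
  apply Subtype.ext
  rw [Matrix.SpecialLinearGroup.coe_mul, bor_coe, bor_coe, bor_coe]
  ext i j
  fin_cases i <;> fin_cases j <;> simp [Matrix.mul_apply, Fin.sum_univ_two, mul_comm]

theorem bor_one : bor (1 : Fˣ) (0 : F) = 1 := by
  apply Subtype.ext
  ext i j
  fin_cases i <;> fin_cases j <;> simp [bor]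

theorem upT_eq_bor (b : F) : upT b = bor (1 : Fˣ) b := by
  apply Subtype.ext
  ext i j
  fin_cases i <;> fin_cases j <;> simp [bor, upT]

theorem upT_add (a b : F) : upT (a + b) = upT a * upT b := by
  rw [upT_eq_bor, upT_eq_bor, upT_eq_bor, bor_mul, mul_one, inv_one, Units.val_one, one_mul,
    mul_one, add_comm]

theorem upT_zero : upT (0 : F) = 1 := by rw [upT_eq_bor, bor_one]

theorem bor_inv (l : Fˣ) (b : F) : (bor l b)⁻¹ = bor l⁻¹ (-b) := by
  refine inv_eq_of_mul_eq_one_right ?_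
  rw [bor_mul, mul_inv_cancel, inv_inv, ← bor_one]
  congr 1
  ring

theorem mk_bor_eq_iff {l l' : Fˣ} {b b' : F} :
    π (bor l b) = π (bor l' b') ↔ (l = l' ∧ b = b') ∨ (l = -l' ∧ b = -b') := by
  rw [mk_eq_mk_iff]
  constructor
  · rintro (h | h) <;> [left; right] <;>
      refine ⟨Units.ext ?_, ?_⟩
    · simpa [bor_coe] using congrArg (fun g : SL2 F => g.1 0 0) h
    · simpa [bor_coe] using congrArg (fun g : SL2 F => g.1 0 1) h
    · simpa [bor_coe] using congrArg (fun g : SL2 F => g.1 0 0) h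
    · simpa [bor_coe] using congrArg (fun g : SL2 F => g.1 0 1) h
  · rintro (⟨rfl, rfl⟩ | ⟨rfl, rfl⟩)
    · exact Or.inl rfl
    · right
      apply Subtype.ext
      rw [Matrix.SpecialLinearGroup.coe_neg, bor_coe, bor_coe]
      ext i j
      fin_cases i <;> fin_cases j <;> simp [inv_neg]

theorem mk_bor_eq_one_iff {l : Fˣ} {b : F} :
    π (bor l b) = 1 ↔ (l = 1 ∨ l = -1) ∧ b = 0 := by
  rw [← QuotientGroup.mk_one, ← bor_one, mk_bor_eq_iff, neg_zero]
  tauto

theorem mk_smul_pinf_iff (g : SL2 F) : π g • (pinf : Pt F) = pinf ↔ g.1 1 0 = 0 := by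
  have h : g.1 0 0 * g.1 1 1 - g.1 0 1 * g.1 1 0 ≠ 0 := by rw [det_eq g]; exact one_ne_zero
  have e : ProjectiveSpecialLinearGroup.toPGL (π g) =
      mob (g.1 0 0) (g.1 0 1) (g.1 1 0) (g.1 1 1) h := by
    rw [ProjectiveSpecialLinearGroup.toPGL_mk, mob]
    refine congrArg ProjGenLinGroup.mk (Units.ext ?_)
    rw [Matrix.SpecialLinearGroup.coe_GL_coe_matrix]
    ext i j
    fin_cases i <;> fin_cases j <;> rfl
  rw [← toPGL_smul, e, mob_smul_pinf_eq_pinf]

theorem exists_bor_of_fix {x : PSL2 F} (hx : x • (pinf : Pt F) = pinf) :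
    ∃ l b, x = π (bor l b) := by
  obtain ⟨g, rfl⟩ := QuotientGroup.mk_surjective x
  rw [mk_smul_pinf_iff] at hx
  have hd := det_eq g
  rw [hx, mul_zero, sub_zero] at hd
  refine ⟨⟨g.1 0 0, g.1 1 1, hd, by rw [mul_comm, hd]⟩, g.1 0 1, congrArg _ (Subtype.ext ?_)⟩
  ext i j
  fin_cases i <;> fin_cases j <;> simp [bor, hx]

/-- A subgroup fixing a point is conjugate to an upper triangular one. -/
theorem exists_conj_bor {H : Subgroup (PSL2 F)} {P : Pt F} (hP : ∀ h ∈ H, h • P = P) :
    ∃ k : PSL2 F, ∀ y ∈ H.map (MulAut.conj k).toMonoidHom, ∃ l b, y = π (bor l b) := by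
  have hk : ∃ k : PSL2 F, k • P = pinf := by
    rcases pt_cases P with rfl | ⟨x, rfl⟩
    · exact ⟨1, one_smul _ _⟩
    · have h : (0 : F) * -x - -1 * 1 ≠ 0 := by simp
      let k : SL2 F := ⟨!![0, -1; 1, -x], by rw [Matrix.det_fin_two_of]; ring⟩
      refine ⟨π k, ?_⟩
      rw [← toPGL_smul]
      have e : ProjectiveSpecialLinearGroup.toPGL (π k) = mob 0 (-1) 1 (-x) h := by
        rw [ProjectiveSpecialLinearGroup.toPGL_mk, mob]
        refine congrArg ProjGenLinGroup.mk (Units.ext ?_)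
        rw [Matrix.SpecialLinearGroup.coe_GL_coe_matrix]
        rfl
      rw [e, mob_smul_pt_eq_pinf]
      ring
  obtain ⟨k, hk⟩ := hk
  refine ⟨k, fun y hy => exists_bor_of_fix ?_⟩
  rw [mem_conj_iff] at hy
  have h := hP _ hy
  rw [mul_smul, mul_smul, inv_smul_eq_iff, hk] at h
  exact h

theorem one_ne_neg_one_of (h2 : (2 : F) ≠ 0) : (1 : Fˣ) ≠ -1 := fun e => h2 (by
  have h := congrArg (fun u : Fˣ => (u : F)) e
  simp only [Units.val_one, Units.val_neg] at h
  linear_combination h)

variable [Finite F]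

theorem three_le_orderOf {G : Type*} [Group G] [Finite G] {e : G} (he : e * e ≠ 1) :
    3 ≤ orderOf e := by
  by_contra h
  have hp := orderOf_pos e
  rcases (show orderOf e = 1 ∨ orderOf e = 2 by omega) with h | h
  · exact he (by rw [orderOf_eq_one_iff.1 h, mul_one])
  · exact he (by rw [← pow_two, ← h, pow_orderOf_eq_one])

/-- Centralisers of elements that are not involutions are abelian. -/
theorem commute_of_commute_psl {e x y : PSL2 F} (he : e * e ≠ 1) (hx : x * e = e * x)
    (hy : y * e = e * y) : x * y = y * x := by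
  obtain ⟨E, rfl⟩ := QuotientGroup.mk_surjective e
  obtain ⟨X, rfl⟩ := QuotientGroup.mk_surjective x
  obtain ⟨Y, rfl⟩ := QuotientGroup.mk_surjective y
  have hE : E ∉ Subgroup.center (SL2 F) := fun h => he (by
    rw [(QuotientGroup.eq_one_iff E).2 h, mul_one])
  have h3 := three_le_orderOf he
  rw [← QuotientGroup.mk_mul, ← QuotientGroup.mk_mul,
    (commute_of_commute hE (commute_lift hx h3) (commute_lift hy h3)).eq]

/-- What inverts an element that is not an involution inverts its centraliser. -/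
theorem conj_eq_inv_of_inverting {x t g : PSL2 F} (hx : x * x ≠ 1) (ht : t * x * t⁻¹ = x⁻¹)
    (hg : g * x = x * g) : t * g * t⁻¹ = g⁻¹ := by
  obtain ⟨X, rfl⟩ := QuotientGroup.mk_surjective x
  obtain ⟨W, rfl⟩ := QuotientGroup.mk_surjective t
  obtain ⟨G, rfl⟩ := QuotientGroup.mk_surjective g
  have hX : X ∉ Subgroup.center (SL2 F) := fun h => hx (by
    rw [(QuotientGroup.eq_one_iff X).2 h, mul_one])
  obtain ⟨a, b, hab⟩ := exists_lin_of_commute hX
    (congrArg Subtype.val (commute_lift hg (three_le_orderOf hx)).eq)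
  rw [← QuotientGroup.mk_inv, ← QuotientGroup.mk_inv, ← QuotientGroup.mk_mul,
    ← QuotientGroup.mk_mul, mk_eq_mk_iff] at ht
  have hconj : W * X * W⁻¹ = X⁻¹ := by
    rcases ht with e | e
    · exact e
    · have htr := tr_conj X W
      rw [e, tr_neg, tr_inv] at htr
      by_cases h2 : (2 : F) = 0
      · have hneg : (-1 : SL2 F) = 1 := by
          apply Subtype.ext
          have h1 : (-1 : F) = 1 := by linear_combination -h2
          ext i j
          fin_cases i <;> fin_cases j <;> simp [h1]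
        rw [e, ← neg_one_mul, hneg, one_mul]
      · refine absurd ?_ hx
        rw [← QuotientGroup.mk_mul, mk_one_iff]
        refine Or.inr (sq_eq_neg_one_of_tr_zero ?_)
        exact (mul_eq_zero.1 (show (2 : F) * tr X = 0 by linear_combination -htr)).resolve_left h2
  have hXi : X.1 * (X⁻¹ : SL2 F).1 = 1 := by
    rw [← Matrix.SpecialLinearGroup.coe_mul, mul_inv_cancel, Matrix.SpecialLinearGroup.coe_one]
  have hWi : W.1 * (W⁻¹ : SL2 F).1 = 1 := by
    rw [← Matrix.SpecialLinearGroup.coe_mul, mul_inv_cancel, Matrix.SpecialLinearGroup.coe_one]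
  have hXs : X.1 + (X⁻¹ : SL2 F).1 = tr X • (1 : Matrix (Fin 2) (Fin 2) F) := by
    ext i j
    fin_cases i <;> fin_cases j <;>
      simp [tr, Matrix.SpecialLinearGroup.coe_inv, Matrix.adjugate_fin_two, add_comm]
  have hd : a ^ 2 + tr X * a * b + b ^ 2 = 1 := by rw [← det_lin, ← hab]; exact G.2
  have key : G * (W * G * W⁻¹) = 1 := by
    apply Subtype.ext
    have hc : (W.1 * X.1 * (W⁻¹ : SL2 F).1) = (X⁻¹ : SL2 F).1 := by
      rw [← Matrix.SpecialLinearGroup.coe_mul, ← Matrix.SpecialLinearGroup.coe_mul, hconj]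
    rw [Matrix.SpecialLinearGroup.coe_mul, Matrix.SpecialLinearGroup.coe_mul,
      Matrix.SpecialLinearGroup.coe_mul, Matrix.SpecialLinearGroup.coe_one, hab]
    simp only [lin, mul_add, add_mul, Matrix.smul_mul, Matrix.mul_smul, mul_one, one_mul, hWi, hc,
      hXi, smul_smul]
    rw [show (X⁻¹ : SL2 F).1 = tr X • (1 : Matrix (Fin 2) (Fin 2) F) - X.1 from
      eq_sub_of_add_eq' hXs]
    rw [smul_sub, smul_smul]
    match_scalars <;> first | (ring; done) | linear_combination hd
  rw [← QuotientGroup.mk_inv, ← QuotientGroup.mk_inv, ← QuotientGroup.mk_mul,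
    ← QuotientGroup.mk_mul, eq_inv_of_mul_eq_one_right key]

theorem involution_conj {x y : PSL2 F} (hx : x ≠ 1) (hx2 : x * x = 1) (hy : y ≠ 1)
    (hy2 : y * y = 1) : ∃ k : PSL2 F, k * x * k⁻¹ = y := by
  obtain ⟨p, hp⟩ := CharP.exists F
  have : Fact p.Prime := ⟨CharP.char_is_prime F p⟩
  by_cases h2 : (2 : F) = 0
  swap
  · exact isConj_iff.1 (involution_isConj (two_ne_zero_iff_odd.1 h2)
      (orderOf_eq_prime (by rw [pow_two, hx2]) hx) (orderOf_eq_prime (by rw [pow_two, hy2]) hy))
  have hp2 : p = 2 := by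
    rcases (Nat.dvd_prime Nat.prime_two).1
      ((CharP.cast_eq_zero_iff F p 2).1 (by exact_mod_cast h2)) with h | h
    · exact absurd h (Fact.out : p.Prime).ne_one
    · exact h
  subst hp2
  -- every involution is conjugate to `upT 1`
  have key : ∀ {z : PSL2 F}, z ≠ 1 → z * z = 1 → ∃ k : PSL2 F, k * z * k⁻¹ = π (upT 1) := by
    intro z hz hz2
    obtain ⟨P, hP⟩ := exists_fix_of_pow_char 2 (z := z) (by rw [pow_two, hz2])
    obtain ⟨k, hk⟩ := exists_conj_bor (H := Subgroup.zpowers z) (P := P) (fun h hh => by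
      obtain ⟨i, rfl⟩ := hh
      exact MulAction.mem_stabilizer_iff.1
        ((MulAction.stabilizer (PSL2 F) P).zpow_mem (MulAction.mem_stabilizer_iff.2 hP) i))
    obtain ⟨l, b, hlb⟩ := hk (k * z * k⁻¹)
      (Subgroup.mem_map_of_mem (MulAut.conj k).toMonoidHom (Subgroup.mem_zpowers z))
    have h0 : k * z * k⁻¹ * (k * z * k⁻¹) = 1 := by
      rw [show k * z * k⁻¹ * (k * z * k⁻¹) = k * (z * z) * k⁻¹ by group, hz2, mul_one, mul_inv_cancel]
    have hneg : (-1 : Fˣ) = 1 := Units.ext (by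
      rw [Units.val_neg, Units.val_one]; linear_combination -h2)
    have hl : l = 1 := by
      rw [hlb, ← QuotientGroup.mk_mul, bor_mul, mk_bor_eq_one_iff] at h0
      have hll : l * l = 1 := by
        rcases h0.1 with h | h
        · exact h
        · rwa [hneg] at h
      rcases mul_self_eq_one_iff.1 (show (l : F) * l = 1 by rw [← Units.val_mul, hll, Units.val_one])
        with h | h
      · exact Units.ext h
      · rw [← hneg]; exact Units.ext (by rw [Units.val_neg, Units.val_one]; exact h)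
    subst hl
    have hb : b ≠ 0 := by
      rintro rfl
      rw [bor_one, QuotientGroup.mk_one, mul_inv_eq_one, mul_eq_left] at hlb
      exact hz hlb
    obtain ⟨s, hs⟩ := (Finite.injective_iff_surjective.1 (frobenius_inj F 2)) b
    rw [frobenius_def] at hs
    have hs0 : s ≠ 0 := by rintro rfl; exact hb (by rw [← hs]; simp)
    refine ⟨(π (bor (Units.mk0 s hs0) 0))⁻¹ * k, ?_⟩
    rw [show (π (bor (Units.mk0 s hs0) 0))⁻¹ * k * z * ((π (bor (Units.mk0 s hs0) 0))⁻¹ * k)⁻¹ =
      (π (bor (Units.mk0 s hs0) 0))⁻¹ * (k * z * k⁻¹) * π (bor (Units.mk0 s hs0) 0) by group, hlb,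
      ← QuotientGroup.mk_inv, bor_inv, ← QuotientGroup.mk_mul, ← QuotientGroup.mk_mul, bor_mul,
      bor_mul, upT_eq_bor]
    refine congrArg _ ?_
    congr 1
    · rw [mul_one, inv_mul_cancel]
    · simp only [Units.val_inv_eq_inv_val, Units.val_mk0, inv_inv, inv_one, Units.val_one, mul_zero,
        neg_zero, zero_mul, add_zero, mul_one, zero_add, ← hs]
      field_simp
  obtain ⟨k, hk⟩ := key hx hx2
  obtain ⟨k', hk'⟩ := key hy hy2
  exact ⟨k'⁻¹ * k, by
    rw [show k'⁻¹ * k * x * (k'⁻¹ * k)⁻¹ = k'⁻¹ * (k * x * k⁻¹) * k' by group, hk, ← hk']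
    group⟩

/-- Two commuting involutions. -/
theorem exists_four (h4 : 4 ≤ Nat.card F) :
    ∃ a b : PSL2 F, a * a = 1 ∧ b * b = 1 ∧ a * b = b * a ∧ a ≠ 1 ∧ b ≠ 1 ∧ a ≠ b := by
  by_cases h2 : (2 : F) = 0
  · obtain ⟨t, ht0, ht1⟩ : ∃ t : F, t ≠ 0 ∧ t ≠ 1 := by
      classical
      have := Fintype.ofFinite F
      obtain ⟨t, ht⟩ : ∃ t : F, t ∉ ({0, 1} : Finset F) := by
        by_contra hc
        push Not at hc
        have := Finset.card_le_card (fun t (_ : t ∈ (Finset.univ : Finset F)) => hc t)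
        rw [Finset.card_univ, ← Nat.card_eq_fintype_card] at this
        have := Finset.card_le_two (a := (0 : F)) (b := 1)
        omega
      simp only [Finset.mem_insert, Finset.mem_singleton, not_or] at ht
      exact ⟨t, ht⟩
    have hsq : ∀ c : F, π (upT c) * π (upT c) = 1 := fun c => by
      rw [← QuotientGroup.mk_mul, ← upT_add, show c + c = 0 by linear_combination c * h2, upT_zero,
        QuotientGroup.mk_one]
    have hne : ∀ c : F, c ≠ 0 → π (upT c) ≠ 1 := fun c hc e => by
      rw [upT_eq_bor, mk_bor_eq_one_iff] at e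
      exact hc e.2
    refine ⟨π (upT 1), π (upT t), hsq 1, hsq t, ?_, hne 1 one_ne_zero, hne t ht0, fun e => ht1 ?_⟩
    · rw [← QuotientGroup.mk_mul, ← QuotientGroup.mk_mul, ← upT_add, ← upT_add, add_comm]
    · rw [upT_eq_bor, upT_eq_bor, mk_bor_eq_iff] at e
      rcases e with ⟨-, e⟩ | ⟨-, e⟩
      · exact e.symm
      · linear_combination e - h2
  · have h4' : (4 : F) ≠ 0 := by rw [show (4 : F) = 2 * 2 by norm_num]; exact mul_ne_zero h2 h2
    let A : SL2 F := ⟨!![0, -1; 1, 0], by rw [Matrix.det_fin_two_of]; ring⟩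
    have hA : tr A = 0 := by simp [tr, A]
    obtain ⟨B, hB, hBA⟩ := exists_inverting_elt (g := A) (by
      rw [hA, zero_pow two_ne_zero]; exact h4'.symm)
    have hi := conj_eq_inv_of_tr_zero hB hBA
    rw [show A⁻¹ = -A from inv_eq_of_mul_eq_one_right
      (by rw [mul_neg, sq_eq_neg_one_of_tr_zero hA, neg_neg]), mul_inv_eq_iff_eq_mul, neg_mul] at hi
    refine ⟨π A, π B, mk_sq_of_anticomm h2 (X := A) (Y := B) (by rw [hi, neg_neg]),
      mk_sq_of_anticomm h2 (X := B) (Y := A) hi, ?_, ne_one_of_tr_zero h2 hA,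
      ne_one_of_tr_zero h2 hB, fun e => ?_⟩
    · rw [← QuotientGroup.mk_mul, ← QuotientGroup.mk_mul, hi, mk_neg]
    · rcases mk_eq_mk_iff.1 e with e | e <;> rw [e] at hi <;>
        simp only [neg_mul, mul_neg, neg_neg, sq_eq_neg_one_of_tr_zero hB] at hi <;>
        · have h := congrArg tr hi
          simp only [tr_neg, tr_one] at h
          first | exact h4' (by linear_combination h) | exact h4' (by linear_combination -h)

end Cfsg.Agent.BinaryPSL
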