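/-
Cyclic and dihedral stabilisers in `PSL_2(q)`.

Main results (namespace `Cfsg.Agent.BinaryPSL`):
* `not_binary_of_cyclic_odd`    : cyclic of odd order prime to the characteristic
* `not_binary_of_inverting_psl` : odd generalised dihedral
* `not_binary_of_dihedral`      : dihedral of order prime to `p` or with `q` even
* `not_binary_of_cyclic_even`
-/
import Cfsg.Agent.Lib.BinaryPSL.Tools
import Cfsg.Agent.Lib.GLOrder.TraceCover

set_option autoImplicit false
set_option linter.unusedSectionVars false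

open Matrix

namespace Cfsg.Agent.BinaryPSL

open PSL2

variable {F : Type*} [Field F] [Finite F]

local notation "π" => (QuotientGroup.mk : SL2 F → PSL2 F)

theorem isConj_of_tr {A B : SL2 F} (ht : tr A = tr B) (h4 : tr A ^ 2 ≠ 4) : IsConj A B := by
  by_cases h2 : (2 : F) = 0
  · have : CharP F 2 := by
      obtain ⟨p, hp⟩ := CharP.exists F
      rcases (Nat.dvd_prime Nat.prime_two).1
        ((CharP.cast_eq_zero_iff F p 2).1 (by exact_mod_cast h2)) with h | h
      · exact absurd h (CharP.char_ne_one F p)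
      · exact h ▸ hp
    exact GLOrder.isConj_of_trace_even ht (not_mem_center_of_tr_sq h4)
      (not_mem_center_of_tr_sq (ht ▸ h4))
  · exact GLOrder.isConj_of_trace_odd h2 ht h4

/-- Two elements of trace `τ` with product of trace `τ`. -/
theorem exists_trace_triple {τ : F} (h4 : τ ^ 2 ≠ 4) (h1 : τ + 1 ≠ 0) :
    ∃ B C : SL2 F, tr B = τ ∧ tr C = τ ∧ tr (B * C) = τ ∧ B * C ≠ C * B := by
  obtain ⟨x, u, hxu⟩ :
      ∃ x u : F, x ^ 2 + τ * x * u + u ^ 2 - τ * x + (τ - τ ^ 2) * u + 1 = 0 := by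
    by_cases h2 : (2 : F) = 0
    · obtain ⟨p, hp⟩ := CharP.exists F
      have hp2 : p = 2 := by
        rcases (Nat.dvd_prime Nat.prime_two).1
          ((CharP.cast_eq_zero_iff F p 2).1 (by exact_mod_cast h2)) with h | h
        · exact absurd h (CharP.char_ne_one F p)
        · exact h
      subst hp2
      obtain ⟨x, hx⟩ := FiniteField.isSquare_of_char_two (ringChar.eq F 2) (τ + τ ^ 2)
      exact ⟨x, 1, by linear_combination -hx + (τ + 1) * h2⟩
    · have := Fintype.ofFinite F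
      have hD : (2 - τ) * (2 + τ) ≠ 0 := fun e => h4 (by linear_combination -e)
      have hq : Fintype.card F % 2 = 1 := by
        rw [← Nat.card_eq_fintype_card]; exact Nat.odd_iff.1 (two_ne_zero_iff_odd.1 h2)
      obtain ⟨X, u, h⟩ := FiniteField.exists_root_sum_quadratic
        (f := Polynomial.C (1 : F) * Polynomial.X ^ 2 + Polynomial.C 0 * Polynomial.X + Polynomial.C 0)
        (g := Polynomial.C ((2 - τ) * (2 + τ)) * Polynomial.X ^ 2 +
          Polynomial.C (2 * τ * (2 - τ)) * Polynomial.X + Polynomial.C ((2 - τ) * (2 + τ)))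
        (Polynomial.degree_quadratic one_ne_zero) (Polynomial.degree_quadratic hD) hq
      simp only [Polynomial.eval_add, Polynomial.eval_mul, Polynomial.eval_pow, Polynomial.eval_C,
        Polynomial.eval_X] at h
      refine ⟨(X - τ * u + τ) / 2, u, ?_⟩
      field_simp
      linear_combination h
  let y := u + τ * x + τ - τ ^ 2
  let B : SL2 F := ⟨!![0, -1; 1, τ], by rw [Matrix.det_fin_two_of]; ring⟩
  let C : SL2 F := ⟨!![x, y; u, τ - x], by rw [Matrix.det_fin_two_of]; linear_combination -hxu⟩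
  have hBC : (B * C).1 = !![-u, x - τ; x + τ * u, y + τ * (τ - x)] := by
    rw [Matrix.SpecialLinearGroup.coe_mul]
    ext i j
    fin_cases i <;> fin_cases j <;> simp [B, C, Matrix.mul_apply, Fin.sum_univ_two]
  have hCB : (C * B).1 = !![y, -x + τ * y; τ - x, -u + τ * (τ - x)] := by
    rw [Matrix.SpecialLinearGroup.coe_mul]
    ext i j
    fin_cases i <;> fin_cases j <;> simp [B, C, Matrix.mul_apply, Fin.sum_univ_two] <;> ring
  refine ⟨B, C, by simp [tr, B], by simp [tr, C], ?_, fun e => ?_⟩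
  · rw [tr, hBC]
    simp only [Matrix.of_apply, Matrix.cons_val', Matrix.cons_val_zero, Matrix.cons_val_one,
      Matrix.empty_val', Matrix.cons_val_fin_one, y]
    ring
  · have e' := congrArg Subtype.val e
    rw [hBC, hCB] at e'
    have c00 := congrFun (congrFun e' 0) 0
    have c01 := congrFun (congrFun e' 0) 1
    simp [y] at c00 c01
    by_cases h2 : (2 : F) = 0
    · have k1 : τ * (u + 1) = 0 := by linear_combination c01 - τ * c00 + (τ - x) * h2
      have k2 : τ * (x - (1 + τ)) = 0 := by linear_combination -c00 - (u + τ) * h2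
      rcases mul_eq_zero.1 k1 with h | hu
      · exact h4 (by linear_combination (τ) * h - (2 : F) * h2)
      rcases mul_eq_zero.1 k2 with h | hx
      · exact h4 (by linear_combination (τ) * h - (2 : F) * h2)
      exact h1 (by linear_combination -hxu + (τ * x + u - 1 + τ - τ ^ 2) * hu + (x + 1 - τ) * hx +
        2 * h2)
    · have ht2 : (2 - τ) ≠ 0 := fun e => h4 (by linear_combination -(2 + τ) * e)
      have e2 : 2 * x + τ * u - τ = 0 := by linear_combination c01 - τ * c00
      have e1 : (2 + τ) * u + τ = 0 := by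
        refine (mul_eq_zero.1 (show (2 - τ) * ((2 + τ) * u + τ) = 0 from ?_)).resolve_left ht2
        linear_combination -2 * c00 - τ * e2
      refine h1 ((mul_eq_zero.1 (show (4 : F) * (τ + 1) = 0 from ?_)).resolve_left fun e4 => ?_)
      · refine (mul_eq_zero.1 (show (2 - τ) * ((4 : F) * (τ + 1)) = 0 from ?_)).resolve_left ht2
        linear_combination 4 * (2 + τ) * hxu - (2 + τ) * (2 * x + τ * u - τ) * e2 -
          (2 - τ) * ((2 + τ) * u + τ) * e1
      · rw [show (4 : F) = 2 * 2 by norm_num] at e4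
        exact h2 ((mul_eq_zero.1 e4).elim id id)

variable (p : ℕ) [Fact p.Prime] [CharP F p]

include p in
/-- Cyclic subgroups of odd order prime to `p`. -/
theorem not_binary_of_cyclic_odd {x : PSL2 F} (hx : ¬ orderOf x ∣ p) (hodd : Odd (orderOf x))
    (hex : (2 : F) = 0 → orderOf x = 3 → ∃ ω : F, ω ^ 2 + ω + 1 = 0) :
    ¬ Binary (Subgroup.zpowers x) := by
  obtain ⟨X, rfl, hX4, hX1⟩ : ∃ X : SL2 F, π X = x ∧ tr X ^ 2 ≠ 4 ∧
      ((2 : F) = 0 ∨ tr X + 1 ≠ 0) := by
    obtain ⟨X, rfl⟩ := QuotientGroup.mk_surjective x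
    have h4 := tr_sq_ne_four_of_not_dvd p hx
    by_cases h : (2 : F) = 0 ∨ tr X + 1 ≠ 0
    · exact ⟨X, rfl, h4, h⟩
    · push Not at h
      refine ⟨-X, mk_neg X, by rwa [tr_neg, neg_sq], Or.inr fun e => h.1 ?_⟩
      rw [tr_neg] at e
      linear_combination e + h.2
  obtain ⟨B, C, hB, hC, hBC, hne⟩ : ∃ B C : SL2 F, tr B = tr X ∧ tr C = tr X ∧ tr (B * C) = tr X ∧
      B * C ≠ C * B := by
    by_cases h1 : tr X + 1 ≠ 0
    · exact exists_trace_triple hX4 h1
    push Not at h1
    have h2 : (2 : F) = 0 := hX1.resolve_right (by simpa using h1)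
    have hX3 : orderOf (π X) = 3 := by
      have : Fact (Nat.Prime 3) := ⟨Nat.prime_three⟩
      refine orderOf_eq_prime ?_ fun e => hx (by rw [e, orderOf_one]; exact one_dvd p)
      rw [← QuotientGroup.mk_pow, mk_one_iff]
      left
      apply Subtype.ext
      have t1 : tr X = 1 := by linear_combination h1 - h2
      rw [Matrix.SpecialLinearGroup.coe_pow, pow_succ, pow_two, coe_sq, t1, one_smul, sub_mul,
        coe_sq, t1, one_smul, one_mul, sub_sub_cancel_left, Matrix.SpecialLinearGroup.coe_one]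
      rw [← neg_one_smul F (1 : Matrix (Fin 2) (Fin 2) F), show (-1 : F) = 1 by linear_combination -h2,
        one_smul]
    obtain ⟨ω, hω⟩ := hex h2 hX3
    have hw0 : ω ≠ 0 := by rintro rfl; simp at hω
    let w : Fˣ := Units.mk0 ω hw0
    have hwi : ((w⁻¹ : Fˣ) : F) = ω + 1 := by
      rw [Units.val_inv_eq_inv_val, Units.val_mk0]
      exact inv_eq_of_mul_eq_one_right (by linear_combination hω - h2)
    refine ⟨bor w 0, bor w 1, ?_, ?_, ?_, fun e => ?_⟩
    · rw [tr, bor_coe]
      simp only [Matrix.of_apply, Matrix.cons_val', Matrix.cons_val_zero, Matrix.cons_val_one,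
        Matrix.empty_val', Matrix.cons_val_fin_one, hwi]
      rw [Units.val_mk0]
      linear_combination (ω + 1) * h2 - h1
    · rw [tr, bor_coe]
      simp only [Matrix.of_apply, Matrix.cons_val', Matrix.cons_val_zero, Matrix.cons_val_one,
        Matrix.empty_val', Matrix.cons_val_fin_one, hwi]
      rw [Units.val_mk0]
      linear_combination (ω + 1) * h2 - h1
    · rw [bor_mul, tr, bor_coe]
      simp only [Matrix.of_apply, Matrix.cons_val', Matrix.cons_val_zero, Matrix.cons_val_one,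
        Matrix.empty_val', Matrix.cons_val_fin_one, _root_.mul_inv_rev, Units.val_mul, hwi]
      rw [Units.val_mk0]
      linear_combination 2 * hω - h1
    · rw [bor_mul, bor_mul] at e
      have e' := congrArg (fun g : SL2 F => g.1 0 1) e
      simp [bor_coe, hwi, w] at e'
  have conj : ∀ Y : SL2 F, tr Y = tr X → ∃ g : PSL2 F, g⁻¹ * π Y * g ∈ Subgroup.zpowers (π X) := by
    intro Y hY
    obtain ⟨c, hc⟩ := isConj_iff.1 (isConj_of_tr hY.symm hX4)
    refine ⟨π c, ?_⟩
    rw [← hc, QuotientGroup.mk_mul, QuotientGroup.mk_mul, QuotientGroup.mk_inv,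
      show (π c)⁻¹ * (π c * π X * (π c)⁻¹) * π c = π X by group]
    exact Subgroup.mem_zpowers _
  obtain ⟨g₀, h₀⟩ := conj _ hBC
  obtain ⟨g₁, h₁⟩ := conj _ hB
  obtain ⟨g₂, h₂⟩ := conj _ hC
  have h3 : 3 ≤ orderOf (π X) := by
    obtain ⟨j, hj⟩ := hodd
    rcases Nat.eq_zero_or_pos j with rfl | hj0
    · exact absurd (by rw [hj]; exact one_dvd p) hx
    · omega
  refine not_binary_of_abelian (fun s hs t ht => ?_) (fun e he he1 u v hu hv => ?_) h₀ h₁ h₂
    (by rw [QuotientGroup.mk_mul]) fun e => ?_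
  · obtain ⟨i, rfl⟩ := hs
    obtain ⟨j, rfl⟩ := ht
    exact ((Commute.refl (π X)).zpow_zpow i j).eq
  · refine commute_of_commute_psl (fun h => he1 ?_) hu hv
    have hd := Nat.Coprime.symm ((Nat.coprime_two_left).2 hodd)
    have h' : orderOf e ∣ Nat.gcd (orderOf (π X)) 2 :=
      Nat.dvd_gcd (orderOf_dvd_of_mem_zpowers he) (orderOf_dvd_of_pow_eq_one (by rw [pow_two, h]))
    rw [hd.gcd_eq_one, Nat.dvd_one, orderOf_eq_one_iff] at h'
    exact h'
  · refine hne (commute_lift e ?_).eq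
    obtain ⟨c, hc⟩ := isConj_iff.1 (isConj_of_tr hC.symm hX4)
    rw [← hc, QuotientGroup.mk_mul, QuotientGroup.mk_mul, QuotientGroup.mk_inv,
      show π c * π X * (π c)⁻¹ = MulAut.conj (π c) (π X) from rfl, MulEquiv.orderOf_eq]
    exact h3

include p in
/-- Cyclic subgroups of even order, `q` odd. -/
theorem not_binary_of_cyclic_even (h7 : 7 ≤ Nat.card F) (hodd : Odd (Nat.card F)) {x : PSL2 F}
    (hev : Even (orderOf x)) : ¬ Binary (Subgroup.zpowers x) := by
  obtain ⟨j, hj⟩ := hev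
  have hpos := orderOf_pos x
  refine not_binary_of_le_centralizer h7 hodd (z := x ^ j)
    (fun e => ?_) (by rw [← pow_add, ← hj, pow_orderOf_eq_one])
    (Subgroup.npow_mem_zpowers x j) fun y hy => ?_
  · have := Nat.le_of_dvd (by omega) (orderOf_dvd_of_pow_eq_one e)
    omega
  · obtain ⟨i, rfl⟩ := hy
    exact (((Commute.refl x).zpow_left i).pow_right j).eq

/-- Odd generalised dihedral subgroups. -/
theorem not_binary_of_inverting_psl (h4 : 4 ≤ Nat.card F) {H : Subgroup (PSL2 F)} {s : PSL2 F}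
    (hs : s ∈ H) (hs1 : s ≠ 1) (hs2 : s * s = 1)
    (hI : ∀ s ∈ H, ∀ t ∈ H, s * s = 1 → t * t = 1 → s ≠ 1 → t ≠ 1 → s * t = t * s → s = t)
    (hinv : ∀ s ∈ H, ∀ e ∈ H, s * s = 1 → s ≠ 1 → e * e ≠ 1 → s * e * s = e⁻¹) :
    ¬ Binary H := by
  obtain ⟨a, b, ha2, hb2, hab, ha1, hb1, hne⟩ := exists_four (F := F) h4
  have conj : ∀ y : PSL2 F, y ≠ 1 → y * y = 1 → ∃ g : PSL2 F, g⁻¹ * y * g ∈ H := by
    intro y hy hy2
    obtain ⟨k, hk⟩ := involution_conj hs1 hs2 hy hy2
    exact ⟨k, by rwa [← hk, show k⁻¹ * (k * s * k⁻¹) * k = s by group]⟩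
  obtain ⟨g₀, h₀⟩ := conj a ha1 ha2
  obtain ⟨g₁, h₁⟩ := conj b hb1 hb2
  obtain ⟨g₂, h₂⟩ := conj (a * b) (fun e => hne (by
      rw [eq_inv_of_mul_eq_one_left e, inv_eq_of_mul_eq_one_right hb2]))
    (by rw [mul_assoc, ← mul_assoc b, ← hab, mul_assoc a b, hb2, mul_one, ha2])
  exact not_binary_of_inverting hI hinv h₀ h₁ h₂ ha2 hb2 hab ha1 hb1 hne

theorem dihedral_r_two {n : ℕ} (hn : Odd n) {i : ZMod n}
    (h : DihedralGroup.r i * DihedralGroup.r i = 1) : i = 0 := by
  rw [DihedralGroup.r_mul_r, DihedralGroup.one_def] at h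
  have h' : (2 : ZMod n) * i = 0 := by rw [two_mul]; exact DihedralGroup.r.inj h
  have hu : IsUnit ((2 : ℕ) : ZMod n) := (ZMod.isUnit_iff_coprime 2 n).2 (Nat.coprime_two_left.2 hn)
  exact hu.mul_right_eq_zero.1 (by exact_mod_cast h')

theorem not_binary_of_dihedral_odd (h4 : 4 ≤ Nat.card F) {H : Subgroup (PSL2 F)} {n : ℕ}
    (hn : Odd n) (e : H ≃* DihedralGroup n) : ¬ Binary H := by
  have hne : ∀ x : H, (x : PSL2 F) ≠ 1 → e x ≠ 1 := fun x hx h =>
    hx (by rw [(map_eq_one_iff e e.injective).1 h]; rfl)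
  have inv : ∀ x : H, (x : PSL2 F) * x = 1 → (x : PSL2 F) ≠ 1 → ∃ i, e x = DihedralGroup.sr i := by
    intro x hx hx1
    have h2 : e x * e x = 1 := by rw [← map_mul, show x * x = 1 from Subtype.ext hx, map_one]
    have h1 := hne x hx1
    generalize e x = y at h2 h1
    cases y with
    | r i => exact absurd (by rw [dihedral_r_two hn h2]; rfl) h1
    | sr i => exact ⟨i, rfl⟩
  refine not_binary_of_inverting_psl h4 (s := (e.symm (DihedralGroup.sr 0) : PSL2 F))
    (SetLike.coe_mem _) (fun h => ?_) ?_ (fun s hs t ht s2 t2 s1 t1 hst => ?_)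
    (fun s hs y hy s2 s1 y2 => ?_)
  · have h' : e.symm (DihedralGroup.sr 0) = 1 := Subtype.ext h
    rw [map_eq_one_iff _ e.symm.injective, DihedralGroup.one_def] at h'
    exact absurd h' (fun h => nomatch h)
  · rw [← Subgroup.coe_mul, ← map_mul, DihedralGroup.sr_mul_self, map_one, Subgroup.coe_one]
  · obtain ⟨i, hi⟩ := inv ⟨s, hs⟩ s2 s1
    obtain ⟨j, hj⟩ := inv ⟨t, ht⟩ t2 t1
    have h := congrArg e (show (⟨s, hs⟩ * ⟨t, ht⟩ : H) = ⟨t, ht⟩ * ⟨s, hs⟩ from Subtype.ext hst)
    rw [map_mul, map_mul, hi, hj, DihedralGroup.sr_mul_sr, DihedralGroup.sr_mul_sr,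
      DihedralGroup.r.injEq] at h
    have := dihedral_r_two hn (i := j - i) (by
      rw [DihedralGroup.r_mul_r, DihedralGroup.one_def]; congr 1; linear_combination h)
    rw [sub_eq_zero] at this
    subst this
    exact congrArg Subtype.val (e.injective (hi.trans hj.symm))
  · obtain ⟨i, hi⟩ := inv ⟨s, hs⟩ s2 s1
    refine congrArg Subtype.val (e.injective (a₁ := ⟨s, hs⟩ * ⟨y, hy⟩ * ⟨s, hs⟩) (a₂ := ⟨y, hy⟩⁻¹) ?_)
    have hy2 : e ⟨y, hy⟩ * e ⟨y, hy⟩ ≠ 1 := fun h => y2 (by
      rw [← map_mul, map_eq_one_iff _ e.injective] at h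
      exact congrArg Subtype.val h)
    rw [map_mul, map_mul, map_inv, hi]
    generalize e ⟨y, hy⟩ = w at hy2
    cases w with
    | r j => simp only [DihedralGroup.sr_mul_r, DihedralGroup.sr_mul_sr, DihedralGroup.inv_r]; congr 1; ring
    | sr j => exact absurd (DihedralGroup.sr_mul_self j) hy2

theorem not_binary_of_dihedral_even (h7 : 7 ≤ Nat.card F) (hodd : Odd (Nat.card F))
    {H : Subgroup (PSL2 F)} {n : ℕ} (hn : Even n) (hn0 : 0 < n) (e : H ≃* DihedralGroup n) :
    ¬ Binary H := by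
  obtain ⟨j, rfl⟩ := hn
  set z : H := e.symm (DihedralGroup.r (j : ZMod (j + j)))
  have hjj : ((j : ZMod (j + j)) + j) = 0 := by rw [← Nat.cast_add, ZMod.natCast_self]
  refine not_binary_of_le_centralizer h7 hodd (z := (z : PSL2 F)) (fun h => ?_) ?_ z.2 fun y hy => ?_
  · have h' : z = 1 := Subtype.ext h
    rw [map_eq_one_iff _ e.symm.injective, DihedralGroup.one_def, DihedralGroup.r.injEq,
      ZMod.natCast_eq_zero_iff] at h'
    have := Nat.le_of_dvd (by omega) h'
    omega
  · rw [← Subgroup.coe_mul, ← map_mul, DihedralGroup.r_mul_r, hjj, ← DihedralGroup.one_def,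
      map_one, Subgroup.coe_one]
  · refine congrArg Subtype.val (e.injective (a₁ := ⟨y, hy⟩ * z) (a₂ := z * ⟨y, hy⟩) ?_)
    rw [map_mul, map_mul, MulEquiv.apply_symm_apply]
    rcases e ⟨y, hy⟩ with i | i
    · exact congrArg DihedralGroup.r (add_comm _ _) |> fun h => by rw [DihedralGroup.r_mul_r, DihedralGroup.r_mul_r]; exact h
    · rw [DihedralGroup.sr_mul_r, DihedralGroup.r_mul_sr]
      congr 1
      linear_combination hjj

end Cfsg.Agent.BinaryPSL
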