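/-
Translates of an additive subgroup of a finite field.

Main result (namespace `Cfsg.Agent.BinaryPSL`):
* `exists_translate` : some `l` has `W ∩ l W = 0` or `W + l W = F`
-/
import Cfsg.Agent.EqLemmas

set_option autoImplicit false

namespace Cfsg.Agent.BinaryPSL

variable {F : Type*} [Field F] [Finite F]

theorem exists_translate (W : AddSubgroup F) (hb : W ≠ ⊥) (ht : W ≠ ⊤) :
    ∃ l : F, l ≠ 0 ∧ l ≠ 1 ∧ ((∀ u ∈ W, l * u ∈ W → u = 0) ∨
      ∀ z : F, ∃ r ∈ W, ∃ t ∈ W, z = r + l * t) := by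
  classical
  have := Fintype.ofFinite F
  set q := Fintype.card F
  set Ws : Finset F := Finset.univ.filter fun x => x ∈ W
  set w := Ws.card with hw
  have hwW : Nat.card W = w := by
    rw [Nat.card_eq_fintype_card, Fintype.card_subtype]
  let S : F → ℕ := fun l => (Ws.filter fun u => l * u ∈ W).card
  have hdvd : ∀ A : AddSubgroup F, Nat.card A ∣ q := fun A => by
    rw [show q = Nat.card F from Nat.card_eq_fintype_card.symm]
    exact A.card_addSubgroup_dvd_card
  have hhalf : ∀ A : AddSubgroup F, A ≠ ⊤ → 2 * Nat.card A ≤ q := by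
    intro A hA
    obtain ⟨j, hj⟩ := hdvd A
    have hq : 0 < q := Fintype.card_pos
    rcases Nat.lt_or_ge j 2 with h | h
    · rcases (show j = 0 ∨ j = 1 by omega) with rfl | rfl
      · omega
      · exact absurd (AddSubgroup.eq_top_of_card_eq A
          (by rw [Nat.card_eq_fintype_card (α := F)]; omega)) hA
    · rw [hj, mul_comm]; exact Nat.mul_le_mul_left _ h
  by_contra hcon
  push Not at hcon
  -- each translate meets `W` and does not fill `F`
  have hS : ∀ l : F, l ≠ 0 → l ≠ 1 → 2 ≤ S l ∧ 2 * (w * w) ≤ S l * q := by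
    intro l hl0 hl1
    obtain ⟨⟨u, huW, hlu, hu0⟩, z, hz⟩ := hcon l hl0 hl1
    refine ⟨Finset.one_lt_card.2 ⟨0, by simp [Ws], u, by simp [Ws, huW, hlu], hu0.symm⟩, ?_⟩
    let f : W × W →+ F :=
      AddMonoidHom.mk' (fun x => (x.1 : F) + l * (x.2 : F)) fun x y => by
        simp only [Prod.fst_add, Prod.snd_add, AddSubgroup.coe_add]; ring
    have hne : f.range ≠ ⊤ := fun e => by
      obtain ⟨⟨r, t⟩, h⟩ := (e ▸ AddSubgroup.mem_top z : z ∈ f.range)
      exact hz r.1 r.2 t.1 t.2 h.symm
    have hker : Nat.card f.ker = S l := by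
      rw [show S l = Nat.card {u : F // u ∈ Ws.filter fun u => l * u ∈ W} by
        rw [Nat.card_eq_fintype_card, Fintype.card_coe]]
      refine Nat.card_congr
        { toFun := fun x => ⟨(x.1.2 : F), ?_⟩
          invFun := fun u => ⟨(⟨-(l * u.1), ?_⟩, ⟨u.1, ?_⟩), ?_⟩
          left_inv := ?_
          right_inv := fun u => rfl }
      · have h : (x.1.1 : F) + l * (x.1.2 : F) = 0 := x.2
        simp only [Finset.mem_filter, Ws, Finset.mem_univ, true_and]
        exact ⟨x.1.2.2, by rw [eq_neg_of_add_eq_zero_right h]; exact W.neg_mem x.1.1.2⟩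
      · exact W.neg_mem (Finset.mem_filter.1 u.2).2
      · exact (Finset.mem_filter.1 (Finset.mem_filter.1 u.2).1).2
      · show -(l * u.1) + l * u.1 = 0
        ring
      · intro x
        have h : (x.1.1 : F) + l * (x.1.2 : F) = 0 := x.2
        exact Subtype.ext (Prod.ext (Subtype.ext (eq_neg_of_add_eq_zero_left h).symm) rfl)
    have h1 := f.ker.card_eq_card_quotient_mul_card_addSubgroup
    rw [Nat.card_prod, hwW, Nat.card_congr (QuotientAddGroup.quotientKerEquivRange f).toEquiv,
      hker] at h1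
    rw [h1, ← mul_assoc, mul_comm (S l)]
    exact Nat.mul_le_mul_right _ (hhalf _ hne)
  -- count the pairs
  have htot : ∑ l : F, S l = q + (w - 1) * w := by
    simp only [S, Finset.card_filter]
    rw [Finset.sum_comm, ← Finset.add_sum_erase Ws _ (show (0 : F) ∈ Ws by simp [Ws])]
    congr 1
    · simp [q]
    · rw [Finset.sum_congr rfl (g := fun _ => w) fun u hu => ?_, Finset.sum_const, smul_eq_mul,
        Finset.card_erase_of_mem (by simp [Ws]), ← hw]
      rw [← Finset.card_filter, hw]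
      have hu0 := Finset.ne_of_mem_erase hu
      refine Finset.card_bij (fun l _ => l * u) (fun l hl => ?_) (fun l _ l' _ h => ?_) fun x hx => ?_
      · simpa [Ws] using hl
      · exact mul_right_cancel₀ hu0 h
      · exact ⟨x / u, by simpa [hu0, Ws] using hx, div_mul_cancel₀ x hu0⟩
  have h01 : ({0, 1} : Finset F) ⊆ Finset.univ := Finset.subset_univ _
  rw [← Finset.sum_sdiff h01, Finset.sum_pair zero_ne_one] at htot
  have hS0 : S 0 = w := by
    show (Ws.filter _).card = Ws.card
    exact congrArg _ (Finset.filter_true_of_mem fun u _ => by rw [zero_mul]; exact W.zero_mem)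
  have hS1 : S 1 = w := by
    show (Ws.filter _).card = Ws.card
    exact congrArg _ (Finset.filter_true_of_mem fun u hu => by simpa [Ws] using hu)
  set D := (Finset.univ : Finset F) \ {0, 1} with hD
  have hDc : D.card = q - 2 := by
    rw [hD, Finset.card_sdiff, Finset.inter_univ, Finset.card_pair zero_ne_one, Finset.card_univ]
  have hmem : ∀ l ∈ D, l ≠ 0 ∧ l ≠ 1 := fun l hl => by simpa [hD] using hl
  have b1 : (q - 2) * 2 ≤ ∑ l ∈ D, S l := by
    rw [← hDc, ← smul_eq_mul]
    exact Finset.card_nsmul_le_sum _ _ _ fun l hl => (hS l (hmem l hl).1 (hmem l hl).2).1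
  have b2 : (q - 2) * (2 * (w * w)) ≤ (∑ l ∈ D, S l) * q := by
    rw [← hDc, ← smul_eq_mul (D.card), Finset.sum_mul]
    exact Finset.card_nsmul_le_sum _ _ _ fun l hl => (hS l (hmem l hl).1 (hmem l hl).2).2
  have hw2 : 2 ≤ w := by
    by_contra h
    refine hb (AddSubgroup.eq_bot_of_card_eq W ?_)
    have := Nat.card_pos (α := W)
    omega
  have hwq : 2 * w ≤ q := hwW ▸ hhalf W ht
  rw [hS0, hS1] at htot
  obtain ⟨q', hq'⟩ : ∃ q', q = q' + 2 := ⟨q - 2, by omega⟩
  obtain ⟨w', hw'⟩ : ∃ w', w = w' + 1 := ⟨w - 1, by omega⟩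
  rw [hq', hw', Nat.add_sub_cancel] at htot
  rw [hq', Nat.add_sub_cancel] at b1 b2
  rw [hq'] at hwq
  rw [hw'] at b2 hwq hw2
  rcases Nat.lt_or_ge (q' + 2) ((w' + 1) * (w' + 1)) with hc | hc
  · nlinarith [mul_le_mul_of_nonneg_left hc.le (Nat.zero_le (q' + 2))]
  · nlinarith

end Cfsg.Agent.BinaryPSL
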