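/-
Stabilisers of points in `PSL_2(q)`.

Main results (namespace `Cfsg.Agent.BinaryPSL`):
* `transGroup H`        : the translations of `H`
* `not_binary_affine`   : three tori through a common fixed point
* `not_binary_bor`      : upper triangular groups, other than the full group of translations in even `q`
-/
import Cfsg.Agent.Lib.BinaryPSL.Cases
import Cfsg.Agent.Lib.BinaryPSL.Translates

set_option autoImplicit false
set_option linter.unusedSectionVars false

open Matrix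

namespace Cfsg.Agent.BinaryPSL

open PSL2

variable {F : Type*} [Field F]

local notation "π" => (QuotientGroup.mk : SL2 F → PSL2 F)

/-- The translations in `H`. -/
def transGroup (H : Subgroup (PSL2 F)) : AddSubgroup F where
  carrier := {b | π (upT b) ∈ H}
  add_mem' {a b} (ha hb) := by
    show π (upT (a + b)) ∈ H
    rw [upT_add, QuotientGroup.mk_mul]; exact H.mul_mem ha hb
  zero_mem' := by
    show π (upT 0) ∈ H
    rw [upT_zero, QuotientGroup.mk_one]; exact H.one_mem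
  neg_mem' {a} (ha) := by
    show π (upT (-a)) ∈ H
    rw [← upT_inv, QuotientGroup.mk_inv]; exact H.inv_mem ha

theorem mem_transGroup {H : Subgroup (PSL2 F)} {b : F} : b ∈ transGroup H ↔ π (upT b) ∈ H := Iff.rfl

theorem bor_conj_upT (l : Fˣ) (c b : F) :
    bor l c * upT b * (bor l c)⁻¹ = upT ((l : F) ^ 2 * b) := by
  rw [upT_eq_bor, upT_eq_bor, bor_inv, bor_mul, bor_mul, mul_one, mul_inv_cancel]
  congr 1
  rw [inv_one, inv_inv, Units.val_one]
  ring

theorem upT_conj_bor (l : Fˣ) (w b : F) :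
    upT w * bor l b * (upT w)⁻¹ = bor l (b + w * ((l⁻¹ : Fˣ) : F) - (l : F) * w) := by
  rw [upT_eq_bor, bor_inv, bor_mul, bor_mul, one_mul, inv_one, mul_one, Units.val_one]
  congr 1
  rw [inv_one, Units.val_one]
  ring

/-- Three tori through one fixed point. -/
theorem not_binary_affine {H : Subgroup (PSL2 F)} {g : PSL2 F} {ζ η : Fˣ} {w s : F}
    (hD : ∀ y ∈ H, g⁻¹ * y * g ∈ H → ∃ l, y = π (bor l 0))
    (hζ : π (bor ζ 0) ∈ H ∧ g⁻¹ * π (bor ζ 0) * g ∈ H)
    (hη : π (bor η 0) ∈ H ∧ g⁻¹ * π (bor η 0) * g ∈ H)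
    (hw : w ∈ transGroup H) (hs : s ∈ transGroup H) (hw0 : w ≠ 0) (hζ1 : (ζ : F) ^ 2 ≠ 1)
    (hη1 : (η : F) ^ 2 ≠ 1) (hst : s * ((ζ : F) ^ 2 - (η : F) ^ 2) = w * (1 - (η : F) ^ 2)) :
    ¬ Binary H := by
  intro hB
  have hback : ∀ (t : F) (z : SL2 F), (π (upT t))⁻¹ * π (upT t * z * (upT t)⁻¹) * π (upT t) = π z := by
    intro t z
    rw [QuotientGroup.mk_mul, QuotientGroup.mk_mul, QuotientGroup.mk_inv]
    group
  have hrat : π (bor (ζ * η⁻¹) 0) = π (bor ζ 0) * (π (bor η 0))⁻¹ := by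
    rw [← QuotientGroup.mk_inv, ← QuotientGroup.mk_mul, bor_inv, bor_mul, mul_neg]
    congr 2
    simp
  have hc : π (bor (ζ * η⁻¹) 0) ∈ H ∧ g⁻¹ * π (bor (ζ * η⁻¹) 0) * g ∈ H := by
    rw [hrat]
    refine ⟨H.mul_mem hζ.1 (H.inv_mem hη.1), ?_⟩
    rw [conj_mul_eq, conj_inv_eq]
    exact H.mul_mem hζ.2 (H.inv_mem hη.2)
  obtain ⟨e, ⟨h1, h1'⟩, ⟨h2, h2'⟩, h3, h3'⟩ := hB.suborbit (g := g) (u := 1) (v := π (upT w))
    (w := π (upT s)) (a := π (bor ζ 0)) (b := π (upT w * bor η 0 * (upT w)⁻¹))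
    (c := π (upT s * bor (ζ * η⁻¹) 0 * (upT s)⁻¹)) H.one_mem hw hs
    (by simpa using hζ) (by rw [hback]; exact hη) (by rw [hback]; exact hc) (by
      rw [← QuotientGroup.mk_mul, upT_conj_bor, upT_conj_bor, bor_mul]
      refine congrArg _ ?_
      congr 1
      · rw [mul_comm η, inv_mul_cancel_right]
      · simp only [_root_.mul_inv_rev, inv_inv, Units.val_mul, Units.val_inv_eq_inv_val]
        have := ζ.ne_zero
        have := η.ne_zero
        field_simp
        first | linear_combination hst | linear_combination -hst)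
  rw [inv_one, one_mul, mul_one] at h1 h1'
  obtain ⟨l, rfl⟩ := hD _ h1 h1'
  obtain ⟨l', h4⟩ := hD _ h2 h2'
  have key : ∀ (t : F) (l l' : Fˣ), (π (upT t))⁻¹ * π (bor l 0) * π (upT t) = π (bor l' 0) →
      t * ((l : F) ^ 2 - 1) = 0 := by
    intro t l l' h
    rw [← QuotientGroup.mk_inv, ← QuotientGroup.mk_mul, ← QuotientGroup.mk_mul, upT_eq_bor, bor_inv,
      bor_mul, bor_mul, mk_bor_eq_iff] at h
    have h' : (l : F) * t + -t * ((l⁻¹ : Fˣ) : F) = 0 := by
      rcases h with ⟨-, h⟩ | ⟨-, h⟩ <;>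
      · simp only [inv_one, one_mul, mul_zero, zero_add, Units.val_one, mul_one, neg_zero] at h
        exact h
    have hl : (l : F) * ((l⁻¹ : Fˣ) : F) = 1 := by rw [← Units.val_mul, mul_inv_cancel, Units.val_one]
    linear_combination (l : F) * h' + t * hl
  have hl := key w l l' h4
  have hl1 : π (bor l 0) = 1 := by
    rw [mk_bor_eq_one_iff]
    refine ⟨?_, rfl⟩
    rcases mul_self_eq_one_iff.1 (show (l : F) * l = 1 by
      linear_combination (mul_eq_zero.1 hl).resolve_left hw0) with h | h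
    · exact Or.inl (Units.ext h)
    · exact Or.inr (Units.ext (by rw [Units.val_neg, Units.val_one]; exact h))
  rw [hl1, inv_one, one_mul] at h3 h3'
  obtain ⟨m, h5⟩ := hD _ h3 h3'
  rcases mul_eq_zero.1 (key s ζ m h5) with h | h
  · rw [h, zero_mul] at hst
    rcases mul_eq_zero.1 hst.symm with h | h
    · exact hw0 h
    · exact hη1 (by linear_combination -h)
  · exact hζ1 (by linear_combination h)

variable [Finite F]

theorem exists_invariant_div (W : AddSubgroup F) {x : F} (hx0 : x ≠ 0) (hx : ∀ w ∈ W, x * w ∈ W)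
    {w : F} (hw : w ∈ W) : ∃ v ∈ W, x * v = w := by
  obtain ⟨v, hv⟩ := (Finite.injective_iff_surjective (f := fun v : W => (⟨x * v, hx _ v.2⟩ : W))).1
    (fun a b h => Subtype.ext (mul_left_cancel₀ hx0 (congrArg Subtype.val h))) ⟨w, hw⟩
  exact ⟨v, v.2, congrArg Subtype.val hv⟩

/-- Upper triangular groups with multipliers other than `1`, `-1`. -/
theorem not_binary_bor_torus {H : Subgroup (PSL2 F)} (hH : ∀ y ∈ H, ∃ l b, y = π (bor l b))
    {l₀ : Fˣ} {b₀ : F} (hl₀ : π (bor l₀ b₀) ∈ H) (h4 : (l₀ : F) ^ 4 ≠ 1)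
    {w₀ : F} (hw₀ : w₀ ∈ transGroup H) (hw0 : w₀ ≠ 0) : ¬ Binary H := by
  intro hB
  set z := (l₀ : F) with hz
  have hz0 : z ≠ 0 := l₀.ne_zero
  have hz2 : z ^ 2 ≠ 1 := fun e => h4 (by linear_combination (z ^ 2 + 1) * e)
  have hinv : ((l₀⁻¹ : Fˣ) : F) = z⁻¹ := Units.val_inv_eq_inv_val l₀
  -- move the fixed point to zero
  set t := b₀ / (z - z⁻¹) with ht
  have hd : z - z⁻¹ ≠ 0 := fun e => hz2 (by field_simp at e; linear_combination e)
  have hbin := hB.map (MulAut.conj (π (upT t)))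
  set K := H.map (MulAut.conj (π (upT t))).toMonoidHom
  have hmemK : ∀ y, y ∈ H → π (upT t) * y * (π (upT t))⁻¹ ∈ K := fun y hy =>
    Subgroup.mem_map_of_mem _ hy
  have hWK : ∀ b, b ∈ transGroup H → b ∈ transGroup K := by
    intro b hb
    have h := hmemK _ hb
    rwa [← QuotientGroup.mk_inv, ← QuotientGroup.mk_mul, ← QuotientGroup.mk_mul, upT_eq_bor t,
      bor_conj_upT, Units.val_one, one_pow, one_mul] at h
  have hKbor : ∀ y ∈ K, ∃ l b, y = π (bor l b) := by
    intro y hy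
    obtain ⟨x, hx, rfl⟩ := Subgroup.mem_map.1 hy
    obtain ⟨l, b, rfl⟩ := hH x hx
    refine ⟨l, b + t * ((l⁻¹ : Fˣ) : F) - (l : F) * t, ?_⟩
    rw [MulEquiv.coe_toMonoidHom, MulAut.conj_apply, ← QuotientGroup.mk_inv,
      ← QuotientGroup.mk_mul, ← QuotientGroup.mk_mul, upT_conj_bor]
  have hdiag : π (bor l₀ 0) ∈ K := by
    have h := hmemK _ hl₀
    rw [← QuotientGroup.mk_inv, ← QuotientGroup.mk_mul, ← QuotientGroup.mk_mul, upT_conj_bor] at h
    rwa [show b₀ + t * ((l₀⁻¹ : Fˣ) : F) - (l₀ : F) * t = 0 by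
      rw [hinv, ← hz, ht]; field_simp; ring] at h
  have hdinv : π (bor l₀⁻¹ 0) ∈ K := by
    have h := K.inv_mem hdiag
    rwa [← QuotientGroup.mk_inv, bor_inv, neg_zero] at h
  have hW2 : ∀ l : Fˣ, π (bor l 0) ∈ K → ∀ b ∈ transGroup K, (l : F) ^ 2 * b ∈ transGroup K := by
    intro l hl b hb
    have h := K.mul_mem (K.mul_mem hl hb) (K.inv_mem hl)
    rwa [← QuotientGroup.mk_inv, ← QuotientGroup.mk_mul, ← QuotientGroup.mk_mul, bor_conj_upT] at h
  -- the third fixed point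
  obtain ⟨v, hv, hvw⟩ := exists_invariant_div (transGroup K) (x := z ^ 2 - z⁻¹ ^ 2)
    (fun e => h4 (by field_simp at e; linear_combination e))
    (fun b hb => by
      rw [sub_mul]
      exact (transGroup K).sub_mem (hW2 l₀ hdiag b hb) (hinv ▸ hW2 l₀⁻¹ hdinv b hb))
    (w := w₀ * (1 - z⁻¹ ^ 2)) (by
      rw [mul_sub, mul_one, mul_comm w₀]
      exact (transGroup K).sub_mem (hWK _ hw₀) (hinv ▸ hW2 l₀⁻¹ hdinv _ (hWK _ hw₀)))
  -- the Weyl element
  let N : SL2 F := ⟨!![0, -1; 1, 0], by rw [Matrix.det_fin_two_of]; ring⟩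
  have hN : ∀ (l : Fˣ), (π N)⁻¹ * π (bor l 0) * π N = π (bor l⁻¹ 0) := by
    intro l
    rw [mul_assoc, inv_mul_eq_iff_eq_mul, ← QuotientGroup.mk_mul, ← QuotientGroup.mk_mul]
    refine congrArg _ (Subtype.ext ?_)
    rw [Matrix.SpecialLinearGroup.coe_mul, Matrix.SpecialLinearGroup.coe_mul, bor_coe, bor_coe]
    ext i j
    fin_cases i <;> fin_cases j <;> simp [N, Matrix.mul_apply, Fin.sum_univ_two]
  refine not_binary_affine (H := K) (g := π N) (ζ := l₀) (η := l₀⁻¹) (w := w₀) (s := v)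
    (fun y hy hy' => ?_) ⟨hdiag, by rw [hN]; exact hdinv⟩
    ⟨hdinv, by rw [hN, inv_inv]; exact hdiag⟩ (hWK _ hw₀) hv hw0 (by rwa [← hz])
    (by rw [hinv, inv_pow, ne_eq, inv_eq_one]; exact hz2) (by rw [hinv, ← hz]; linear_combination hvw)
    hbin
  obtain ⟨l, b, rfl⟩ := hKbor y hy
  obtain ⟨l', b', e⟩ := hKbor _ hy'
  refine ⟨l, ?_⟩
  suffices hb : b = 0 by rw [hb]
  rw [mul_assoc, inv_mul_eq_iff_eq_mul, ← QuotientGroup.mk_mul, ← QuotientGroup.mk_mul,
    mk_eq_mk_iff] at e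
  rcases e with e | e <;>
  · have h := congrArg Subtype.val e
    simp only [Matrix.SpecialLinearGroup.coe_neg, Matrix.SpecialLinearGroup.coe_mul, bor_coe] at h
    have h' := congrFun (congrFun h 0) 0
    simpa [N, Matrix.mul_apply, Fin.sum_univ_two] using h'

theorem exists_sqrt_two (h2 : (2 : F) = 0) {x : F} (hx : x ≠ 0) : ∃ r : Fˣ, (r : F) ^ 2 = x := by
  have : CharP F 2 := by
    obtain ⟨p, hp⟩ := CharP.exists F
    rcases (Nat.dvd_prime Nat.prime_two).1
      ((CharP.cast_eq_zero_iff F p 2).1 (by exact_mod_cast h2)) with h | h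
    · exact absurd h (CharP.char_ne_one F p)
    · exact h ▸ hp
  obtain ⟨r, hr⟩ := FiniteField.isSquare_of_char_two (ringChar.eq F 2) x
  have hr0 : r ≠ 0 := by rintro rfl; exact hx (by rw [hr, zero_mul])
  exact ⟨Units.mk0 r hr0, by rw [Units.val_mk0, pow_two, hr]⟩

/-- A proper group of translations, `q` even. -/
theorem not_binary_trans_even (h2 : (2 : F) = 0) {H : Subgroup (PSL2 F)}
    (hH : ∀ y ∈ H, ∃ b, y = π (upT b)) (hb : transGroup H ≠ ⊥) (ht : transGroup H ≠ ⊤) :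
    ¬ Binary H := by
  intro hB
  set W := transGroup H with hWdef
  obtain ⟨x, hx0, hx1, hcase⟩ := exists_translate W hb ht
  have hx1' : 1 + x ≠ 0 := fun e => hx1 (by linear_combination e - h2)
  -- reading a translation out of the conjugates
  have scale : ∀ (r : Fˣ) (b : F), (π (bor r 0))⁻¹ * π (upT b) * π (bor r 0) ∈ H ↔
      b / (r : F) ^ 2 ∈ W := by
    intro r b
    have := r.ne_zero
    have e : π (upT b) = π (bor r 0) * π (upT (b / (r : F) ^ 2)) * (π (bor r 0))⁻¹ := by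
      rw [← QuotientGroup.mk_inv, ← QuotientGroup.mk_mul, ← QuotientGroup.mk_mul, bor_conj_upT]
      congr 2
      field_simp
    rw [hWdef, mem_transGroup, e, show ∀ P Q : PSL2 F, P⁻¹ * (P * Q * P⁻¹) * P = Q from
      fun P Q => by group]
  -- the triangle, in additive notation
  have key : ∀ (μ : F), μ ≠ 0 → ∀ u ∈ W, ∀ v ∈ W, x * u + μ * v ∈ W →
      ∃ t ∈ W, t / x ∈ W ∧ (x * u + μ * v - t) / μ ∈ W := by
    intro μ hμ u hu v hv hw
    obtain ⟨r, hr⟩ := exists_sqrt_two h2 hx0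
    obtain ⟨r', hr'⟩ := exists_sqrt_two h2 hμ
    obtain ⟨e, e1, e2, e3⟩ := hB.triangle (a := π (upT (x * u + μ * v))) (b := π (upT (x * u)))
      (c := π (upT (μ * v))) (g₀ := 1) (g₁ := π (bor r 0)) (g₂ := π (bor r' 0))
      (by rw [inv_one, one_mul, mul_one]; exact hw)
      ((scale _ _).2 (by rwa [hr, mul_div_cancel_left₀ _ hx0]))
      ((scale _ _).2 (by rwa [hr', mul_div_cancel_left₀ _ hμ]))
      (by rw [upT_add, QuotientGroup.mk_mul])
    rw [inv_one, one_mul, mul_one] at e1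
    obtain ⟨t, rfl⟩ := hH e e1
    have hcomb : (π (upT t))⁻¹ * π (upT (x * u + μ * v)) = π (upT (x * u + μ * v - t)) := by
      rw [← QuotientGroup.mk_inv, upT_inv, ← QuotientGroup.mk_mul, ← upT_add, neg_add_eq_sub]
    rw [hcomb] at e3
    refine ⟨t, e1, ?_, ?_⟩
    · rw [← hr]; exact (scale r t).1 e2
    · have h3 := (scale r' (x * u + μ * v - t)).1 e3
      rwa [hr'] at h3
  rcases hcase with hS | hsum
  · obtain ⟨⟨w, hw⟩, hw0⟩ : ∃ w : W, w ≠ 0 := by
      by_contra h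
      push Not at h
      exact hb ((AddSubgroup.eq_bot_iff_forall _).2 fun y hy => congrArg Subtype.val (h ⟨y, hy⟩))
    obtain ⟨t, htW, h1, h3⟩ := key (1 + x) hx1' w hw w hw
      (by rwa [show x * w + (1 + x) * w = w by linear_combination x * w * h2])
    have ht0 := hS _ h1 (by rw [mul_div_cancel₀ _ hx0]; exact htW)
    rw [div_eq_zero_iff, or_iff_left hx0] at ht0
    subst ht0
    rw [show x * w + (1 + x) * w - 0 = w by linear_combination x * w * h2] at h3
    have hv := hS _ h3 (by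
      rw [show x * (w / (1 + x)) = w - w / (1 + x) by field_simp; ring]
      exact W.sub_mem hw h3)
    rw [div_eq_zero_iff, or_iff_left hx1'] at hv
    exact hw0 (Subtype.ext hv)
  · obtain ⟨w, hw, hwx⟩ : ∃ w ∈ W, w / x ∉ W := by
      by_contra hcon
      push Not at hcon
      refine ht (eq_top_iff.2 fun z _ => ?_)
      obtain ⟨r, hr, t, htW, rfl⟩ := hsum z
      obtain ⟨v, hv, hvt⟩ := exists_invariant_div W (inv_ne_zero hx0)
        (fun b hb => by rw [mul_comm, ← div_eq_mul_inv]; exact hcon b hb) htW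
      refine W.add_mem hr ?_
      rwa [show x * t = v by rw [← hvt, ← mul_assoc, mul_inv_cancel₀ hx0, one_mul]]
    obtain ⟨r, hr, t, htW, hz⟩ := hsum (w * (1 + x) / x)
    have hμ : x / (1 + x) ≠ 0 := div_ne_zero hx0 hx1'
    have hsplit : x * t + x / (1 + x) * (r - t) = w := by
      field_simp at hz ⊢
      linear_combination -hz
    obtain ⟨e, heW, h1, h3⟩ := key _ hμ t htW (r - t) (W.sub_mem hr htW) (by rwa [hsplit])
    rw [hsplit] at h3
    apply hwx
    rw [show w / x = (w - e) / (x / (1 + x)) - (w - e) + e / x by field_simp; ring]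
    exact W.add_mem (W.sub_mem h3 (W.sub_mem hw heW)) h1

/-- Translations only, `q` odd. -/
theorem not_binary_trans_odd (h2 : (2 : F) ≠ 0) {H : Subgroup (PSL2 F)}
    (hH : ∀ y ∈ H, ∃ b, y = π (upT b)) {w : F} (hw : w ∈ transGroup H) (hw0 : w ≠ 0) :
    ¬ Binary H := by
  have h4 : (4 : F) ≠ 0 := by rw [show (4 : F) = 2 * 2 by norm_num]; exact mul_ne_zero h2 h2
  let S : SL2 F := ⟨!![0, -(w / 2); 2 / w, 0], by rw [Matrix.det_fin_two_of]; field_simp; ring⟩
  have lo : ∀ t : F, (loT t).1 = !![1, 0; t, 1] := fun t => rfl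
  have up : ∀ t : F, (upT t).1 = !![1, t; 0, 1] := fun t => rfl
  have ea : loT (2 / w) * upT (-w) * (loT (2 / w))⁻¹ = -(upT w * loT (-4 / w)) := by
    rw [mul_inv_eq_iff_eq_mul, neg_mul]
    apply Subtype.ext
    simp only [Matrix.SpecialLinearGroup.coe_neg, Matrix.SpecialLinearGroup.coe_mul, lo, up]
    ext i j
    fin_cases i <;> fin_cases j <;> simp [Matrix.mul_apply, Fin.sum_univ_two] <;> field_simp <;> ring
  have ec : S * upT w * S⁻¹ = loT (-4 / w) := by
    rw [mul_inv_eq_iff_eq_mul]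
    apply Subtype.ext
    simp only [Matrix.SpecialLinearGroup.coe_mul, lo, up]
    ext i j
    fin_cases i <;> fin_cases j <;>
      simp [S, Matrix.mul_apply, Fin.sum_univ_two] <;> field_simp <;> ring
  refine not_binary_of_abelian (g₀ := π (loT (2 / w))) (g₁ := 1) (g₂ := π S)
    (a := π (loT (2 / w) * upT (-w) * (loT (2 / w))⁻¹)) (b := π (upT w)) (c := π (loT (-4 / w)))
    (fun x hx y hy => ?_) (fun e he he1 u v hu hv => ?_) ?_ (by rw [inv_one, one_mul, mul_one]; exact hw)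
    ?_ ?_ fun e => ?_
  · obtain ⟨b, rfl⟩ := hH x hx
    obtain ⟨b', rfl⟩ := hH y hy
    rw [← QuotientGroup.mk_mul, ← QuotientGroup.mk_mul, ← upT_add, ← upT_add, add_comm]
  · refine commute_of_commute_psl (fun h => he1 ?_) hu hv
    obtain ⟨b, rfl⟩ := hH e he
    rw [← QuotientGroup.mk_mul, ← upT_add, upT_eq_bor, mk_bor_eq_one_iff] at h
    have hb : b = 0 := (mul_eq_zero.1 (show (2 : F) * b = 0 by linear_combination h.2)).resolve_left h2
    rw [hb, upT_zero, QuotientGroup.mk_one]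
  · rw [QuotientGroup.mk_mul, QuotientGroup.mk_mul, QuotientGroup.mk_inv,
      show ∀ P Q : PSL2 F, P⁻¹ * (P * Q * P⁻¹) * P = Q from fun P Q => by group]
    exact mem_transGroup.1 ((transGroup H).neg_mem hw)
  · rw [← ec, QuotientGroup.mk_mul, QuotientGroup.mk_mul, QuotientGroup.mk_inv,
      show ∀ P Q : PSL2 F, P⁻¹ * (P * Q * P⁻¹) * P = Q from fun P Q => by group]
    exact hw
  · rw [ea, mk_neg, QuotientGroup.mk_mul]
  · rw [← QuotientGroup.mk_mul, ← QuotientGroup.mk_mul, mk_eq_mk_iff] at e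
    rcases e with e | e <;>
    · have h := congrArg (fun g : SL2 F => g.1 0 0) e
      simp only [Matrix.SpecialLinearGroup.coe_neg, Matrix.SpecialLinearGroup.coe_mul, lo, up] at h
      simp [Matrix.mul_apply, Fin.sum_univ_two] at h
      first
        | (rcases h with h | h | h <;> first | exact hw0 h | exact h4 h)
        | (field_simp at h
           first
            | exact h4 (by linear_combination h)
            | exact h4 (by linear_combination -h)
            | exact h2 (by linear_combination h)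
            | exact h2 (by linear_combination -h))

/-- Upper triangular groups containing a translation. -/
theorem not_binary_bor (h4 : 4 ≤ Nat.card F) {H : Subgroup (PSL2 F)}
    (hH : ∀ y ∈ H, ∃ l b, y = π (bor l b)) {w : F} (hw : w ∈ transGroup H) (hw0 : w ≠ 0)
    (hne : ¬ ((2 : F) = 0 ∧ (∀ y, y ∈ H ↔ ∃ b, y = π (upT b)))) : ¬ Binary H := by
  by_cases h1 : ∀ y ∈ H, ∃ b, y = π (upT b)
  · by_cases h2 : (2 : F) = 0
    · refine not_binary_trans_even h2 h1 (fun e => hw0 ((AddSubgroup.eq_bot_iff_forall _).1 e w hw))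
        fun e => hne ⟨h2, fun y => ⟨h1 y, ?_⟩⟩
      rintro ⟨b, rfl⟩
      exact mem_transGroup.1 (e ▸ AddSubgroup.mem_top b)
    · exact not_binary_trans_odd h2 h1 hw hw0
  by_cases hk : ∃ l b, π (bor l b) ∈ H ∧ (l : F) ^ 4 ≠ 1
  · obtain ⟨l, b, hl, hl4⟩ := hk
    exact not_binary_bor_torus hH hl hl4 hw hw0
  push Not at hk h1
  -- the multipliers are `1` and `-1`
  obtain ⟨s₀, hs₀, hs₀'⟩ := h1
  have split : ∀ y ∈ H, (∃ b, y = π (upT b)) ∨ ∃ l b, y = π (bor l b) ∧ (l : F) ^ 2 = -1 := by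
    intro y hy
    obtain ⟨l, b, rfl⟩ := hH y hy
    rcases mul_eq_zero.1 (show ((l : F) ^ 2 - 1) * ((l : F) ^ 2 + 1) = 0 by
      linear_combination hk l b hy) with h | h
    · left
      rcases mul_self_eq_one_iff.1 (show (l : F) * l = 1 by linear_combination h) with e | e
      · exact ⟨b, by rw [upT_eq_bor, Units.ext (show (l : F) = ((1 : Fˣ) : F) by rw [e, Units.val_one])]⟩
      · refine ⟨-b, ?_⟩
        rw [upT_eq_bor, mk_bor_eq_iff]
        exact Or.inr ⟨Units.ext (by rw [e, Units.val_neg, Units.val_one]), (neg_neg b).symm⟩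
    · exact Or.inr ⟨l, b, rfl, by linear_combination h⟩
  have h2 : (2 : F) ≠ 0 := fun h2 => by
    rcases split s₀ hs₀ with ⟨b, hb⟩ | ⟨l, b, rfl, hl⟩
    · exact hs₀' b hb
    · rcases mul_self_eq_one_iff.1 (show (l : F) * l = 1 by linear_combination hl - h2) with e | e
      · exact hs₀' b (by rw [upT_eq_bor, Units.ext (show (l : F) = ((1 : Fˣ) : F) by rw [e, Units.val_one])])
      · refine hs₀' (-b) ?_
        rw [upT_eq_bor, mk_bor_eq_iff]
        exact Or.inr ⟨Units.ext (by rw [e, Units.val_neg, Units.val_one]), (neg_neg b).symm⟩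
  have hl0 : ∀ {l : Fˣ}, (l : F) ^ 2 = -1 → ((l⁻¹ : Fˣ) : F) = -(l : F) := fun {l} h => by
    rw [Units.val_inv_eq_inv_val]
    exact inv_eq_of_mul_eq_one_right (by linear_combination -h)
  have hinvol : ∀ {y : PSL2 F}, y ∈ H → y * y = 1 → y ≠ 1 → ∃ l b, y = π (bor l b) ∧ (l : F) ^ 2 = -1 := by
    intro y hy y2 y1
    refine (split y hy).resolve_left ?_
    rintro ⟨b, rfl⟩
    rw [← QuotientGroup.mk_mul, ← upT_add, upT_eq_bor, mk_bor_eq_one_iff] at y2
    have hb : b = 0 := (mul_eq_zero.1 (show (2 : F) * b = 0 by linear_combination y2.2)).resolve_left h2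
    exact y1 (by rw [hb, upT_zero, QuotientGroup.mk_one])
  have hsq : ∀ {l : Fˣ} {b : F}, (l : F) ^ 2 = -1 → π (bor l b) * π (bor l b) = 1 := by
    intro l b hl
    rw [← QuotientGroup.mk_mul, bor_mul, mk_bor_eq_one_iff]
    refine ⟨Or.inr (Units.ext ?_), by rw [hl0 hl]; ring⟩
    rw [Units.val_mul, Units.val_neg, Units.val_one]; linear_combination hl
  obtain ⟨l, b, rfl, hl⟩ := (split s₀ hs₀).resolve_left (fun ⟨b, hb⟩ => hs₀' b hb)
  refine not_binary_of_inverting_psl h4 (s := π (bor l b)) hs₀ (fun e => hs₀' 0 (by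
    rw [e, upT_zero, QuotientGroup.mk_one])) (hsq hl) (fun s hs t ht s2 t2 s1 t1 hst => ?_)
    fun s hs e he s2 s1 e2 => ?_
  · obtain ⟨l₁, b₁, rfl, h₁⟩ := hinvol hs s2 s1
    obtain ⟨l₂, b₂, rfl, h₂⟩ := hinvol ht t2 t1
    rw [← QuotientGroup.mk_mul, ← QuotientGroup.mk_mul, bor_mul, bor_mul, mk_bor_eq_iff, hl0 h₁,
      hl0 h₂] at hst
    rcases hst with ⟨-, h⟩ | ⟨h, -⟩
    · rw [mk_bor_eq_iff]
      rcases mul_eq_zero.1 (show ((l₁ : F) - l₂) * ((l₁ : F) + l₂) = 0 by
        linear_combination h₁ - h₂) with e | e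
      · refine Or.inl ⟨Units.ext (sub_eq_zero.1 e), ?_⟩
        have hb : (2 * (l₂ : F)) * (b₂ - b₁) = 0 := by
          linear_combination h - 2 * b₂ * e
        exact ((sub_eq_zero.1 ((mul_eq_zero.1 hb).resolve_left (mul_ne_zero h2 l₂.ne_zero)))).symm
      · refine Or.inr ⟨Units.ext (by rw [Units.val_neg]; linear_combination e), ?_⟩
        have hb : (2 * (l₂ : F)) * (b₁ + b₂) = 0 := by
          linear_combination -h + 2 * b₂ * e
        exact eq_neg_of_add_eq_zero_left ((mul_eq_zero.1 hb).resolve_left (mul_ne_zero h2 l₂.ne_zero))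
    · exfalso
      have h' := congrArg (fun u : Fˣ => (u : F)) h
      simp only [Units.val_mul, Units.val_neg] at h'
      exact mul_ne_zero h2 (mul_ne_zero l₁.ne_zero l₂.ne_zero) (by linear_combination h')
  · obtain ⟨l₁, b₁, rfl, h₁⟩ := hinvol hs s2 s1
    rcases split e he with ⟨c, rfl⟩ | ⟨l', c, rfl, h'⟩
    · rw [← QuotientGroup.mk_mul, ← QuotientGroup.mk_mul, ← QuotientGroup.mk_inv, upT_inv, upT_eq_bor,
        upT_eq_bor, bor_mul, bor_mul, mk_bor_eq_iff, hl0 h₁]
      refine Or.inr ⟨Units.ext ?_, ?_⟩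
      · rw [mul_one, Units.val_mul, Units.val_neg, Units.val_one]; linear_combination h₁
      · rw [mul_one, inv_one, Units.val_one]; linear_combination -c * h₁
    · exact absurd (hsq h') e2

end Cfsg.Agent.BinaryPSL
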