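/-
The binary actions of `PSL_2(q)`.

Main results (namespace `Cfsg.Agent.BinaryPSL`):
* `binary_bot`     : the regular action
* `binary_trans`   : the full group of translations, `q` even
* `binary_three`   : order three, `q` an odd power of two
-/
import Cfsg.Agent.Lib.BinaryPSL.Tools

set_option autoImplicit false
set_option linter.unusedSectionVars false

open Matrix

namespace Cfsg.Agent.BinaryPSL

open PSL2

theorem binary_bot {G : Type*} [Group G] : Binary (⊥ : Subgroup G) := by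
  intro n I J hn hp
  obtain ⟨g, h0, -⟩ := hp ⟨0, by omega⟩ ⟨1, by omega⟩ (by simp [Fin.ext_iff])
  refine ⟨g, fun i => ?_⟩
  by_cases hi : i = ⟨0, by omega⟩
  · rw [hi]; exact h0
  obtain ⟨g', h0', hi'⟩ := hp ⟨0, by omega⟩ i (Ne.symm hi)
  obtain ⟨x, hx⟩ := QuotientGroup.mk_surjective (I ⟨0, by omega⟩)
  have e : (g'⁻¹ * g) • (I ⟨0, by omega⟩) = I ⟨0, by omega⟩ := by
    rw [mul_smul, h0, ← h0', inv_smul_smul]
  rw [← hx, smul_mk_eq, Subgroup.mem_bot, mul_assoc, inv_mul_eq_one, eq_comm, mul_eq_right,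
    inv_mul_eq_one] at e
  rw [← e]; exact hi'

theorem conj_zpow_eq {G : Type*} [Group G] (g e : G) (i : ℤ) :
    g⁻¹ * e ^ i * g = (g⁻¹ * e * g) ^ i := by
  simpa [inv_inv] using (conj_zpow (a := g⁻¹) (b := e) (i := i)).symm

/-- Stabilisers of order three with pairwise trivial intersection and the triangle property. -/
theorem binary_of_triangle_free {G : Type*} [Group G] {H : Subgroup G}
    (h3 : ∀ a b c g₀ g₁ g₂ : G, g₀⁻¹ * a * g₀ ∈ H → g₁⁻¹ * b * g₁ ∈ H → g₂⁻¹ * c * g₂ ∈ H →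
      a = b * c → (∃ y, g₀⁻¹ * y * g₀ ∈ H ∧ ¬ g₁⁻¹ * y * g₁ ∈ H) → a = 1 ∨ b = 1 ∨ c = 1)
    (hTI : ∀ e g₀ g₁ : G, g₀⁻¹ * e * g₀ ∈ H → g₁⁻¹ * e * g₁ ∈ H → e ≠ 1 →
      ∀ y, g₀⁻¹ * y * g₀ ∈ H → g₁⁻¹ * y * g₁ ∈ H) : Binary H := by
  intro n I J hn hp
  choose s hs using fun i => QuotientGroup.mk_surjective (I i)
  let st : Fin n → G → Prop := fun i x => (s i)⁻¹ * x * s i ∈ H
  have fixI : ∀ i x, x • I i = I i ↔ st i x := fun i x => by rw [← hs i]; exact smul_mk_eq x (s i)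
  by_cases hall : ∀ i j y, st i y → st j y
  · obtain ⟨g, h0, -⟩ := hp ⟨0, by omega⟩ ⟨1, by omega⟩ (by simp [Fin.ext_iff])
    refine ⟨g, fun k => ?_⟩
    by_cases hk : k = ⟨0, by omega⟩
    · rw [hk]; exact h0
    obtain ⟨g', h0', hk'⟩ := hp ⟨0, by omega⟩ k (Ne.symm hk)
    have e : (g⁻¹ * g') • I ⟨0, by omega⟩ = I ⟨0, by omega⟩ := by
      rw [mul_smul, h0', ← h0, inv_smul_smul]
    have := (fixI k _).2 (hall _ k _ ((fixI _ _).1 e))
    rw [mul_smul, inv_smul_eq_iff, hk'] at this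
    exact this.symm
  push Not at hall
  obtain ⟨i, j, y, hyi, hyj⟩ := hall
  have hij : i ≠ j := fun e => hyj (e ▸ hyi)
  obtain ⟨g, hi, hj⟩ := hp i j hij
  refine ⟨g, fun k => ?_⟩
  by_cases hki : k = i
  · rw [hki]; exact hi
  by_cases hkj : k = j
  · rw [hkj]; exact hj
  obtain ⟨u, ui, uk⟩ := hp i k (Ne.symm hki)
  obtain ⟨v, vj, vk⟩ := hp j k (Ne.symm hkj)
  set a := g⁻¹ * u with ha
  set b := g⁻¹ * v with hb
  have hai : a • I i = I i := by rw [ha, mul_smul, ui, ← hi, inv_smul_smul]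
  have hbj : b • I j = I j := by rw [hb, mul_smul, vj, ← hj, inv_smul_smul]
  have hak : a • I k = g⁻¹ • J k := by rw [ha, mul_smul, uk]
  have hbk : b • I k = g⁻¹ • J k := by rw [hb, mul_smul, vk]
  have hck : (b⁻¹ * a) • I k = I k := by rw [mul_smul, hak, ← hbk, inv_smul_smul]
  suffices g⁻¹ • J k = I k by rw [← this, smul_inv_smul]
  rcases h3 a b (b⁻¹ * a) (s i) (s j) (s k) ((fixI _ _).1 hai) ((fixI _ _).1 hbj) ((fixI _ _).1 hck)
    (mul_inv_cancel_left b a).symm ⟨y, hyi, hyj⟩ with h | h | h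
  · rw [← hak, h, one_smul]
  · rw [← hbk, h, one_smul]
  · rw [inv_mul_eq_one] at h
    have ha1 : a = 1 := by
      by_contra hne
      exact hyj (hTI a (s i) (s j) ((fixI _ _).1 hai) (h ▸ (fixI _ _).1 hbj) hne y hyi)
    rw [← hak, ha1, one_smul]

variable {F : Type*} [Field F]

local notation "π" => (QuotientGroup.mk : SL2 F → PSL2 F)

/-- The determinant of two vectors. -/
def det2 (u v : Fin 2 → F) : F := u 0 * v 1 - u 1 * v 0

theorem det2_mulVec (g : SL2 F) (u v : Fin 2 → F) :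
    det2 (g.1 *ᵥ u) (g.1 *ᵥ v) = det2 u v := by
  have hd := det_eq g
  simp only [det2, Matrix.mulVec, dotProduct, Fin.sum_univ_two]
  linear_combination (u 0 * v 1 - u 1 * v 0) * hd

theorem mk_inj_char_two (h2 : (2 : F) = 0) {g h : SL2 F} (e : π g = π h) : g = h := by
  rcases mk_eq_mk_iff.1 e with e | e
  · exact e
  · rw [e]
    apply Subtype.ext
    have h1 : (-1 : F) = 1 := by linear_combination -h2
    ext i j
    rw [Matrix.SpecialLinearGroup.coe_neg, Matrix.neg_apply, ← neg_one_mul, h1, one_mul]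

/-- The translations act as on the nonzero vectors. -/
theorem binary_trans (h2 : (2 : F) = 0) {H : Subgroup (PSL2 F)}
    (hH : ∀ y, y ∈ H ↔ ∃ b, y = π (upT b)) : Binary H := by
  intro n I J hn hp
  choose s hs using fun i => QuotientGroup.mk_surjective (I i)
  choose S hS using fun i => QuotientGroup.mk_surjective (s i)
  choose t ht using fun i => QuotientGroup.mk_surjective (J i)
  choose T hT using fun i => QuotientGroup.mk_surjective (t i)
  let e₁ : Fin 2 → F := ![1, 0]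
  let v : Fin n → Fin 2 → F := fun i => (S i).1 *ᵥ e₁
  let w : Fin n → Fin 2 → F := fun i => (T i).1 *ᵥ e₁
  have key : ∀ (G : SL2 F) (i : Fin n), π G • I i = J i ↔ G.1 *ᵥ v i = w i := by
    intro G i
    rw [← hs i, ← ht i, MulAction.Quotient.smul_mk, QuotientGroup.eq, smul_eq_mul, ← hS i, ← hT i,
      ← QuotientGroup.mk_mul, ← QuotientGroup.mk_inv, ← QuotientGroup.mk_mul, hH]
    constructor
    · rintro ⟨b, hb⟩
      have h := mk_inj_char_two h2 hb
      rw [inv_mul_eq_iff_eq_mul] at h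
      show G.1 *ᵥ ((S i).1 *ᵥ e₁) = (T i).1 *ᵥ e₁
      rw [h, Matrix.mulVec_mulVec, ← Matrix.SpecialLinearGroup.coe_mul,
        Matrix.SpecialLinearGroup.coe_mul (G * S i), ← Matrix.mulVec_mulVec]
      congr 1
      ext j
      fin_cases j <;> simp [e₁, upT, Matrix.mulVec, dotProduct, Fin.sum_univ_two]
    · intro h
      set M := (G * S i)⁻¹ * T i with hM
      have hM' : M.1 *ᵥ e₁ = e₁ := by
        rw [hM, Matrix.SpecialLinearGroup.coe_mul, ← Matrix.mulVec_mulVec,
          show (T i).1 *ᵥ e₁ = (G * S i).1 *ᵥ e₁ by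
            rw [Matrix.SpecialLinearGroup.coe_mul, ← Matrix.mulVec_mulVec]; exact h.symm,
          Matrix.mulVec_mulVec, ← Matrix.SpecialLinearGroup.coe_mul, inv_mul_cancel,
          Matrix.SpecialLinearGroup.coe_one, Matrix.one_mulVec]
      refine ⟨M.1 0 1, congrArg _ (Subtype.ext ?_)⟩
      have h0 := congrFun hM' 0
      have h1 := congrFun hM' 1
      simp [e₁, Matrix.mulVec, dotProduct, Fin.sum_univ_two] at h0 h1
      have hd := det_eq M
      rw [h0, h1, one_mul, mul_zero, sub_zero] at hd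
      show M.1 = !![1, M.1 0 1; 0, 1]
      ext i j
      fin_cases i <;> fin_cases j <;> simp [h0, h1, hd]
  have pair : ∀ i j, i ≠ j → ∃ G : SL2 F, G.1 *ᵥ v i = w i ∧ G.1 *ᵥ v j = w j := by
    intro i j hij
    obtain ⟨g, h1, h2'⟩ := hp i j hij
    obtain ⟨G, rfl⟩ := QuotientGroup.mk_surjective g
    exact ⟨G, (key _ _).1 h1, (key _ _).1 h2'⟩
  suffices ∃ G : SL2 F, ∀ i, G.1 *ᵥ v i = w i by
    obtain ⟨G, hG⟩ := this
    exact ⟨π G, fun i => (key G i).2 (hG i)⟩
  have hdet : ∀ i j, det2 (w i) (w j) = det2 (v i) (v j) := by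
    intro i j
    by_cases hij : i = j
    · subst hij; simp [det2, mul_comm]
    obtain ⟨G, hi, hj⟩ := pair i j hij
    rw [← hi, ← hj, det2_mulVec]
  have cram : ∀ (a b x : Fin 2 → F), det2 a b • x = det2 x b • a + det2 a x • b := by
    intro a b x
    ext r
    fin_cases r <;> simp [det2] <;> ring
  by_cases hind : ∃ i j, det2 (v i) (v j) ≠ 0
  · obtain ⟨i, j, hd⟩ := hind
    obtain ⟨G, hi, hj⟩ := pair i j (fun e => hd (by subst e; simp [det2, mul_comm]))
    refine ⟨G, fun k => ?_⟩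
    have e1 := congrArg (G.1 *ᵥ ·) (cram (v i) (v j) (v k))
    simp only [Matrix.mulVec_add, Matrix.mulVec_smul, hi, hj] at e1
    have e2 := cram (w i) (w j) (w k)
    rw [hdet, hdet, hdet] at e2
    exact smul_right_injective _ hd (e1.trans e2.symm)
  · push Not at hind
    obtain ⟨G, hi, -⟩ := pair ⟨0, by omega⟩ ⟨1, by omega⟩ (by simp [Fin.ext_iff])
    refine ⟨G, fun k => ?_⟩
    by_cases hk : k = ⟨0, by omega⟩
    · rw [hk]; exact hi
    obtain ⟨G', hi', hk'⟩ := pair ⟨0, by omega⟩ k (Ne.symm hk)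
    -- `v k` is a multiple of `v 0`
    set a := v ⟨0, by omega⟩ with ha
    obtain ⟨c, hc⟩ : ∃ c : F, v k = c • a := by
      have h := hind ⟨0, by omega⟩ k
      rw [← ha, det2] at h
      by_cases h0 : a 0 = 0
      · have h1 : a 1 ≠ 0 := fun h1 => by
          have hz : a = 0 := by ext r; fin_cases r <;> simp [h0, h1]
          have h' := congrArg ((S ⟨0, by omega⟩)⁻¹.1 *ᵥ ·) (ha ▸ hz : v ⟨0, by omega⟩ = 0)
          simp only [v, Matrix.mulVec_zero, Matrix.mulVec_mulVec, ← Matrix.SpecialLinearGroup.coe_mul,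
            inv_mul_cancel, Matrix.SpecialLinearGroup.coe_one, Matrix.one_mulVec] at h'
          simpa [e₁] using congrFun h' 0
        refine ⟨v k 1 / a 1, ?_⟩
        rw [h0, zero_mul, zero_sub, neg_eq_zero, mul_eq_zero] at h
        ext r
        fin_cases r <;> simp [h0, h.resolve_left h1, h1]
      · refine ⟨v k 0 / a 0, ?_⟩
        ext r
        fin_cases r
        · simp [h0]
        · simp only [Fin.mk_one, Pi.smul_apply, smul_eq_mul]
          field_simp
          linear_combination h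
    rw [hc, Matrix.mulVec_smul, hi, ← hi', ← Matrix.mulVec_smul, ← hc]
    exact hk'

/-- In `PSL_2(q)`, `q` an odd power of two, `x`, `y`, `x y` of trace one force `x` and `y` to commute. -/
theorem commute_of_trace_one (h2 : (2 : F) = 0) (hno : ∀ s : F, s ^ 2 + s + 1 ≠ 0) {X Y : SL2 F}
    (hX : tr X = 1) (hY : tr Y = 1) (hXY : tr (X * Y) = 1) : X * Y = Y * X := by
  set M := X * Y⁻¹ with hM
  have hXM : X = M * Y := by rw [hM, inv_mul_cancel_right]
  have hdX := det_eq X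
  have hdY := det_eq Y
  have hMtr : tr M = 0 := by
    have h : tr (X * Y) + tr M = tr X * tr Y := by
      simp only [hM, tr, Matrix.SpecialLinearGroup.coe_mul, Matrix.SpecialLinearGroup.coe_inv,
        Matrix.adjugate_fin_two, Matrix.mul_apply, Fin.sum_univ_two]
      simp
      ring
    rw [hXY, hX, hY] at h
    linear_combination h
  have hMY : tr (M * Y) = 1 := by rw [← hXM, hX]
  suffices M = 1 by rw [hXM, this, one_mul]
  have hdM := det_eq M
  simp only [tr] at hMtr hY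
  simp [tr, Matrix.SpecialLinearGroup.coe_mul, Matrix.mul_apply, Fin.sum_univ_two] at hMY
  set m := M.1 0 0 with hm
  have e11 : M.1 1 1 = m := by linear_combination hMtr - m * h2
  rw [e11] at hdM hMY
  by_cases hb : M.1 0 1 = 0
  · have hm1 : m = 1 := by
      rw [hb, zero_mul, sub_zero] at hdM
      rcases mul_self_eq_one_iff.1 hdM with h | h
      · exact h
      · linear_combination h - h2
    rw [hb, hm1] at hMY
    have hc : M.1 1 0 = 0 := by
      have h : M.1 1 0 * Y.1 0 1 = 0 := by linear_combination hMY - hY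
      refine (mul_eq_zero.1 h).resolve_right fun h01 => hno (Y.1 0 0) ?_
      rw [h01, zero_mul, sub_zero] at hdY
      linear_combination -hdY + Y.1 0 0 * hY + (Y.1 0 0 + 0) * h2 + (0 : F) * h
    apply Subtype.ext
    ext i j
    fin_cases i <;> fin_cases j <;> simp [← hm, hm1, hb, hc, e11]
  · exfalso
    have h01 : Y.1 0 1 ≠ 0 := fun h => hno (Y.1 0 0) (by
      rw [h, zero_mul, sub_zero] at hdY
      linear_combination -hdY + Y.1 0 0 * hY + Y.1 0 0 * h2)
    refine hno ((m + 1) * Y.1 0 1 / M.1 0 1 + Y.1 0 0) ?_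
    field_simp
    have htr : Y.1 1 1 = 1 + Y.1 0 0 := by linear_combination hY - Y.1 0 0 * h2
    rw [htr] at hdY hMY
    have hlin : M.1 0 1 * Y.1 1 0 + M.1 1 0 * Y.1 0 1 + (m + 1) = 0 := by
      linear_combination hMY + (m * (0 : F)) * hdY + (1 - m * Y.1 0 0) * h2
    linear_combination (M.1 0 1 * Y.1 0 1) * hlin + Y.1 0 1 ^ 2 * hdM +
      M.1 0 1 ^ 2 * hdY + ((m + 1) * Y.1 0 1 * Y.1 0 0 * M.1 0 1 + Y.1 0 1 ^ 2 * (m + 1) +
        M.1 0 1 ^ 2 - M.1 0 1 * Y.1 0 1 * M.1 1 0 * 0) * h2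

variable [Finite F]

theorem binary_three (h2 : (2 : F) = 0) (hno : ∀ s : F, s ^ 2 + s + 1 ≠ 0) {H : Subgroup (PSL2 F)}
    (hH : Nat.card H = 3) : Binary H := by
  have : Fact (Nat.Prime 3) := ⟨Nat.prime_three⟩
  have hord : ∀ y ∈ H, y ≠ 1 → orderOf y = 3 ∧ Subgroup.zpowers y = H := by
    intro y hy h1
    have hd : orderOf y ∣ 3 := by rw [← hH, ← Subgroup.orderOf_mk y hy]; exact orderOf_dvd_natCard _
    have ho := ((Nat.dvd_prime Nat.prime_three).1 hd).resolve_left (fun h => h1 (orderOf_eq_one_iff.1 h))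
    exact ⟨ho, (eq_of_le_of_card (Subgroup.zpowers_le.2 hy) (by rw [Nat.card_zpowers, ho, hH])).symm⟩
  have conjord : ∀ {x g : PSL2 F}, g⁻¹ * x * g ∈ H → x ≠ 1 → orderOf x = 3 := by
    intro x g hx h1
    have h := (hord _ hx (fun e => h1 ((conj_eq_one_iff _ _).1 e))).1
    rwa [show g⁻¹ * x * g = MulAut.conj g⁻¹ x by simp, MulEquiv.orderOf_eq] at h
  have hTI : ∀ e g₀ g₁ : PSL2 F, g₀⁻¹ * e * g₀ ∈ H → g₁⁻¹ * e * g₁ ∈ H → e ≠ 1 →
      ∀ y, g₀⁻¹ * y * g₀ ∈ H → g₁⁻¹ * y * g₁ ∈ H := by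
    intro e g₀ g₁ h₀ h₁ he y hy
    obtain ⟨i, hi⟩ := (hord _ h₀ (fun h => he ((conj_eq_one_iff _ _).1 h))).2.symm ▸ hy
    simp only at hi
    have e1 : y = e ^ i := by
      rw [← conj_zpow_eq] at hi
      exact (conj_inj_eq hi).symm
    rw [e1, show g₁⁻¹ * e ^ i * g₁ = (g₁⁻¹ * e * g₁) ^ i by
      rw [show g₁⁻¹ * e * g₁ = MulAut.conj g₁⁻¹ e by simp, ← map_zpow]; simp]
    exact H.zpow_mem h₁ i
  -- elements of order three have trace one
  have htr : ∀ X : SL2 F, orderOf (π X) = 3 → tr X = 1 := by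
    intro X hX
    have h := tr_sq_eq_one_of_pow_three (g := X) (by rw [← hX]; exact pow_orderOf_eq_one _)
      (fun e => by rw [e, orderOf_one] at hX; omega)
    rcases sq_eq_one_iff.1 h with h | h
    · exact h
    · linear_combination h - h2
  refine binary_of_triangle_free ?_ hTI
  intro a b c g₀ g₁ g₂ ha hb hc habc hy
  by_contra hcon
  push Not at hcon
  obtain ⟨ha1, hb1, hc1⟩ := hcon
  obtain ⟨y, hy0, hy1⟩ := hy
  obtain ⟨A, rfl⟩ := QuotientGroup.mk_surjective a
  obtain ⟨B, rfl⟩ := QuotientGroup.mk_surjective b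
  obtain ⟨C, rfl⟩ := QuotientGroup.mk_surjective c
  have hA := htr A (conjord ha ha1)
  have hB := htr B (conjord hb hb1)
  have hC := htr C (conjord hc hc1)
  rw [← QuotientGroup.mk_mul] at habc
  have hcomm := commute_of_trace_one h2 hno hB hC (by rw [← mk_inj_char_two h2 habc, hA])
  -- so all three lie in one subgroup of order three
  set a' := π A
  set b' := π B
  have hab : a' * b' = b' * a' := by
    rw [show a' = π (B * C) from habc, ← QuotientGroup.mk_mul, ← QuotientGroup.mk_mul, mul_assoc,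
      hcomm]
  have hb3 : ¬ orderOf b' ∣ 2 := by rw [conjord hb hb1]; decide
  have : Fact (Nat.Prime 2) := ⟨Nat.prime_two⟩
  have : CharP F 2 := by
    obtain ⟨p, hp⟩ := CharP.exists F
    rcases (Nat.dvd_prime Nat.prime_two).1
      ((CharP.cast_eq_zero_iff F p 2).1 (by exact_mod_cast h2)) with h | h
    · exact absurd h (CharP.char_ne_one F p)
    · exact h ▸ hp
  obtain ⟨z, hzb, hz⟩ := exists_torus_gen 2 hb3
  have hza : a' ∈ Subgroup.zpowers z :=
    mem_zpowers_of_commute_torus hz hzb (by rw [conjord hb hb1]) hab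
  have hzz := zpowers_eq_of_orderOf hza hzb (by rw [conjord ha ha1, conjord hb hb1])
  apply hy1
  refine hTI a' g₀ g₁ ha ?_ ha1 y hy0
  obtain ⟨i, hi⟩ : a' ∈ Subgroup.zpowers b' := hzz ▸ Subgroup.mem_zpowers a'
  simp only at hi
  rw [← hi, show g₁⁻¹ * b' ^ i * g₁ = (g₁⁻¹ * b' * g₁) ^ i by
    rw [show g₁⁻¹ * b' * g₁ = MulAut.conj g₁⁻¹ b' by simp, ← map_zpow]; simp]
  exact H.zpow_mem hb i

end Cfsg.Agent.BinaryPSL
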