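/-
Finite facts about `A_4`, `S_4`, `A_5` used for suborbits.

Main results (namespace `Cfsg.Agent.BinaryPSL`):
* `Inverts x t`, `KleinGen x v`, `PolyFacts K x k`
* `polyFacts_altFour`, `polyFacts_permFour`, `polyFacts_altFive_three`, `polyFacts_altFive_five`
-/
import Cfsg.Agent.EqLemmas

set_option autoImplicit false
set_option synthInstance.maxSize 1024
set_option synthInstance.maxHeartbeats 200000

namespace Cfsg.Agent.BinaryPSL

/-- `t` is an involution inverting `x`. -/
def Inverts {K : Type*} [Group K] (x t : K) : Prop := t * t = 1 ∧ t * x * t⁻¹ = x⁻¹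

/-- `v` generates a four-group normalised by `x`. -/
def KleinGen {K : Type*} [Group K] (x v : K) : Prop :=
  v ≠ 1 ∧ v * v = 1 ∧ v * (x * v * x⁻¹) = x * v * x⁻¹ * v ∧ v * (x * v * x⁻¹) = x⁻¹ * v * x

instance {K : Type*} [Group K] [DecidableEq K] (x t : K) : Decidable (Inverts x t) :=
  inferInstanceAs (Decidable (_ ∧ _))

instance {K : Type*} [Group K] [DecidableEq K] (x v : K) : Decidable (KleinGen x v) :=
  inferInstanceAs (Decidable (_ ∧ _))

/-- Evaluation of a word in two letters. -/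
def wd {K : Type*} [Group K] (x y : K) : List Bool → K
  | [] => 1
  | b :: l => (if b then y else x) * wd x y l

theorem wd_mem {K : Type*} [Group K] {D : Subgroup K} {x y : K} (hx : x ∈ D) (hy : y ∈ D) :
    ∀ l, wd x y l ∈ D
  | [] => D.one_mem
  | b :: l => D.mul_mem (by cases b <;> simpa) (wd_mem hx hy l)

/-- What is needed of a group `K` and an element `x` with `x ^ k = 1`. -/
structure PolyFacts (K : Type*) [Group K] (x : K) (k : ℕ) : Prop where
  pow : x ^ k = 1
  sq : x * x ≠ 1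
  cent : ∀ y, y * x = x * y → y ∈ Subgroup.zpowers x
  gen : ∀ D : Subgroup K, x ∈ D → ∀ y ∈ D, y ∉ Subgroup.zpowers x →
    ∃ z ∈ D, Inverts x z ∨ KleinGen x z
  klein : ∀ v v', KleinGen x v → KleinGen x v' → (∃ i : ℕ, v' = x ^ i * v * (x ^ i)⁻¹) ∨
    ∃ t, Inverts x t ∧ ∃ i : ℕ, v' = t * (x ^ i * v * (x ^ i)⁻¹) * t⁻¹
  tri : ∃ v w a b c : K, a ∈ Subgroup.zpowers x ∧ v⁻¹ * b * v ∈ Subgroup.zpowers x ∧
    w⁻¹ * c * w ∈ Subgroup.zpowers x ∧ a = b * c ∧
    (∀ e, e ∈ Subgroup.zpowers x → v⁻¹ * e * v ∈ Subgroup.zpowers x → e = 1) ∧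
    w⁻¹ * a * w ∉ Subgroup.zpowers x

theorem mem_zpowers_iff_fin {K : Type*} [Group K] {x y : K} {k : ℕ} (hk : 0 < k) (hx : x ^ k = 1) :
    y ∈ Subgroup.zpowers x ↔ ∃ i : Fin k, y = x ^ (i : ℕ) := by
  refine ⟨?_, fun ⟨i, hi⟩ => hi ▸ Subgroup.npow_mem_zpowers x i⟩
  rintro ⟨j, rfl⟩
  have hk' : (k : ℤ) ≠ 0 := by exact_mod_cast hk.ne'
  refine ⟨⟨(j % k).toNat, ?_⟩, ?_⟩
  · have h1 := Int.emod_lt_of_pos j (show (0 : ℤ) < k by exact_mod_cast hk)
    have h2 := Int.emod_nonneg j hk'
    omega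
  · show x ^ j = _
    rw [← zpow_natCast x (j % k).toNat, Int.toNat_of_nonneg (Int.emod_nonneg j hk'),
      zpow_eq_zpow_emod j (n := k) (by rw [zpow_natCast, hx])]

/-- Building `PolyFacts` from decidable data. -/
theorem polyFacts_of {K : Type*} [Group K] {x : K} {k : ℕ} (hk : 0 < k) (words : List (List Bool))
    (pow : x ^ k = 1) (sq : x * x ≠ 1) (cent : ∀ y, y * x = x * y → ∃ i : Fin k, y = x ^ (i : ℕ))
    (gen : ∀ y, (∃ i : Fin k, y = x ^ (i : ℕ)) ∨
      ∃ l ∈ words, Inverts x (wd x y l) ∨ KleinGen x (wd x y l))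
    (klein : ∀ v v', KleinGen x v → KleinGen x v' →
      (∃ i : Fin k, v' = x ^ (i : ℕ) * v * (x ^ (i : ℕ))⁻¹) ∨
      ∃ t, Inverts x t ∧ ∃ i : Fin k, v' = t * (x ^ (i : ℕ) * v * (x ^ (i : ℕ))⁻¹) * t⁻¹)
    (v w : K) (la lb lc : ℕ) (htri : x ^ la = v * x ^ lb * v⁻¹ * (w * x ^ lc * w⁻¹))
    (hdisj : ∀ i j : Fin k, v⁻¹ * x ^ (i : ℕ) * v = x ^ (j : ℕ) → x ^ (i : ℕ) = 1)
    (hne : ∀ i : Fin k, w⁻¹ * x ^ la * w ≠ x ^ (i : ℕ)) : PolyFacts K x k where
  pow := pow
  sq := sq
  cent y hy := (mem_zpowers_iff_fin hk pow).2 (cent y hy)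
  gen D hx y hy hne := by
    rcases gen y with h | ⟨l, -, h⟩
    · exact absurd ((mem_zpowers_iff_fin hk pow).2 h) hne
    · exact ⟨_, wd_mem hx hy l, h⟩
  klein v v' h h' := by
    rcases klein v v' h h' with ⟨i, hi⟩ | ⟨t, ht, i, hi⟩
    · exact Or.inl ⟨i, hi⟩
    · exact Or.inr ⟨t, ht, i, hi⟩
  tri := by
    refine ⟨v, w, x ^ la, v * x ^ lb * v⁻¹, w * x ^ lc * w⁻¹, Subgroup.npow_mem_zpowers x la,
      ?_, ?_, htri, fun e h h' => ?_, fun h => ?_⟩
    · rw [show v⁻¹ * (v * x ^ lb * v⁻¹) * v = x ^ lb by group]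
      exact Subgroup.npow_mem_zpowers x lb
    · rw [show w⁻¹ * (w * x ^ lc * w⁻¹) * w = x ^ lc by group]
      exact Subgroup.npow_mem_zpowers x lc
    · obtain ⟨i, rfl⟩ := (mem_zpowers_iff_fin hk pow).1 h
      obtain ⟨j, hj⟩ := (mem_zpowers_iff_fin hk pow).1 h'
      exact hdisj i j hj
    · obtain ⟨i, hi⟩ := (mem_zpowers_iff_fin hk pow).1 h
      exact hne i hi

section Concrete

open Equiv

/-- A three-cycle of `A_4`. -/
def x4 : alternatingGroup (Fin 4) := ⟨c[0, 1, 2], Perm.mem_alternatingGroup.2 (by decide)⟩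

/-- A three-cycle of `A_5`. -/
def x53 : alternatingGroup (Fin 5) := ⟨c[0, 1, 2], Perm.mem_alternatingGroup.2 (by decide)⟩

/-- A five-cycle of `A_5`. -/
def x55 : alternatingGroup (Fin 5) := ⟨c[0, 1, 2, 3, 4], Perm.mem_alternatingGroup.2 (by decide)⟩

theorem polyFacts_altFour : PolyFacts (alternatingGroup (Fin 4)) x4 3 :=
  polyFacts_of (by norm_num) [[false, false, true, false, true, true]] (by decide +kernel)
    (by decide +kernel) (by decide +kernel) (by decide +kernel) (by decide +kernel)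
    ⟨c[1, 2, 3], Perm.mem_alternatingGroup.2 (by decide)⟩
    ⟨c[1, 3, 2], Perm.mem_alternatingGroup.2 (by decide)⟩ 1 2 2
    (by decide +kernel) (by decide +kernel) (by decide +kernel)

theorem altFour_no_inverts : ∀ t : alternatingGroup (Fin 4), ¬ Inverts x4 t := by decide +kernel

theorem polyFacts_permFour : PolyFacts (Perm (Fin 4)) c[0, 1, 2] 3 :=
  polyFacts_of (by norm_num)
    [[false, false, true, false, true, true], [false, false, true, false, false, true]]
    (by decide +kernel) (by decide +kernel) (by decide +kernel) (by decide +kernel) (by decide +kernel)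
    c[2, 3] c[1, 2, 3] 2 2 1 (by decide +kernel) (by decide +kernel) (by decide +kernel)

theorem permFour_klein_conj : ∀ v v' : Perm (Fin 4), KleinGen c[0, 1, 2] v →
    KleinGen c[0, 1, 2] v' → ∃ i : Fin 3,
      v' = (c[0, 1, 2] : Perm (Fin 4)) ^ (i : ℕ) * v * ((c[0, 1, 2] : Perm (Fin 4)) ^ (i : ℕ))⁻¹ := by
  decide +kernel

theorem altFour_klein_conj : ∀ v v' : alternatingGroup (Fin 4), KleinGen x4 v →
    KleinGen x4 v' → ∃ i : Fin 3, v' = x4 ^ (i : ℕ) * v * (x4 ^ (i : ℕ))⁻¹ := by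
  decide +kernel

theorem polyFacts_altFive_three : PolyFacts (alternatingGroup (Fin 5)) x53 3 :=
  polyFacts_of (by norm_num)
    [[false, true, true, false, true, false, true, true, true],
     [false, true, true, false, false, true, false, true, true],
     [true, false, false, true, true, true, false, true, true, true]]
    (by decide +kernel) (by decide +kernel) (by decide +kernel) (by decide +kernel) (by decide +kernel)
    ⟨c[2, 3, 4], Perm.mem_alternatingGroup.2 (by decide)⟩
    ⟨c[1, 2, 3], Perm.mem_alternatingGroup.2 (by decide)⟩ 2 2 1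
    (by decide +kernel) (by decide +kernel) (by decide +kernel)

theorem polyFacts_altFive_five : PolyFacts (alternatingGroup (Fin 5)) x55 5 :=
  polyFacts_of (by norm_num)
    [[true, false, true, true, false, false, true, true],
     [true, false, false, true, false, true, false, true, true, true],
     [true, false, false, true, false, true, true],
     [true, false, false, false, false, true, true],
     [true, false, false, false, true, false, false, true],
     [true, false, false, false, true, true, false, false, true]]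
    (by decide +kernel) (by decide +kernel) (by decide +kernel) (by decide +kernel) (by decide +kernel)
    ⟨c[2, 3, 4], Perm.mem_alternatingGroup.2 (by decide)⟩
    ⟨c[2, 4, 3], Perm.mem_alternatingGroup.2 (by decide)⟩ 1 4 4
    (by decide +kernel) (by decide +kernel) (by decide +kernel)

theorem altFive_five_no_klein : ∀ v : alternatingGroup (Fin 5), ¬ KleinGen x55 v := by decide +kernel

end Concrete

end Cfsg.Agent.BinaryPSL
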