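/-
Subgroups `A_4`, `S_4`, `A_5` of `PSL_2(q)`, `q` odd.

Main results (namespace `Cfsg.Agent.BinaryPSL`):
* `not_binary_poly`            : a suborbit through a cyclic point stabiliser
* `exists_centralizing`        : elements of the centraliser outside a subgroup
* `not_binary_altFour`, `not_binary_permFour`, `not_binary_altFive` : outside the small cases
-/
import Cfsg.Agent.Lib.BinaryPSL.Cases
import Cfsg.Agent.Lib.BinaryPSL.PolyGroups
import Cfsg.Agent.Lib.PSL2.Centralizers

set_option autoImplicit false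
set_option linter.unusedSectionVars false

namespace Cfsg.Agent.BinaryPSL

open PSL2

variable {F : Type*} [Field F] [Finite F]

theorem not_binary_poly (h2 : (2 : F) ≠ 0) {K : Type*} [Group K] {H : Subgroup (PSL2 F)}
    (e : H ≃* K) {x₀ : K} {k : ℕ} (hP : PolyFacts K x₀ k) {g : PSL2 F}
    (hg : g * (e.symm x₀ : PSL2 F) = (e.symm x₀ : PSL2 F) * g) (hgH : g ∉ H)
    (hgg : (∃ t, Inverts x₀ t) → g * g ∉ H)
    (h4 : (∀ v v', KleinGen x₀ v → KleinGen x₀ v' → ∃ i : ℕ, v' = x₀ ^ i * v * (x₀ ^ i)⁻¹) ∨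
      ∀ z : PSL2 F, z * z * (z * z) = 1 → z * z = 1) :
    ¬ Binary H := by
  let ι : K →* PSL2 F := H.subtype.comp e.symm.toMonoidHom
  have hι : Function.Injective ι := Subtype.coe_injective.comp e.symm.injective
  have hmem : ∀ y, ι y ∈ H := fun y => (e.symm y).2
  have hιs : ∀ y ∈ H, ∃ k, ι k = y := fun y hy => ⟨e ⟨y, hy⟩, by simp [ι]⟩
  set X := ι x₀ with hX
  have hgX : g * X = X * g := hg
  have hXX : X * X ≠ 1 := fun h => hP.sq (hι (by rw [map_mul, map_one]; exact h))
  have cinv : g⁻¹ * X * g = X := by rw [mul_assoc, ← hgX, inv_mul_cancel_left]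
  -- the elements of `H` carried into `H`
  let D : Subgroup K :=
    { carrier := {y | g⁻¹ * ι y * g ∈ H}
      one_mem' := by
        show g⁻¹ * ι 1 * g ∈ H
        rw [map_one, mul_one, inv_mul_cancel]; exact H.one_mem
      mul_mem' := fun {a b} (ha hb) => by
        show g⁻¹ * ι (a * b) * g ∈ H
        rw [map_mul, conj_mul_eq]; exact H.mul_mem ha hb
      inv_mem' := fun {a} (ha) => by
        show g⁻¹ * ι a⁻¹ * g ∈ H
        rw [map_inv, conj_inv_eq]; exact H.inv_mem ha }
  have hxD : x₀ ∈ D := by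
    show g⁻¹ * ι x₀ * g ∈ H
    rw [← hX, cinv]; exact hmem _
  -- an element commuting with `X` in `H` is a power of it
  have hcent : ∀ y ∈ H, y * X = X * y → y ∈ Subgroup.zpowers X := by
    intro y hy hc
    obtain ⟨m, rfl⟩ := hιs y hy
    obtain ⟨i, rfl⟩ := hP.cent m (hι (by rw [map_mul, map_mul]; exact hc))
    exact ⟨i, (map_zpow ι x₀ i).symm⟩
  have hDz : ∀ y : K, g⁻¹ * ι y * g ∈ H → y ∈ Subgroup.zpowers x₀ := by
    intro y hy
    by_contra hne
    obtain ⟨z, hz, hT | hV⟩ := hP.gen D hxD y hy hne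
    · -- an inverting involution
      have hti : ι z * X * (ι z)⁻¹ = X⁻¹ := by rw [hX, ← map_inv, ← map_mul, ← map_mul, hT.2, map_inv]
      have htg := conj_eq_inv_of_inverting hXX hti hgX
      have hzz : g⁻¹ * ι z * g ∈ H := hz
      have e1 : g⁻¹ * ι z * g = (g * g)⁻¹ * ι z := by
        have h' : ι z * g = g⁻¹ * ι z := by rw [← htg, inv_mul_cancel_right]
        rw [mul_assoc, h', ← mul_assoc, mul_inv_rev]
      rw [e1] at hzz
      have h := H.mul_mem hzz (H.inv_mem (hmem z))
      rw [mul_inv_cancel_right, Subgroup.inv_mem_iff] at h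
      exact hgg ⟨z, hT⟩ h
    · -- a four-group
      obtain ⟨v', hv'⟩ := hιs _ (show g⁻¹ * ι z * g ∈ H from hz)
      have hconj : ∀ {i : ℕ}, ι (x₀ ^ i) = X ^ i := fun {i} => map_pow ι x₀ i
      have cx : ∀ i : ℕ, Commute g (X ^ i) := fun i => (show Commute g X from hgX).pow_right i
      have hV' : KleinGen x₀ v' := by
        have hxc : ι (x₀ * v' * x₀⁻¹) = g⁻¹ * ι (x₀ * z * x₀⁻¹) * g := by
          simp only [map_mul, map_inv, hv', ← hX, conj_mul_eq g, conj_inv_eq g, cinv]
        have hxc' : ι (x₀⁻¹ * v' * x₀) = g⁻¹ * ι (x₀⁻¹ * z * x₀) * g := by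
          simp only [map_mul, map_inv, hv', ← hX, conj_mul_eq g, conj_inv_eq g, cinv]
        refine ⟨fun h => hV.1 (hι ?_), hι ?_, hι ?_, hι ?_⟩
        · rw [h, map_one] at hv'
          rw [map_one]; exact (conj_eq_one_iff g _).1 hv'.symm
        · rw [map_mul, hv', ← conj_mul_eq, ← map_mul, hV.2.1, map_one, mul_one, inv_mul_cancel]
        · rw [map_mul ι v' (x₀ * v' * x₀⁻¹), map_mul ι (x₀ * v' * x₀⁻¹) v', hxc, hv', ← conj_mul_eq,
            ← conj_mul_eq, ← map_mul, ← map_mul, hV.2.2.1]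
        · rw [map_mul ι v' (x₀ * v' * x₀⁻¹), hxc, hxc', hv', ← conj_mul_eq, ← map_mul, hV.2.2.2]
      set v := ι z with hvdef
      have hv2 : v * v = 1 := by rw [hvdef, ← map_mul, hV.2.1, map_one]
      have hv1 : v ≠ 1 := fun h => hV.1 (hι (by rw [map_one]; exact h))
      set u := X * v * X⁻¹ with hu
      have hvu : v * u = u * v := by rw [hu, hvdef, hX, ← map_inv, ← map_mul, ← map_mul, ← map_mul,
        ← map_mul, hV.2.2.1]
      have hvu' : v * u = X⁻¹ * v * X := by rw [hu, hvdef, hX, ← map_inv, ← map_mul, ← map_mul,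
        ← map_mul, ← map_mul, ← map_mul, hV.2.2.2]
      have hu2 : u * u = 1 := by
        rw [hu, show X * v * X⁻¹ * (X * v * X⁻¹) = X * (v * v) * X⁻¹ by group, hv2, mul_one,
          mul_inv_cancel]
      have hu1 : u ≠ 1 := fun h => hv1 (by
        rw [hu, mul_inv_eq_one, mul_eq_left] at h; exact h)
      have hne' : v ≠ u := fun h => hv1 (by
        rw [← h, hv2] at hvu'
        exact (conj_eq_one_iff X v).1 hvu'.symm)
      have hnc : X * v ≠ v * X := fun h => hne' (by rw [hu, h, mul_inv_cancel_right])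
      -- centralising `X` and `v`
      have rigid : ∀ y : PSL2 F, y * X = X * y → y * v = v * y → y = 1 := by
        intro y hyX hyv
        have hyu : y * u = u * y := by
          rw [hu]
          exact ((show Commute y X from hyX).mul_right hyv).mul_right
            (show Commute y X from hyX).inv_right
        rcases eq_of_commute_pair h2 hv1 hu1 hv2 hu2 hvu hne' hyv hyu with h | rfl | rfl | rfl
        · exact h
        · exact absurd hyX.symm hnc
        · exfalso
          rw [hu] at hyX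
          apply hnc
          have := congrArg (fun w => X⁻¹ * w * X) hyX
          simpa [mul_assoc] using this.symm
        · exfalso
          rw [hvu'] at hyX
          apply hnc
          have := congrArg (fun w => X * w * X⁻¹) hyX
          simpa [mul_assoc] using this.symm
      have same : ∀ i : ℕ, v' = x₀ ^ i * z * (x₀ ^ i)⁻¹ → False := by
        intro i hi
        have hy : g * X ^ i = 1 := rigid _
          ((show Commute g X from hgX).mul_left (Commute.pow_self X i)).eq (by
          rw [hi, map_mul, map_mul, map_inv, hconj, ← hvdef] at hv'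
          have h := congrArg (fun w => g * w * X ^ i) hv'
          simp only [mul_assoc, inv_mul_cancel, mul_one, mul_inv_cancel_left] at h
          simpa [mul_assoc] using h)
        exact hgH (by rw [eq_inv_of_mul_eq_one_left hy]; exact H.inv_mem (H.pow_mem (hmem x₀) i))
      rcases hP.klein z v' hV hV' with ⟨i, hi⟩ | ⟨t, ht, i, hi⟩
      · exact same i hi
      · rcases h4 with hU | h4
        · obtain ⟨j, hj⟩ := hU z v' hV hV'
          exact same j hj
        -- otherwise an element of order four appears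
        set s := ι t * X ^ i with hs
        have htX : ι t * X * (ι t)⁻¹ = X⁻¹ := by
          rw [hX, ← map_inv, ← map_mul, ← map_mul, ht.2, map_inv]
        have hsX : s * X * s⁻¹ = X⁻¹ := by
          rw [hs, mul_inv_rev, show ι t * X ^ i * X * ((X ^ i)⁻¹ * (ι t)⁻¹) = ι t * X * (ι t)⁻¹ by group,
            htX]
        have hs2 : s * s = 1 := by
          have ht2 : ι t * ι t = 1 := by rw [← map_mul, ht.1, map_one]
          have h' := congrArg (· ^ i) htX
          simp only [conj_pow, inv_pow] at h'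
          rw [hs, show ι t * X ^ i * (ι t * X ^ i) = ι t * X ^ i * (ι t)⁻¹ * (ι t * ι t) * X ^ i by group,
            h', ht2, mul_one, inv_mul_cancel]
        have hsg := conj_eq_inv_of_inverting hXX hsX hgX
        set y := g * s with hy
        have hy2 : y * y = 1 := by
          rw [hy, show g * s * (g * s) = g * (s * g * s⁻¹) * (s * s) by group, hsg, hs2, mul_one,
            mul_inv_cancel]
        have hyX : y * X * y⁻¹ = X⁻¹ := by
          rw [hy, show g * s * X * (g * s)⁻¹ = g * (s * X * s⁻¹) * g⁻¹ by group, hsX]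
          rw [((show Commute g X from hgX).inv_right).eq, mul_inv_cancel_right]
        have hyv : y * v = v * y := by
          have h : g⁻¹ * v * g = s * v * s⁻¹ := by
            rw [hvdef, ← hv', hi, hs]
            simp only [map_mul, map_inv, hconj]
            group
          have h' := congrArg (fun w => g * w * s) h
          simp only [mul_assoc, mul_inv_cancel_left, inv_mul_cancel, mul_one] at h'
          rw [hy, mul_assoc]; exact h'.symm
        have hiy : y⁻¹ = y := inv_eq_of_mul_eq_one_right hy2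
        have hyu : y * u * y⁻¹ = X⁻¹ * v * X := by
          rw [hu, show y * (X * v * X⁻¹) * y⁻¹ = y * X * y⁻¹ * (y * v * y⁻¹) * (y * X * y⁻¹)⁻¹ by group,
            hyX, hyv, mul_inv_cancel_right, inv_inv]
        have hsq : y * u * (y * u) = v := by
          rw [show y * u * (y * u) = y * u * y⁻¹ * (y * y) * u by group, hy2, mul_one, hyu, ← hvu',
            mul_assoc v u u, hu2, mul_one]
        have h := h4 (y * u) (by rw [hsq, hv2])
        rw [hsq] at h
        exact hv1 h
  obtain ⟨v, w, a, b, c, ha, hb, hc, habc, hdisj, hne⟩ := hP.tri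
  have hzp : ∀ {y : K}, y ∈ Subgroup.zpowers x₀ → ι y ∈ Subgroup.zpowers X := by
    rintro _ ⟨i, rfl⟩
    exact ⟨i, (map_zpow ι x₀ i).symm⟩
  have hzp' : ∀ {y : K}, ι y ∈ Subgroup.zpowers X → y ∈ Subgroup.zpowers x₀ := by
    rintro y ⟨i, hi⟩
    refine ⟨i, hι ?_⟩
    simp only [map_zpow] at hi ⊢
    exact hi
  refine not_binary_of_suborbit (g := g) (x := X) (u := 1) (v := ι v) (w := ι w) (a := ι a) (b := ι b)
    (c := ι c) (hmem _) hgX H.one_mem (hmem v) (hmem w) (fun y hy hy' => ?_)
    (by rw [inv_one, one_mul, mul_one]; exact hzp ha)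
    (by rw [← map_inv, ← map_mul, ← map_mul]; exact hzp hb)
    (by rw [← map_inv, ← map_mul, ← map_mul]; exact hzp hc) (by rw [habc, map_mul]) ?_ ?_
  · obtain ⟨m, rfl⟩ := hιs y hy
    exact hzp (hDz m hy')
  · intro q hq1 hq2
    rw [inv_one, one_mul, mul_one] at hq1
    obtain ⟨i, rfl⟩ := hq1
    rw [show (fun i : ℤ => X ^ i) i = ι (x₀ ^ i) from (map_zpow ι x₀ i).symm, ← map_inv, ← map_mul,
      ← map_mul] at hq2
    show X ^ i = 1
    rw [hX, ← map_zpow, hdisj (x₀ ^ i) (Subgroup.zpow_mem_zpowers x₀ i) (hzp' hq2), map_one]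
  · rw [← map_inv, ← map_mul, ← map_mul]
    exact fun h => hne (hzp' h)

/-- Elements of the centraliser outside `H`. -/
theorem exists_centralizing (p : ℕ) [Fact p.Prime] [CharP F p] {X : PSL2 F} {k : ℕ} (hk : 3 ≤ k)
    (hX : orderOf X = k) {H : Subgroup (PSL2 F)}
    (hcent : ∀ y ∈ H, y * X = X * y → y ∈ Subgroup.zpowers X)
    (hsize : ∀ n, (n = (Nat.card F - 1) / Nat.gcd 2 (Nat.card F - 1) ∨
      n = (Nat.card F + 1) / Nat.gcd 2 (Nat.card F - 1)) → k ∣ n → k < n)
    (hchar : k ∣ p → k < Nat.card F) :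
    ∃ g, g * X = X * g ∧ g ∉ H ∧ ((k ∣ p → Odd (Nat.card F)) →
      (∀ n, (n = (Nat.card F - 1) / Nat.gcd 2 (Nat.card F - 1) ∨
        n = (Nat.card F + 1) / Nat.gcd 2 (Nat.card F - 1)) → k ∣ n → 2 * k < n) → g * g ∉ H) := by
  by_cases hkp : k ∣ p
  · have hkp' : k = p := ((Fact.out : p.Prime).eq_one_or_self_of_dvd k hkp).resolve_left (by omega)
    subst hkp'
    set C := Subgroup.centralizer ({X} : Set (PSL2 F))
    have hC : Nat.card C = Nat.card F := card_centralizer_char k hX
    obtain ⟨g, hgC, hg⟩ : ∃ g ∈ C, g ∉ Subgroup.zpowers X := by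
      by_contra hcon
      push Not at hcon
      have h := Subgroup.card_le_of_le (show C ≤ Subgroup.zpowers X from hcon)
      rw [hC, Nat.card_zpowers, hX] at h
      exact absurd h (hchar dvd_rfl).not_ge
    have hgX := Subgroup.mem_centralizer_singleton_iff.1 hgC
    refine ⟨g, hgX, fun h => hg (hcent g h hgX), fun ho _ h => hg ?_⟩
    have h2 := hcent _ h ((show Commute g X from hgX).mul_left hgX).eq
    obtain ⟨j, hj⟩ := ho dvd_rfl
    have hgo : g ^ Nat.card F = 1 := by
      rw [← hC, ← (show ((⟨g, hgC⟩ : C) : PSL2 F) = g from rfl), ← Subgroup.coe_pow, pow_card_eq_one',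
        Subgroup.coe_one]
    have hg' : (g * g) ^ (j + 1) = g := by
      rw [← pow_two, ← pow_mul, show 2 * (j + 1) = Nat.card F + 1 by omega, pow_succ, hgo, one_mul]
    rw [← hg']
    exact Subgroup.pow_mem _ h2 _
  · obtain ⟨y, hxy, hCy, hy⟩ := PSL2.centralizer_torus p (x := X) (hX ▸ hkp) (hX ▸ hk)
    have hyX : y * X = X * y := Subgroup.mem_centralizer_singleton_iff.1 (hCy ▸ Subgroup.mem_zpowers y)
    have hdvd : k ∣ orderOf y := hX ▸ orderOf_dvd_of_mem_zpowers hxy
    refine ⟨y, hyX, fun h => ?_, fun _ hbig h => ?_⟩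
    · have := Nat.le_of_dvd (by omega) (hX ▸ orderOf_dvd_of_mem_zpowers (hcent y h hyX))
      have := hsize _ hy hdvd
      omega
    · have h2 := hcent _ h ((show Commute y X from hyX).mul_left hyX).eq
      obtain ⟨i, hi⟩ := h2
      have hpow : y ^ (2 * k) = 1 := by
        rw [pow_mul, pow_two, ← hi]
        show (X ^ i) ^ k = 1
        rw [← zpow_natCast, ← zpow_mul, mul_comm, zpow_mul, zpow_natCast, ← hX, pow_orderOf_eq_one,
          one_zpow]
      have := Nat.le_of_dvd (by omega) (orderOf_dvd_of_pow_eq_one hpow)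
      have := hbig _ hy hdvd
      omega

theorem orderOf_poly {K : Type*} [Group K] {H : Subgroup (PSL2 F)} (e : H ≃* K) (x : K) :
    orderOf (e.symm x : PSL2 F) = orderOf x := by
  rw [Subgroup.orderOf_coe, MulEquiv.orderOf_eq]

theorem cent_poly {K : Type*} [Group K] {H : Subgroup (PSL2 F)} (e : H ≃* K) {x : K} {k : ℕ}
    (hP : PolyFacts K x k) :
    ∀ y ∈ H, y * (e.symm x : PSL2 F) = (e.symm x : PSL2 F) * y →
      y ∈ Subgroup.zpowers (e.symm x : PSL2 F) := by
  intro y hy hc
  obtain ⟨i, hi⟩ := hP.cent (e ⟨y, hy⟩) (e.symm.injective (by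
    apply Subtype.ext
    simpa using hc))
  refine ⟨i, ?_⟩
  have h := congrArg (fun z => (e.symm z : PSL2 F)) hi
  simpa using h

variable (p : ℕ) [Fact p.Prime] [CharP F p]

include p in
theorem not_binary_altFour (h7 : 7 < Nat.card F) (hodd : Odd (Nat.card F)) {H : Subgroup (PSL2 F)}
    (e : H ≃* alternatingGroup (Fin 4)) : ¬ Binary H := by
  have h2 : (2 : F) ≠ 0 := two_ne_zero_iff_odd.2 hodd
  have : Fact (Nat.Prime 3) := ⟨Nat.prime_three⟩
  have hX : orderOf (e.symm x4 : PSL2 F) = 3 := by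
    rw [orderOf_poly, orderOf_eq_prime polyFacts_altFour.pow (by decide +kernel)]
  obtain ⟨j, hj⟩ := hodd
  have hd : Nat.gcd 2 (Nat.card F - 1) = 2 := Nat.gcd_eq_left (by omega)
  obtain ⟨g, hg, hgH, -⟩ := exists_centralizing p le_rfl hX (cent_poly e polyFacts_altFour)
    (fun n hn _ => by rw [hd] at hn; omega) (fun _ => by omega)
  refine not_binary_poly h2 e polyFacts_altFour hg hgH (fun ⟨t, ht⟩ => absurd ht (altFour_no_inverts t))
    (Or.inl fun v v' hv hv' => ?_)
  obtain ⟨i, hi⟩ := altFour_klein_conj v v' hv hv'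
  exact ⟨i, hi⟩

include p in
theorem not_binary_permFour (hodd : Odd (Nat.card F)) (h : 13 < Nat.card F ∨ p = 3)
    (h3 : 3 < Nat.card F) {H : Subgroup (PSL2 F)} (e : H ≃* Equiv.Perm (Fin 4)) : ¬ Binary H := by
  have h2 : (2 : F) ≠ 0 := two_ne_zero_iff_odd.2 hodd
  have : Fact (Nat.Prime 3) := ⟨Nat.prime_three⟩
  have hX : orderOf (e.symm (c[0, 1, 2] : Equiv.Perm (Fin 4)) : PSL2 F) = 3 := by
    rw [orderOf_poly, orderOf_eq_prime polyFacts_permFour.pow (by decide +kernel)]
  have hsplit : ∀ n, (n = (Nat.card F - 1) / Nat.gcd 2 (Nat.card F - 1) ∨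
      n = (Nat.card F + 1) / Nat.gcd 2 (Nat.card F - 1)) → 3 ∣ n → 6 < n := by
    intro n hn h3n
    obtain ⟨j, hj⟩ := hodd
    rw [Nat.gcd_eq_left (show 2 ∣ Nat.card F - 1 by omega)] at hn
    rcases h with h | rfl
    · rcases hn with hn | hn <;> omega
    · exfalso
      obtain ⟨c, hc, hcq⟩ := GLOrder.exists_card_eq_pow (F := F) 3
      have h3q : 3 ∣ Nat.card F := hcq ▸ dvd_pow_self 3 hc.ne'
      rcases hn with hn | hn <;> omega
  obtain ⟨g, hg, hgH, hgg⟩ := exists_centralizing p le_rfl hX (cent_poly e polyFacts_permFour)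
    (fun n hn h => by have := hsplit n hn h; omega) (fun _ => h3)
  refine not_binary_poly h2 e polyFacts_permFour hg hgH
    (fun _ => hgg (fun _ => hodd) (fun n hn h => hsplit n hn h)) (Or.inl fun v v' hv hv' => ?_)
  obtain ⟨i, hi⟩ := permFour_klein_conj v v' hv hv'
  exact ⟨i, hi⟩

include p in
theorem not_binary_altFive (hodd : Odd (Nat.card F)) (h : 21 < Nat.card F) {H : Subgroup (PSL2 F)}
    (e : H ≃* alternatingGroup (Fin 5)) : ¬ Binary H := by
  have h2 : (2 : F) ≠ 0 := two_ne_zero_iff_odd.2 hodd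
  have : Fact (Nat.Prime 5) := ⟨Nat.prime_five⟩
  have hX : orderOf (e.symm x55 : PSL2 F) = 5 := by
    rw [orderOf_poly, orderOf_eq_prime polyFacts_altFive_five.pow (by decide +kernel)]
  obtain ⟨j, hj⟩ := hodd
  have hd : Nat.gcd 2 (Nat.card F - 1) = 2 := Nat.gcd_eq_left (by omega)
  have hsplit : ∀ n, (n = (Nat.card F - 1) / Nat.gcd 2 (Nat.card F - 1) ∨
      n = (Nat.card F + 1) / Nat.gcd 2 (Nat.card F - 1)) → 5 ∣ n → 10 < n := by
    intro n hn h5
    rw [hd] at hn
    rcases hn with hn | hn <;> omega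
  obtain ⟨g, hg, hgH, hgg⟩ := exists_centralizing p (by norm_num) hX
    (cent_poly e polyFacts_altFive_five) (fun n hn h => by have := hsplit n hn h; omega)
    (fun _ => by omega)
  exact not_binary_poly h2 e polyFacts_altFive_five hg hgH
    (fun _ => hgg (fun _ => ⟨j, hj⟩) (fun n hn h => hsplit n hn h))
    (Or.inl fun v _ hv _ => absurd hv (altFive_five_no_klein v))

include p in
theorem not_binary_altFive_nineteen (h : Nat.card F = 19) {H : Subgroup (PSL2 F)}
    (e : H ≃* alternatingGroup (Fin 5)) : ¬ Binary H := by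
  have hodd : Odd (Nat.card F) := by rw [h]; decide
  have h2 : (2 : F) ≠ 0 := two_ne_zero_iff_odd.2 hodd
  have : Fact (Nat.Prime 3) := ⟨Nat.prime_three⟩
  have hp : p = 19 := by
    obtain ⟨c, hc, hcq⟩ := GLOrder.exists_card_eq_pow (F := F) p
    have h' : p ∣ 19 := h ▸ hcq ▸ dvd_pow_self p hc.ne'
    exact ((Nat.dvd_prime (by norm_num)).1 h').resolve_left (Fact.out : p.Prime).ne_one
  subst hp
  have hd : Nat.gcd 2 (Nat.card F - 1) = 2 := by rw [h]; rfl
  have hX : orderOf (e.symm x53 : PSL2 F) = 3 := by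
    rw [orderOf_poly, orderOf_eq_prime polyFacts_altFive_three.pow (by decide +kernel)]
  have hsplit : ∀ n, (n = (Nat.card F - 1) / Nat.gcd 2 (Nat.card F - 1) ∨
      n = (Nat.card F + 1) / Nat.gcd 2 (Nat.card F - 1)) → 3 ∣ n → 6 < n := by
    intro n hn h3
    rw [hd, h] at hn
    rcases hn with hn | hn <;> omega
  obtain ⟨g, hg, hgH, hgg⟩ := exists_centralizing 19 le_rfl hX
    (cent_poly e polyFacts_altFive_three) (fun n hn h => by have := hsplit n hn h; omega)
    (fun h => absurd h (by norm_num))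
  refine not_binary_poly h2 e polyFacts_altFive_three hg hgH
    (fun _ => hgg (fun _ => hodd) (fun n hn h => hsplit n hn h)) (Or.inr fun z hz => ?_)
  have h4 : orderOf z ∣ 4 := orderOf_dvd_of_pow_eq_one (by
    rw [show (4 : ℕ) = 2 + 2 from rfl, pow_add, pow_two]; exact hz)
  have h' : orderOf z ∣ 2 := by
    rcases psl_orderOf_cases 19 z with h' | h' | h'
    · rw [hd, h] at h'
      exact (Nat.dvd_gcd h4 h').trans (show Nat.gcd 4 9 ∣ 2 by decide)
    · rw [hd, h] at h'
      exact (Nat.dvd_gcd h4 h').trans (show Nat.gcd 4 10 ∣ 2 by decide)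
    · exact (Nat.dvd_gcd h4 h').trans (show Nat.gcd 4 19 ∣ 2 by decide)
  rw [← pow_two]
  exact orderOf_dvd_iff_pow_eq_one.1 h'

end Cfsg.Agent.BinaryPSL
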