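/-
The small cases: `A_4`, `S_4` in `PSL_2(7)` and `A_5` in `PSL_2(9)`, `PSL_2(11)`.

Main results (namespace `Cfsg.Agent.BinaryPSL`):
* `not_binary_of_orbits`           : every suborbit outside a block is more than half of the rest
* `not_binary_altFour_seven`, `not_binary_permFour_seven`, `not_binary_altFive_small`
-/
import Cfsg.Agent.Lib.BinaryPSL.Polyhedral
import Cfsg.Agent.Lib.PSL2.Klein
import Cfsg.Agent.Lib.SmallOrders.Basic

set_option autoImplicit false
set_option linter.unusedSectionVars false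
set_option synthInstance.maxSize 1024

open MulAction

namespace Cfsg.Agent.BinaryPSL

open PSL2

/-- The elements of `H` carried into `H` by `s`. -/
def carried {G : Type*} [Group G] (H : Subgroup G) (s : G) : Subgroup G :=
  H ⊓ H.map (MulAut.conj s).toMonoidHom

theorem mem_carried {G : Type*} [Group G] {H : Subgroup G} {s y : G} :
    y ∈ carried H s ↔ y ∈ H ∧ s⁻¹ * y * s ∈ H := by
  rw [carried, Subgroup.mem_inf, mem_conj_iff]

theorem not_binary_of_orbits {G : Type*} [Group G] [Finite G] {H K : Subgroup G} (hHK : H ≤ K)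
    (hcard : Nat.card G < K.index.factorial) (M : ℕ) (hM : H.index ≤ M + H.relIndex K)
    (hD : ∀ s, s ∉ K → Nat.card (carried H s) * M < 2 * Nat.card H) : ¬ Binary H := by
  refine not_binary_of_transitive hHK (fun s t hs ht => ?_) hcard
  by_contra hcon
  push Not at hcon
  classical
  have : Fintype (G ⧸ H) := Fintype.ofFinite _
  let orb : G → Finset (G ⧸ H) := fun r =>
    Finset.univ.filter fun P => ∃ h : H, (h : G) • (QuotientGroup.mk r : G ⧸ H) = P
  have horb : ∀ r : G, Nat.card H = (orb r).card * Nat.card (carried H r) := by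
    intro r
    have : Fintype H := Fintype.ofFinite _
    let f : H → G ⧸ H := fun h => (h : G) • (QuotientGroup.mk r : G ⧸ H)
    have himg : orb r = Finset.univ.image f := by ext P; simp [orb, f]
    rw [himg, Nat.card_eq_fintype_card, ← Finset.card_univ,
      Finset.card_eq_sum_card_image f Finset.univ]
    rw [Finset.sum_congr rfl (g := fun _ => Nat.card (carried H r)) fun P hP => ?_, Finset.sum_const,
      smul_eq_mul]
    obtain ⟨h₀, -, rfl⟩ := Finset.mem_image.1 hP
    rw [← Fintype.card_subtype, ← Nat.card_eq_fintype_card]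
    refine Nat.card_congr
      { toFun := fun h => ⟨(h₀ : G)⁻¹ * (h.1 : G), mem_carried.2
          ⟨H.mul_mem (H.inv_mem h₀.2) h.1.2, (smul_mk_eq _ r).1 (by
            rw [mul_smul, inv_smul_eq_iff]; exact h.2)⟩⟩
        invFun := fun y => ⟨⟨(h₀ : G) * (y : G), H.mul_mem h₀.2 (mem_carried.1 y.2).1⟩, by
          show ((h₀ : G) * (y : G)) • (QuotientGroup.mk r : G ⧸ H) = _
          rw [mul_smul, (smul_mk_eq _ r).2 (mem_carried.1 y.2).2]⟩
        left_inv := fun h => Subtype.ext (Subtype.ext (mul_inv_cancel_left _ _))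
        right_inv := fun y => Subtype.ext (inv_mul_cancel_left _ _) }
  set blk : Finset (G ⧸ H) :=
    Finset.univ.filter fun P => ∃ k ∈ K, (QuotientGroup.mk k : G ⧸ H) = P with hblk
  have hout : ∀ r, r ∉ K → Disjoint (orb r) blk := by
    intro r hr
    rw [Finset.disjoint_left]
    intro P hP hP'
    obtain ⟨h, rfl⟩ := (Finset.mem_filter.1 hP).2
    obtain ⟨k, hk, hk'⟩ := (Finset.mem_filter.1 hP').2
    rw [MulAction.Quotient.smul_mk, QuotientGroup.eq, smul_eq_mul] at hk'
    apply hr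
    have h1 := K.mul_mem (K.mul_mem (K.inv_mem (hHK h.2)) hk) (hHK hk')
    rwa [show (h : G)⁻¹ * k * (k⁻¹ * ((h : G) * r)) = r by group] at h1
  have hdis : Disjoint (orb s) (orb t) := by
    rw [Finset.disjoint_left]
    intro P hP hP'
    obtain ⟨h, rfl⟩ := (Finset.mem_filter.1 hP).2
    obtain ⟨h', hh'⟩ := (Finset.mem_filter.1 hP').2
    refine hcon ((h' : G)⁻¹ * (h : G)) (H.mul_mem (H.inv_mem h'.2) h.2) ?_
    rw [mul_smul, ← hh', inv_smul_smul]
  have hblk' : H.relIndex K ≤ blk.card := by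
    rw [Subgroup.relIndex, Subgroup.index_eq_card]
    have hb : Nat.card {P : G ⧸ H // P ∈ blk} = blk.card := by
      rw [Nat.card_eq_fintype_card, Fintype.card_coe]
    rw [← hb]
    refine Nat.card_le_card_of_injective (fun P => ⟨QuotientGroup.mk (P.out : K).1,
      Finset.mem_filter.2 ⟨Finset.mem_univ _, _, (P.out : K).2, rfl⟩⟩) fun P Q h => ?_
    have h' := QuotientGroup.eq.1 (congrArg Subtype.val h)
    rw [← QuotientGroup.out_eq' P, ← QuotientGroup.out_eq' Q, QuotientGroup.eq, Subgroup.mem_subgroupOf]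
    simpa using h'
  have hsum : (orb s).card + (orb t).card + blk.card ≤ H.index := by
    rw [← Finset.card_union_of_disjoint hdis, ← Finset.card_union_of_disjoint
      (Finset.disjoint_union_left.2 ⟨hout s hs, hout t ht⟩), Subgroup.index_eq_card,
      Nat.card_eq_fintype_card]
    exact Finset.card_le_univ _
  have hle : (orb s).card + (orb t).card ≤ M := by omega
  have h1 := horb s
  have h2 := horb t
  have d1 := hD s hs
  have d2 := hD t ht
  rcases Nat.le_total (orb s).card (orb t).card with hc | hc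
  · nlinarith
  · nlinarith

variable {F : Type*} [Field F] [Finite F]

theorem psl_simple (h4 : 4 ≤ Nat.card F) :
    IsSimpleGroup (PSL2 F) ∧ ¬ IsMulCommutative (PSL2 F) := by
  refine ⟨Matrix.ProjectiveSpecialLinearGroup.rank_two_simple (by omega), fun hc => ?_⟩
  obtain ⟨x, y, h⟩ : OddPair (PSL2 F) := by
    obtain ⟨p, hp⟩ := CharP.exists F
    have : Fact p.Prime := ⟨CharP.char_is_prime F p⟩
    exact oddPair_psl p (by omega)
  exact h.2.2 (hc.is_comm.comm x y)

theorem altFive_simple :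
    IsSimpleGroup (alternatingGroup (Fin 5)) ∧ ¬ IsMulCommutative (alternatingGroup (Fin 5)) := by
  refine ⟨alternatingGroup.isSimpleGroup_five, fun hc => ?_⟩
  obtain ⟨x, y, h⟩ := oddPair_altFive
  exact h.2.2 (hc.is_comm.comm x y)

/-- The normaliser of a subgroup of small index. -/
theorem normalizer_eq_self {G : Type*} [Group G] [Finite G] [IsSimpleGroup G]
    (hG : ¬ IsMulCommutative G) {H : Subgroup G} (hH : H ≠ ⊤) (hH' : H ≠ ⊥)
    (hi : ∀ n, 2 * n ≤ H.index → ¬ 2 * Nat.card G ∣ n.factorial) :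
    Subgroup.normalizer (H : Set G) = H := by
  refine le_antisymm ?_ Subgroup.le_normalizer
  set N := Subgroup.normalizer (H : Set G)
  have hN : N ≠ ⊤ := fun e => by
    rcases (Subgroup.normalizer_eq_top_iff.1 e).eq_bot_or_eq_top with h | h
    exacts [hH' h, hH h]
  have hd := SmallOrders.two_mul_card_dvd_factorial_index hG hN
  have hr := Subgroup.relIndex_mul_index (show H ≤ N from Subgroup.le_normalizer)
  intro y hy
  by_contra hyH
  refine hi _ ?_ hd
  have h1 : H.relIndex N ≠ 1 := fun e => hyH (Subgroup.relIndex_eq_one.1 e hy)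
  have h0 : H.relIndex N ≠ 0 := fun e => by rw [e, zero_mul] at hr; exact H.index_ne_zero_of_finite hr.symm
  rw [← hr]
  exact Nat.mul_le_mul_right _ (by omega)

theorem mem_of_carried_eq {G : Type*} [Group G] [Finite G] {H : Subgroup G}
    (hN : Subgroup.normalizer (H : Set G) = H) {s : G}
    (hc : Nat.card (carried H s) = Nat.card H) : s ∈ H := by
  have e : carried H s = H := (eq_of_le_of_card (inf_le_left : carried H s ≤ H) hc.ge).symm
  have hle : H ≤ H.map (MulAut.conj s).toMonoidHom := fun y hy => by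
    have h : y ∈ carried H s := by rw [e]; exact hy
    exact h.2
  have he : H.map (MulAut.conj s).toMonoidHom = H :=
    eq_of_le_of_card hle (by rw [Subgroup.card_map_of_injective (MulAut.conj s).injective])
  rw [← hN]
  rw [Subgroup.mem_normalizer_iff]
  intro h
  rw [← Subgroup.mem_map_iff_mem (f := (MulAut.conj s).toMonoidHom) (MulAut.conj s).injective (x := h)]
  conv_lhs => rw [he]
  rfl

theorem orderOf_eq_two_of {G : Type*} [Group G] {x : G} (h1 : x ≠ 1) (h2 : x * x = 1) :
    orderOf x = 2 := orderOf_eq_prime (by rw [pow_two, h2]) h1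

/-- The normaliser of a four-group has order at most 24. -/
theorem card_normalizer_le (h2 : (2 : F) ≠ 0) {V : Subgroup (PSL2 F)} (hV : IsKleinFour V) :
    Nat.card (Subgroup.normalizer (V : Set (PSL2 F))) ≤ 24 := by
  have : Finite (PGL2 F) := Finite.of_surjective _ Matrix.ProjGenLinGroup.mk_surjective
  rw [← card_normalizer_klein h2 hV,
    Nat.card_congr (Subgroup.equivMapOfInjective (Subgroup.normalizer (V : Set (PSL2 F)))
      (Matrix.ProjectiveSpecialLinearGroup.toPGL : PSL2 F →* PGL2 F)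
      Matrix.ProjectiveSpecialLinearGroup.toPGL_injective).toEquiv]
  exact Subgroup.card_le_of_le (Subgroup.le_normalizer_map _)

/-- The four-group generated by two commuting involutions. -/
theorem exists_klein {G : Type*} [Group G] {a b : G} (ha : a ≠ 1) (hb : b ≠ 1) (hne : a ≠ b)
    (ha2 : a * a = 1) (hb2 : b * b = 1) (hab : a * b = b * a) :
    ∃ V : Subgroup G, IsKleinFour V ∧ ∀ y, y ∈ V ↔ y = 1 ∨ y = a ∨ y = b ∨ y = a * b := by
  have ia : a⁻¹ = a := inv_eq_of_mul_eq_one_right ha2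
  have ib : b⁻¹ = b := inv_eq_of_mul_eq_one_right hb2
  have A : ∀ z, a * (a * z) = z := fun z => by rw [← mul_assoc, ha2, one_mul]
  have B : ∀ z, b * (b * z) = z := fun z => by rw [← mul_assoc, hb2, one_mul]
  have C : ∀ z, b * (a * z) = a * (b * z) := fun z => by rw [← mul_assoc, ← hab, mul_assoc]
  let V : Subgroup G :=
    { carrier := {y | y = 1 ∨ y = a ∨ y = b ∨ y = a * b}
      one_mem' := Or.inl rfl
      mul_mem' := by
        rintro x y (rfl | rfl | rfl | rfl) (rfl | rfl | rfl | rfl) <;>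
          simp [mul_assoc, ha2, hb2, ← hab, A, B, C]
      inv_mem' := by
        rintro x (rfl | rfl | rfl | rfl) <;> simp [ia, ib, ← hab] }
  refine ⟨V, ?_, fun y => Iff.rfl⟩
  classical
  have hc : Nat.card V = 4 := by
    have h : (V : Set G) = ↑({1, a, b, a * b} : Finset G) := by
      ext y; simp [V]
    have e1 : a * b ≠ 1 := fun e => hne (by rw [eq_inv_of_mul_eq_one_left e, ib])
    rw [← SetLike.coe_sort_coe, Nat.card_coe_set_eq, h, Set.ncard_coe_finset,
      Finset.card_insert_of_notMem (by simp [Ne.symm ha, Ne.symm hb, Ne.symm e1]),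
      Finset.card_insert_of_notMem (by simp [hne, hb]),
      Finset.card_insert_of_notMem (by simp [ha]), Finset.card_singleton]
  refine IsKleinFour.mk hc (Nat.dvd_antisymm ?_ ?_)
  · refine Monoid.exponent_dvd_of_forall_pow_eq_one fun ⟨y, hy⟩ => Subtype.ext ?_
    show y ^ 2 = 1
    rcases hy with rfl | rfl | rfl | rfl <;> simp [pow_two, mul_assoc, ha2, hb2, ← hab, A, B, C]
  · have := Monoid.order_dvd_exponent (⟨a, Or.inr (Or.inl rfl)⟩ : V)
    rwa [← Subgroup.orderOf_coe, orderOf_eq_two_of ha ha2] at this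

theorem conj_transport {K₀ : Type*} [Group K₀] {H : Subgroup (PSL2 F)} (e : H ≃* K₀) {y z : PSL2 F}
    (hy : y ∈ H) (hz : z ∈ H) {c : K₀} (h : c * e ⟨y, hy⟩ * c⁻¹ = e ⟨z, hz⟩) :
    (e.symm c : PSL2 F) * y * (e.symm c : PSL2 F)⁻¹ = z := by
  have h' := congrArg (fun k => (e.symm k : PSL2 F)) h
  simpa using h'

theorem orderOf_equiv {K₀ : Type*} [Group K₀] {H : Subgroup (PSL2 F)} (e : H ≃* K₀) {y : PSL2 F}
    (hy : y ∈ H) : orderOf (e ⟨y, hy⟩) = orderOf y := by
  rw [MulEquiv.orderOf_eq, ← Subgroup.orderOf_coe]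

theorem mem_of_commute_order (h7 : Nat.card F = 7) {H : Subgroup (PSL2 F)} {x g : PSL2 F}
    (hx : x ∈ H) (ho : orderOf x = 3 ∨ orderOf x = 4) (hg : g * x = x * g) : g ∈ H := by
  obtain ⟨p, hp⟩ := CharP.exists F
  have : Fact p.Prime := ⟨CharP.char_is_prime F p⟩
  have hp7 : p = 7 := by
    obtain ⟨c, hc, hcq⟩ := GLOrder.exists_card_eq_pow (F := F) p
    have h : p ∣ 7 := h7 ▸ hcq ▸ dvd_pow_self p hc.ne'
    exact ((Nat.dvd_prime (by norm_num)).1 h).resolve_left (Fact.out : p.Prime).ne_one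
  subst hp7
  obtain ⟨y, hxy, hC, hy⟩ := PSL2.centralizer_torus 7 (x := x)
    (by rcases ho with h | h <;> rw [h] <;> decide) (by omega)
  have hyc : orderOf y = orderOf x := by
    have hd := orderOf_dvd_of_mem_zpowers hxy
    rw [h7] at hy
    norm_num at hy
    rcases ho with h | h <;> rcases hy with h' | h' <;> rw [h, h'] at hd <;> simp_all
  have hz : Subgroup.zpowers y = Subgroup.zpowers x :=
    zpowers_eq_of_orderOf (Subgroup.mem_zpowers y) hxy hyc
  have hgC : g ∈ Subgroup.centralizer ({x} : Set (PSL2 F)) :=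
    Subgroup.mem_centralizer_singleton_iff.2 hg
  rw [hC, hz] at hgC
  exact Subgroup.zpowers_le.2 hx hgC

theorem card_psl_of (hodd : Odd (Nat.card F)) :
    2 * Nat.card (PSL2 F) = Nat.card F * ((Nat.card F + 1) * (Nat.card F - 1)) := by
  have h := card_psl_mul (F := F)
  obtain ⟨j, hj⟩ := hodd
  rwa [Nat.gcd_eq_left (show 2 ∣ Nat.card F - 1 by omega)] at h

theorem index_of {G : Type*} [Group G] {H : Subgroup G} {a b : ℕ} (hH : Nat.card H = a)
    (hG : Nat.card G = a * b) (ha : 0 < a) : H.index = b := by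
  have h := H.card_mul_index
  rw [hH, hG] at h
  exact Nat.eq_of_mul_eq_mul_left ha h

theorem carried_dvd {G : Type*} [Group G] (H : Subgroup G) (s : G) :
    Nat.card (carried H s) ∣ Nat.card H := Subgroup.card_dvd_of_le inf_le_left

theorem permFour_elts :
    (∀ a b : Equiv.Perm (Fin 4), a ≠ 1 → b ≠ 1 → a ^ 3 = 1 → b ^ 3 = 1 → ∃ c, c * a * c⁻¹ = b) ∧
    (∀ a b : Equiv.Perm (Fin 4), a ^ 2 ≠ 1 → b ^ 2 ≠ 1 → a ^ 4 = 1 → b ^ 4 = 1 →
      ∃ c, c * a * c⁻¹ = b) := by
  constructor <;> decide +kernel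

/-- `S_4` in `PSL_2(7)`. -/
theorem not_binary_permFour_seven (h7 : Nat.card F = 7) {H : Subgroup (PSL2 F)}
    (e : H ≃* Equiv.Perm (Fin 4)) : ¬ Binary H := by
  have hodd : Odd (Nat.card F) := by rw [h7]; decide
  have h2 : (2 : F) ≠ 0 := two_ne_zero_iff_odd.2 hodd
  obtain ⟨hsimp, hnc⟩ := psl_simple (F := F) (by omega)
  have hG : Nat.card (PSL2 F) = 168 := by have := card_psl_of hodd; rw [h7] at this; omega
  have hH : Nat.card H = 24 := (Nat.card_congr e.toEquiv).trans card_perm_four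
  have hidx : H.index = 7 := index_of hH hG (by norm_num)
  have hN : Subgroup.normalizer (H : Set (PSL2 F)) = H := normalizer_eq_self hnc
    (fun h => by rw [h, Subgroup.card_top, hG] at hH; omega)
    (fun h => by rw [h, Subgroup.card_bot] at hH; omega) fun n hn => by
      rw [hidx] at hn
      have : n ≤ 3 := by omega
      interval_cases n <;> rw [hG] <;> decide
  have : Fact (Nat.Prime 3) := ⟨Nat.prime_three⟩
  -- no element of order three or four is carried
  have hno : ∀ s, s ∉ H → ∀ x ∈ carried H s, orderOf x ≠ 3 ∧ orderOf x ≠ 4 := by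
    intro s hs x hx
    obtain ⟨hxH, hxs⟩ := mem_carried.1 hx
    have ho : orderOf (s⁻¹ * x * s) = orderOf x := by
      rw [show s⁻¹ * x * s = MulAut.conj s⁻¹ x by simp, MulEquiv.orderOf_eq]
    suffices key : orderOf x = 3 ∨ orderOf x = 4 → False from ⟨fun h => key (Or.inl h), fun h => key (Or.inr h)⟩
    intro hor
    have o1 := orderOf_equiv e hxH
    have o2 := (orderOf_equiv e hxs).trans ho
    obtain ⟨c, hc⟩ : ∃ c, c * e ⟨_, hxs⟩ * c⁻¹ = e ⟨x, hxH⟩ := by
      rcases hor with h | h <;> rw [h] at o1 o2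
      · refine permFour_elts.1 _ _ ?_ ?_ (orderOf_dvd_iff_pow_eq_one.1 o2.dvd) (orderOf_dvd_iff_pow_eq_one.1 o1.dvd) <;>
          intro he <;> simp [he] at o1 o2
      · refine permFour_elts.2 _ _ ?_ ?_ (orderOf_dvd_iff_pow_eq_one.1 o2.dvd) (orderOf_dvd_iff_pow_eq_one.1 o1.dvd) <;>
          intro he <;> have := Nat.le_of_dvd two_pos (orderOf_dvd_of_pow_eq_one he) <;> omega
    have h := conj_transport e hxs hxH hc
    set c' : PSL2 F := (e.symm c : PSL2 F) with hc'
    have hy : c' * s⁻¹ * x = x * (c' * s⁻¹) := by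
      calc c' * s⁻¹ * x = c' * (s⁻¹ * x * s) * c'⁻¹ * (c' * s⁻¹) := by group
        _ = x * (c' * s⁻¹) := by rw [h]
    have := mem_of_commute_order h7 hxH hor hy
    apply hs
    have h' := H.mul_mem (H.inv_mem this) (show c' ∈ H from (e.symm c).2)
    rwa [mul_inv_rev, inv_inv, inv_mul_cancel_right] at h'
  refine not_binary_of_orbits le_rfl (by rw [hidx, hG]; decide) 6
    (by rw [hidx, Subgroup.relIndex_self]) fun s hs => ?_
  suffices Nat.card (carried H s) < 8 by rw [hH]; omega
  by_contra hcon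
  push Not at hcon
  set D := carried H s
  have hd : Nat.card D ∣ 24 := hH ▸ carried_dvd H s
  have h3 : ¬ 3 ∣ Nat.card D := fun h => by
    obtain ⟨x, hx⟩ := exists_prime_orderOf_dvd_card' (G := D) 3 h
    exact (hno s hs _ x.2).1 (by rwa [Subgroup.orderOf_coe])
  have h8 : Nat.card D = 8 := by
    have : Nat.card D ∈ Nat.divisors 24 := Nat.mem_divisors.2 ⟨hd, by norm_num⟩
    rw [show Nat.divisors 24 = {1, 2, 3, 4, 6, 8, 12, 24} from by decide] at this
    simp only [Finset.mem_insert, Finset.mem_singleton] at this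
    omega
  -- an elementary abelian group of order eight would be self-centralising of order four
  have hsq : ∀ y ∈ D, y * y = 1 := by
    intro y hy
    have hd8 : orderOf y ∣ 2 ^ 3 := by
      rw [show (2 : ℕ) ^ 3 = 8 from rfl, ← h8, ← Subgroup.orderOf_mk y hy]; exact orderOf_dvd_natCard _
    obtain ⟨i, hi, hi'⟩ := (Nat.dvd_prime_pow Nat.prime_two).1 hd8
    rw [← pow_two, ← orderOf_dvd_iff_pow_eq_one, hi']
    interval_cases i
    · norm_num
    · norm_num
    · exact absurd hi' (by simpa using (hno s hs y hy).2)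
    · exfalso
      refine (hno s hs (y ^ 2) (D.pow_mem hy 2)).2 ?_
      rw [orderOf_pow' y two_ne_zero, hi']; rfl
  have hcomm : ∀ x ∈ D, ∀ y ∈ D, x * y = y * x := fun x hx y hy => by
    have h1 := hsq _ (D.mul_mem hx hy)
    calc x * y = (x * y)⁻¹ := (inv_eq_of_mul_eq_one_right h1).symm
      _ = y * x := by
        rw [mul_inv_rev, inv_eq_of_mul_eq_one_right (hsq x hx), inv_eq_of_mul_eq_one_right (hsq y hy)]
  classical
  obtain ⟨a, ha, ha1⟩ : ∃ a ∈ D, a ≠ 1 := by
    by_contra h
    push Not at h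
    rw [(Subgroup.eq_bot_iff_forall _).2 h, Subgroup.card_bot] at h8
    omega
  obtain ⟨b, hb, hb1⟩ : ∃ b ∈ D, b ∉ ({1, a} : Finset (PSL2 F)) := by
    by_contra h
    push Not at h
    have := Set.ncard_le_ncard (show (D : Set (PSL2 F)) ⊆ ↑({1, a} : Finset (PSL2 F)) from h)
      (Finset.finite_toSet _)
    rw [Set.ncard_coe_finset, ← Nat.card_coe_set_eq, SetLike.coe_sort_coe, h8] at this
    have := Finset.card_le_two (a := (1 : PSL2 F)) (b := a)
    omega
  simp only [Finset.mem_insert, Finset.mem_singleton, not_or] at hb1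
  have hsub : (D : Set (PSL2 F)) ⊆ ↑({1, a, b, a * b} : Finset (PSL2 F)) := fun x hx => by
    rcases eq_of_commute_pair h2 ha1 hb1.1 (hsq a ha) (hsq b hb) (hcomm a ha b hb) (Ne.symm hb1.2)
      (hcomm x hx a ha) (hcomm x hx b hb) with h | h | h | h <;> simp [h]
  have h4 := Set.ncard_le_ncard hsub (Finset.finite_toSet _)
  rw [Set.ncard_coe_finset, ← Nat.card_coe_set_eq, SetLike.coe_sort_coe, h8] at h4
  have h5 : ({1, a, b, a * b} : Finset (PSL2 F)).card ≤ 4 := Finset.card_le_four
  omega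

theorem altFive_klein_cycle : ∀ v w : alternatingGroup (Fin 5), v * v = 1 → w * w = 1 →
    v * w = w * v → v ≠ 1 → w ≠ 1 → v ≠ w →
    ∃ c, c ^ 3 = 1 ∧ c ≠ 1 ∧ c * v * c⁻¹ = w ∧ c * w * c⁻¹ = v * w := by
  decide +kernel

/-- `A_5` in `PSL_2(9)` and `PSL_2(11)`. -/
theorem not_binary_altFive_small (hq : Nat.card F = 9 ∨ Nat.card F = 11) {H : Subgroup (PSL2 F)}
    (e : H ≃* alternatingGroup (Fin 5)) : ¬ Binary H := by
  have hodd : Odd (Nat.card F) := by rcases hq with h | h <;> rw [h] <;> decide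
  have h2 : (2 : F) ≠ 0 := two_ne_zero_iff_odd.2 hodd
  obtain ⟨hsimp, hnc⟩ := psl_simple (F := F) (by omega)
  obtain ⟨hs5, hnc5⟩ := altFive_simple
  have hH : Nat.card H = 60 := (Nat.card_congr e.toEquiv).trans card_alt_five
  obtain ⟨n, hn, hG⟩ : ∃ n, (n = 6 ∨ n = 11) ∧ Nat.card (PSL2 F) = 60 * n := by
    have := card_psl_of hodd
    rcases hq with h | h <;> rw [h] at this
    · exact ⟨6, Or.inl rfl, by omega⟩
    · exact ⟨11, Or.inr rfl, by omega⟩
  have hidx : H.index = n := index_of hH hG (by norm_num)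
  have hN : Subgroup.normalizer (H : Set (PSL2 F)) = H := normalizer_eq_self hnc
    (fun h => by rw [h, Subgroup.card_top, hG] at hH; omega)
    (fun h => by rw [h, Subgroup.card_bot] at hH; omega) fun m hm => by
      rw [hidx] at hm
      have : m ≤ 5 := by omega
      rcases hn with rfl | rfl <;> interval_cases m <;> rw [hG] <;> decide
  refine not_binary_of_orbits le_rfl
    (by rcases hn with rfl | rfl <;> rw [hidx, hG] <;> decide) (n - 1)
    (by rw [hidx, Subgroup.relIndex_self]; omega) fun s hs => ?_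
  set D := carried H s with hDdef
  suffices Nat.card D < 13 ∧ (n = 11 → Nat.card D ≠ 12) by
    rw [hH]
    rcases hn with rfl | rfl <;> omega
  have hd : Nat.card D ∣ 60 := hH ▸ carried_dvd H s
  refine ⟨?_, fun hn11 h12 => ?_⟩
  · by_contra hcon
    push Not at hcon
    set D' : Subgroup H := D.subgroupOf H
    have hD' : Nat.card D' = Nat.card D :=
      Nat.card_congr (Subgroup.subgroupOfEquivOfLe inf_le_left).toEquiv
    set D5 := D'.map e.toMonoidHom
    have hD5 : Nat.card D5 = Nat.card D := by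
      rw [← hD']; exact Subgroup.card_map_of_injective e.injective
    have hne : Nat.card D ≠ 60 := fun h => hs (mem_of_carried_eq hN (h.trans hH.symm))
    have ht : D5 ≠ ⊤ := fun h => hne (by rw [← hD5, h, Subgroup.card_top, card_alt_five])
    have hdiv := SmallOrders.two_mul_card_dvd_factorial_index hnc5 ht
    have hi := D5.card_mul_index
    rw [hD5, card_alt_five] at hi
    rw [card_alt_five] at hdiv
    have : D5.index ≤ 4 := by nlinarith
    interval_cases D5.index <;> simp [Nat.factorial] at hdiv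
  -- a four-group of `H` carried into `H`
  subst hn11
  have : Fact (Nat.Prime 2) := ⟨Nat.prime_two⟩
  obtain ⟨V⟩ := (inferInstance : Nonempty (Sylow 2 D))
  have hV : Nat.card (V : Subgroup D) = 4 :=
    SmallOrders.card_sylow_subgroup (e := 2) (m := 3) (by rw [h12]; norm_num) (by norm_num) V
  have hordV : ∀ y : (V : Subgroup D), ((y : D) : PSL2 F) * (y : D) = 1 := by
    intro y
    have hd4 : orderOf y ∣ 2 ^ 2 := by rw [show (2 : ℕ) ^ 2 = 4 from rfl, ← hV]; exact orderOf_dvd_natCard _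
    obtain ⟨i, hi, hi'⟩ := (Nat.dvd_prime_pow Nat.prime_two).1 hd4
    have hy : orderOf ((y : D) : PSL2 F) = 2 ^ i := by rw [Subgroup.orderOf_coe, Subgroup.orderOf_coe, hi']
    have h60 : orderOf ((y : D) : PSL2 F) = orderOf (e ⟨_, (mem_carried.1 (y : D).2).1⟩) :=
      (orderOf_equiv e _).symm
    rw [← pow_two, ← orderOf_dvd_iff_pow_eq_one, hy]
    interval_cases i
    · norm_num
    · norm_num
    · exfalso
      rw [hy] at h60
      have := pow_orderOf_eq_one (e ⟨_, (mem_carried.1 (y : D).2).1⟩)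
      have h235 := altFive_orders (e ⟨_, (mem_carried.1 (y : D).2).1⟩)
      rcases h235 with h | h | h <;>
      · have := orderOf_dvd_of_pow_eq_one h
        rw [← h60] at this
        norm_num at this
  classical
  obtain ⟨⟨a, haD⟩, ⟨b, hbD⟩, hne⟩ : ∃ a b : {x : (V : Subgroup D) // x ≠ 1}, a ≠ b := by
    have : Nontrivial {x : (V : Subgroup D) // x ≠ 1} := by
      have := Fintype.ofFinite (V : Subgroup D)
      rw [← Fintype.one_lt_card_iff_nontrivial, Fintype.card_subtype_compl, Fintype.card_subtype_eq,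
        ← Nat.card_eq_fintype_card, hV]
      norm_num
    exact exists_pair_ne _
  have ha1 : ((a : D) : PSL2 F) ≠ 1 := fun h => haD (Subtype.ext (Subtype.ext h))
  have hb1 : ((b : D) : PSL2 F) ≠ 1 := fun h => hbD (Subtype.ext (Subtype.ext h))
  have hab' : ((a : D) : PSL2 F) ≠ (b : D) := fun h => hne (Subtype.ext (Subtype.ext (Subtype.ext h)))
  set A : PSL2 F := ((a : D) : PSL2 F) with hAdef
  set B : PSL2 F := ((b : D) : PSL2 F) with hBdef
  obtain ⟨hAH, hAs⟩ := mem_carried.1 (a : D).2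
  obtain ⟨hBH, hBs⟩ := mem_carried.1 (b : D).2
  have hA2 : A * A = 1 := hordV a
  have hB2 : B * B = 1 := hordV b
  have hAB : A * B = B * A := by
    have h := hordV (a * b)
    simp only [Subgroup.coe_mul, ← hAdef, ← hBdef] at h
    calc A * B = (A * B)⁻¹ := (inv_eq_of_mul_eq_one_right h).symm
      _ = B * A := by
        rw [mul_inv_rev, inv_eq_of_mul_eq_one_right hA2, inv_eq_of_mul_eq_one_right hB2]
  obtain ⟨W, hW, hWmem⟩ := exists_klein ha1 hb1 hab' hA2 hB2 hAB
  set N := Subgroup.normalizer (W : Set (PSL2 F))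
  have hWH : W ≤ H := fun y hy => by
    rcases (hWmem y).1 hy with rfl | rfl | rfl | rfl
    exacts [H.one_mem, hAH, hBH, H.mul_mem hAH hBH]
  have eq1 : ∀ {u v : PSL2 F}, ∀ hu : u ∈ H, ∀ hv : v ∈ H, u * v = 1 → e ⟨u, hu⟩ * e ⟨v, hv⟩ = 1 :=
    fun hu hv h => by rw [← map_mul, map_eq_one_iff _ e.injective]; exact Subtype.ext h
  have neq : ∀ {u : PSL2 F}, ∀ hu : u ∈ H, u ≠ 1 → e ⟨u, hu⟩ ≠ 1 := fun hu h he =>
    h (congrArg Subtype.val ((map_eq_one_iff _ e.injective).1 he))
  have cyc : ∀ {u v : PSL2 F}, ∀ hu : u ∈ H, ∀ hv : v ∈ H, u * u = 1 → v * v = 1 → u * v = v * u →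
      u ≠ 1 → v ≠ 1 → u ≠ v →
      ∃ c ∈ H, orderOf c = 3 ∧ c * u * c⁻¹ = v ∧ c * v * c⁻¹ = u * v := by
    intro u v hu hv u2 v2 huv u1 v1 hne
    obtain ⟨c, hc3, hc1, hcu, hcv⟩ := altFive_klein_cycle (e ⟨u, hu⟩) (e ⟨v, hv⟩) (eq1 hu hu u2)
      (eq1 hv hv v2) (by rw [← map_mul, ← map_mul]; exact congrArg e (Subtype.ext huv)) (neq hu u1)
      (neq hv v1) (fun h => hne (congrArg Subtype.val (e.injective h)))
    have : Fact (Nat.Prime 3) := ⟨Nat.prime_three⟩
    refine ⟨e.symm c, (e.symm c).2, by rw [orderOf_poly, orderOf_eq_prime hc3 hc1],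
      conj_transport e hu hv hcu, conj_transport e hv (H.mul_mem hu hv) ?_⟩
    rw [hcv, ← map_mul]; rfl
  have hNH : ∀ W : Subgroup (PSL2 F), IsKleinFour W → W ≤ H → (∃ c ∈ H, orderOf c = 3 ∧
      c ∈ Subgroup.normalizer (W : Set (PSL2 F))) → Subgroup.normalizer (W : Set (PSL2 F)) ≤ H := by
    rintro W hW hWH ⟨c, hcH, hc3, hcN⟩
    set N := Subgroup.normalizer (W : Set (PSL2 F))
    have h4 : 4 ∣ Nat.card (N ⊓ H : Subgroup _) := by
      rw [← hW.card_four]
      exact Subgroup.card_dvd_of_le (le_inf Subgroup.le_normalizer hWH)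
    have h3 : 3 ∣ Nat.card (N ⊓ H : Subgroup _) := by
      rw [← hc3, ← Subgroup.orderOf_mk c (Subgroup.mem_inf.2 ⟨hcN, hcH⟩)]
      exact orderOf_dvd_natCard _
    have h12 := Nat.Coprime.mul_dvd_of_dvd_of_dvd (by norm_num : Nat.Coprime 4 3) h4 h3
    have hle : Nat.card N ≤ 24 := card_normalizer_le h2 hW
    have hG' : Nat.card N ∣ 60 * 11 := hG ▸ Subgroup.card_subgroup_dvd_card N
    have hcN : 0 < Nat.card N := Nat.card_pos
    have h12N : 12 ∣ Nat.card N := dvd_trans h12 (Subgroup.card_dvd_of_le inf_le_left)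
    have h12' : Nat.card N = 12 := by
      obtain ⟨j, hj⟩ := h12N
      have : j ≤ 2 := by omega
      interval_cases j <;> simp_all
    have hi : Nat.card (N ⊓ H : Subgroup _) = Nat.card N := by
      have := Nat.le_of_dvd Nat.card_pos h12
      have := Subgroup.card_le_of_le (inf_le_left : N ⊓ H ≤ N)
      omega
    have e := eq_of_le_of_card (inf_le_left : N ⊓ H ≤ N) hi.ge
    intro y hy
    rw [e] at hy
    exact hy.2
  obtain ⟨c, hcH, hc3, hcA, hcB⟩ := cyc hAH hBH hA2 hB2 hAB ha1 hb1 hab'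
  have normW : ∀ {W : Subgroup (PSL2 F)} {u v c : PSL2 F},
      (∀ y, y ∈ W ↔ y = 1 ∨ y = u ∨ y = v ∨ y = u * v) → c * u * c⁻¹ ∈ W → c * v * c⁻¹ ∈ W →
      c ∈ Subgroup.normalizer (W : Set (PSL2 F)) := by
    intro W u v c hmem hu hv
    have hle : W.map (MulAut.conj c).toMonoidHom ≤ W := by
      rintro _ ⟨y, hy, rfl⟩
      rcases (hmem y).1 hy with rfl | rfl | rfl | rfl
      · simp
      · simpa using hu
      · simpa using hv
      · simpa [MulAut.conj_apply, mul_assoc] using W.mul_mem hu hv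
    have he := eq_of_le_of_card hle (by rw [Subgroup.card_map_of_injective (MulAut.conj c).injective])
    rw [Subgroup.mem_normalizer_iff]
    intro y
    rw [← Subgroup.mem_map_iff_mem (f := (MulAut.conj c).toMonoidHom) (MulAut.conj c).injective (x := y)]
    conv_lhs => rw [← he]
    rfl
  have hWN := hNH W hW hWH ⟨c, hcH, hc3, normW hWmem
    (by rw [hcA]; exact (hWmem _).2 (Or.inr (Or.inr (Or.inl rfl))))
    (by rw [hcB]; exact (hWmem _).2 (Or.inr (Or.inr (Or.inr rfl))))⟩
  -- Sylow conjugacy inside `H`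
  set W' := W.map (MulAut.conj s⁻¹).toMonoidHom
  have hW' : W' ≤ H := by
    rintro _ ⟨y, hy, rfl⟩
    show s⁻¹ * y * s⁻¹⁻¹ ∈ H
    rw [inv_inv]
    rcases (hWmem y).1 hy with h | h | h | h <;> rw [h]
    · rw [mul_one, inv_mul_cancel]; exact H.one_mem
    · exact hAs
    · exact hBs
    · rw [conj_mul_eq]; exact H.mul_mem hAs hBs
  have hcW : Nat.card W = 4 := hW.card_four
  have hcW' : Nat.card W' = 4 := by
    rw [Subgroup.card_map_of_injective (MulAut.conj s⁻¹).injective, hcW]
  have hsyl : ∀ U : Subgroup (PSL2 F), U ≤ H → Nat.card U = 4 →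
      ∃ S : Sylow 2 H, (S : Subgroup H) = U.subgroupOf H := by
    intro U hU hc
    refine ⟨Sylow.ofCard (U.subgroupOf H) ?_, rfl⟩
    rw [Nat.card_congr (Subgroup.subgroupOfEquivOfLe hU).toEquiv, hc, hH,
      show (60 : ℕ) = 2 ^ 2 * 15 from rfl, Nat.factorization_mul (by norm_num) (by norm_num),
      Finsupp.add_apply, Nat.prime_two.factorization_pow, Finsupp.single_eq_same,
      Nat.factorization_eq_zero_of_not_dvd (by norm_num)]
    norm_num
  obtain ⟨S, hS⟩ := hsyl W hWH hcW
  obtain ⟨S', hS'⟩ := hsyl W' hW' hcW'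
  obtain ⟨k, hk⟩ := MulAction.exists_smul_eq H S S'
  have hkW : W.map (MulAut.conj (k : PSL2 F)).toMonoidHom = W' := by
    refine (eq_of_le_of_card (H := W.map (MulAut.conj (k : PSL2 F)).toMonoidHom) (M := W') ?_ (by
      rw [hcW', Subgroup.card_map_of_injective (MulAut.conj (k : PSL2 F)).injective, hcW])).symm
    rintro _ ⟨y, hy, rfl⟩
    have h1 : (⟨y, hWH hy⟩ : H) ∈ (S : Subgroup H) := by rw [hS]; exact hy
    have h2 : k * (⟨y, hWH hy⟩ : H) * k⁻¹ ∈ (S' : Subgroup H) := by
      rw [← hk]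
      exact Subgroup.mem_map_of_mem (MulAut.conj k).toMonoidHom h1
    rw [hS'] at h2
    exact h2
  have hsk : s * (k : PSL2 F) ∈ Subgroup.normalizer (W : Set (PSL2 F)) := by
    have hm : ∀ y, y ∈ W → (s * (k : PSL2 F)) * y * (s * (k : PSL2 F))⁻¹ ∈ W := by
      intro y hy
      have h1 : (k : PSL2 F) * y * (k : PSL2 F)⁻¹ ∈ W' := hkW ▸ ⟨y, hy, rfl⟩
      obtain ⟨z, hz, hzy⟩ := h1
      rw [show s * (k : PSL2 F) * y * (s * (k : PSL2 F))⁻¹ =
        s * ((k : PSL2 F) * y * (k : PSL2 F)⁻¹) * s⁻¹ by group, ← hzy]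
      simpa [mul_assoc] using hz
    exact normW hWmem (hm A ((hWmem A).2 (Or.inr (Or.inl rfl))))
      (hm B ((hWmem B).2 (Or.inr (Or.inr (Or.inl rfl)))))
  have := H.mul_mem (hWN hsk) (H.inv_mem k.2)
  rw [mul_inv_cancel_right] at this
  exact hs this

theorem altFour_elts :
    (∀ a b : alternatingGroup (Fin 4), a ≠ 1 → b ≠ 1 → a * a = 1 → b * b = 1 →
      (a * b = b * a ∧ ∃ c, c * a * c⁻¹ = b)) ∧
    (∀ a b : alternatingGroup (Fin 4), a ≠ 1 → b ≠ 1 → a ^ 3 = 1 → b ^ 3 = 1 →
      ∃ c, c * a * c⁻¹ = b ∨ c * a * c⁻¹ = b⁻¹) ∧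
    (∀ x a b : alternatingGroup (Fin 4), a * a = 1 → b * b = 1 → a ≠ 1 → b ≠ 1 → a ≠ b →
      (x * a * x⁻¹ = a ∨ x * a * x⁻¹ = b ∨ x * a * x⁻¹ = a * b)) ∧
    (∀ x : alternatingGroup (Fin 4), x * x = 1 ∨ x ^ 3 = 1) ∧
    (∃ a b : alternatingGroup (Fin 4), a * a = 1 ∧ b * b = 1 ∧ a ≠ 1 ∧ b ≠ 1 ∧ a ≠ b) := by
  refine ⟨?_, ?_, ?_, ?_, ?_⟩ <;> decide +kernel

/-- `A_4` in `PSL_2(7)`. -/
theorem not_binary_altFour_seven (h7 : Nat.card F = 7) {H : Subgroup (PSL2 F)}
    (e : H ≃* alternatingGroup (Fin 4)) : ¬ Binary H := by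
  have hodd : Odd (Nat.card F) := by rw [h7]; decide
  have h2 : (2 : F) ≠ 0 := two_ne_zero_iff_odd.2 hodd
  have hG : Nat.card (PSL2 F) = 168 := by have := card_psl_of hodd; rw [h7] at this; omega
  have hH : Nat.card H = 12 := (Nat.card_congr e.toEquiv).trans card_alt_four
  have hidx : H.index = 14 := index_of hH hG (by norm_num)
  obtain ⟨ec, e3, enorm, eord, a₀, b₀, a2, b2, a1, b1, hne₀⟩ := altFour_elts
  set a : PSL2 F := (e.symm a₀ : PSL2 F) with ha
  set b : PSL2 F := (e.symm b₀ : PSL2 F) with hb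
  have inj : ∀ {u v : alternatingGroup (Fin 4)}, (e.symm u : PSL2 F) = e.symm v → u = v :=
    fun h => e.symm.injective (Subtype.ext h)
  have hm : ∀ u v : alternatingGroup (Fin 4),
      (e.symm (u * v) : PSL2 F) = e.symm u * e.symm v := fun u v => by rw [map_mul, Subgroup.coe_mul]
  have h1 : (e.symm 1 : PSL2 F) = 1 := by rw [map_one, Subgroup.coe_one]
  have hi : ∀ u : alternatingGroup (Fin 4), (e.symm u⁻¹ : PSL2 F) = (e.symm u : PSL2 F)⁻¹ :=
    fun u => by rw [map_inv, Subgroup.coe_inv]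
  have ha2 : a * a = 1 := by rw [ha, ← hm, a2, h1]
  have hb2 : b * b = 1 := by rw [hb, ← hm, b2, h1]
  have ha1 : a ≠ 1 := fun h => a1 (inj (h.trans h1.symm))
  have hb1 : b ≠ 1 := fun h => b1 (inj (h.trans h1.symm))
  have hab : a * b = b * a := by rw [ha, hb, ← hm, ← hm, (ec a₀ b₀ a1 b1 a2 b2).1]
  obtain ⟨V, hV, hVmem⟩ := exists_klein ha1 hb1 (fun h => hne₀ (inj h)) ha2 hb2 hab
  set K := Subgroup.normalizer (V : Set (PSL2 F))
  have hVH : V ≤ H := fun y hy => by
    rcases (hVmem y).1 hy with rfl | rfl | rfl | rfl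
    exacts [H.one_mem, (e.symm a₀).2, (e.symm b₀).2, H.mul_mem (e.symm a₀).2 (e.symm b₀).2]
  have hHK : H ≤ K := by
    intro h hh
    obtain ⟨x, hx⟩ : ∃ x, (e.symm x : PSL2 F) = h := ⟨e ⟨h, hh⟩, by simp⟩
    have conjV : ∀ u v : alternatingGroup (Fin 4), (e.symm u : PSL2 F) ∈ V →
        (u ≠ 1 ∧ u * u = 1) → (e.symm v : PSL2 F) ∈ V → (v ≠ 1 ∧ v * v = 1) → u ≠ v →
        (e.symm (x * u * x⁻¹) : PSL2 F) ∈ V := by
      intro u v hu hu' hv hv' huv
      rcases enorm x u v hu'.2 hv'.2 hu'.1 hv'.1 huv with h | h | h <;> rw [h]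
      · exact hu
      · exact hv
      · rw [hm]; exact V.mul_mem hu hv
    have hA : (e.symm (x * a₀ * x⁻¹) : PSL2 F) ∈ V := conjV a₀ b₀
      ((hVmem _).2 (Or.inr (Or.inl rfl))) ⟨a1, a2⟩ ((hVmem _).2 (Or.inr (Or.inr (Or.inl rfl))))
      ⟨b1, b2⟩ hne₀
    have hB : (e.symm (x * b₀ * x⁻¹) : PSL2 F) ∈ V := conjV b₀ a₀
      ((hVmem _).2 (Or.inr (Or.inr (Or.inl rfl)))) ⟨b1, b2⟩ ((hVmem _).2 (Or.inr (Or.inl rfl)))
      ⟨a1, a2⟩ (Ne.symm hne₀)
    rw [hm, hm, hi, hx, ← ha] at hA
    rw [hm, hm, hi, hx, ← hb] at hB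
    have hle : V.map (MulAut.conj h).toMonoidHom ≤ V := by
      rintro _ ⟨y, hy, rfl⟩
      rcases (hVmem y).1 hy with rfl | rfl | rfl | rfl
      · simp
      · simpa using hA
      · simpa using hB
      · simpa [MulAut.conj_apply, mul_assoc] using V.mul_mem hA hB
    have he := eq_of_le_of_card hle (by rw [Subgroup.card_map_of_injective (MulAut.conj h).injective])
    rw [Subgroup.mem_normalizer_iff]
    intro y
    rw [← Subgroup.mem_map_iff_mem (f := (MulAut.conj h).toMonoidHom) (MulAut.conj h).injective (x := y)]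
    conv_lhs => rw [← he]
    rfl
  -- the centraliser of an involution of `H`
  have hinv : ∀ {y : PSL2 F}, y ∈ H → y ≠ 1 → y * y = 1 →
      Subgroup.centralizer ({y} : Set (PSL2 F)) ≤ K ∧
        Nat.card (Subgroup.centralizer ({y} : Set (PSL2 F))) = 8 := by
    intro y hy y1 y2
    set C := Subgroup.centralizer ({y} : Set (PSL2 F))
    have hC : Nat.card C = 8 := by
      rw [(card_centralizer_involution hodd (orderOf_eq_two_of y1 y2)).2 (by rw [h7]), h7]
    have hVC : V ≤ C := fun z hz => by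
      rw [Subgroup.mem_centralizer_singleton_iff]
      by_cases z1 : z = 1
      · rw [z1, one_mul, mul_one]
      have hzH := hVH hz
      have z2 : z * z = 1 := by
        rcases (hVmem z).1 hz with rfl | rfl | rfl | rfl
        · exact absurd rfl z1
        · exact ha2
        · exact hb2
        · rw [mul_assoc, ← mul_assoc b, ← hab, mul_assoc a b, hb2, mul_one, ha2]
      have h := (ec (e ⟨z, hzH⟩) (e ⟨y, hy⟩) (fun h => z1 (congrArg Subtype.val
          ((map_eq_one_iff _ e.injective).1 h))) (fun h => y1 (congrArg Subtype.val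
          ((map_eq_one_iff _ e.injective).1 h)))
        (by rw [← map_mul, map_eq_one_iff _ e.injective]; exact Subtype.ext z2)
        (by rw [← map_mul, map_eq_one_iff _ e.injective]; exact Subtype.ext y2)).1
      rw [← map_mul, ← map_mul] at h
      exact congrArg Subtype.val (e.injective h)
    have hnorm : (V.subgroupOf C).Normal := by
      refine Subgroup.normal_of_index_eq_two ?_
      have h := (V.subgroupOf C).card_mul_index
      rw [Nat.card_congr (Subgroup.subgroupOfEquivOfLe hVC).toEquiv, hV.card_four, hC] at h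
      omega
    exact ⟨Subgroup.normal_subgroupOf_iff_le_normalizer hVC |>.1 hnorm, hC⟩
  have hKc : Nat.card K = 24 := by
    have hle : Nat.card K ≤ 24 := card_normalizer_le h2 hV
    have h12 : 12 ∣ Nat.card K := hH ▸ Subgroup.card_dvd_of_le hHK
    obtain ⟨hCK, hC⟩ := hinv (e.symm a₀).2 ha1 ha2
    have h8 : 8 ∣ Nat.card K := hC ▸ Subgroup.card_dvd_of_le hCK
    have hpos : 0 < Nat.card K := Nat.card_pos
    have h24 : 24 ∣ Nat.card K := by
      rw [show (24 : ℕ) = Nat.lcm 12 8 by decide]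
      exact Nat.lcm_dvd h12 h8
    have := Nat.le_of_dvd hpos h24
    omega
  have hKidx : K.index = 7 := index_of hKc hG (by norm_num)
  have hrel : H.relIndex K = 2 := by
    have h := Subgroup.relIndex_mul_index hHK
    rw [hidx, hKidx] at h
    omega
  have : Fact (Nat.Prime 2) := ⟨Nat.prime_two⟩
  have : Fact (Nat.Prime 3) := ⟨Nat.prime_three⟩
  refine not_binary_of_orbits hHK (by rw [hKidx, hG]; decide) 12 (by rw [hidx, hrel]) fun s hs => ?_
  suffices carried H s = ⊥ by rw [this, Subgroup.card_bot, hH]; norm_num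
  rw [Subgroup.eq_bot_iff_forall]
  intro y hy
  by_contra y1
  obtain ⟨hyH, hys⟩ := mem_carried.1 hy
  have ys1 : s⁻¹ * y * s ≠ 1 := fun h => y1 ((conj_eq_one_iff _ _).1 h)
  have hne1 : e ⟨y, hyH⟩ ≠ 1 := fun h => y1 (congrArg Subtype.val ((map_eq_one_iff _ e.injective).1 h))
  have hne2 : e ⟨_, hys⟩ ≠ 1 := fun h => ys1 (congrArg Subtype.val ((map_eq_one_iff _ e.injective).1 h))
  rcases eord (e ⟨y, hyH⟩) with h | h
  · -- an involution
    rw [← map_mul, map_eq_one_iff _ e.injective] at h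
    have y2 : y * y = 1 := congrArg Subtype.val h
    obtain ⟨-, c, hc⟩ := ec (e ⟨_, hys⟩) (e ⟨y, hyH⟩) hne2 hne1
      (by rw [← map_mul, map_eq_one_iff _ e.injective]; exact Subtype.ext (by
        rw [Subgroup.coe_mul, ← conj_mul_eq, y2, mul_one, inv_mul_cancel]; rfl))
      (by rw [← map_mul, map_eq_one_iff _ e.injective]; exact Subtype.ext y2)
    have hc' := conj_transport e hys hyH hc
    set c' : PSL2 F := (e.symm c : PSL2 F)
    have hcomm : c' * s⁻¹ ∈ Subgroup.centralizer ({y} : Set (PSL2 F)) := by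
      rw [Subgroup.mem_centralizer_singleton_iff]
      calc c' * s⁻¹ * y = c' * (s⁻¹ * y * s) * c'⁻¹ * (c' * s⁻¹) := by group
        _ = y * (c' * s⁻¹) := by rw [hc']
    have hK := (hinv hyH y1 y2).1 hcomm
    apply hs
    have := K.mul_mem (K.inv_mem hK) (hHK (e.symm c).2)
    rwa [mul_inv_rev, inv_inv, inv_mul_cancel_right] at this
  · -- an element of order three
    have y3 : orderOf y = 3 := by
      rw [← orderOf_equiv e hyH]
      exact orderOf_eq_prime h hne1
    obtain ⟨c, hc⟩ := e3 (e ⟨_, hys⟩) (e ⟨y, hyH⟩) hne2 hne1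
      (by rw [← y3, ← show orderOf (e ⟨_, hys⟩) = orderOf y by
            rw [orderOf_equiv e hys, show s⁻¹ * y * s = MulAut.conj s⁻¹ y by simp, MulEquiv.orderOf_eq]]
          exact pow_orderOf_eq_one _) h
    set c' : PSL2 F := (e.symm c : PSL2 F)
    rcases hc with hc | hc
    · have hc' := conj_transport e hys hyH hc
      have hcomm : c' * s⁻¹ * y = y * (c' * s⁻¹) := by
        calc c' * s⁻¹ * y = c' * (s⁻¹ * y * s) * c'⁻¹ * (c' * s⁻¹) := by group
          _ = y * (c' * s⁻¹) := by rw [hc']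
      have := mem_of_commute_order h7 hyH (Or.inl y3) hcomm
      apply hs
      have := K.mul_mem (K.inv_mem (hHK this)) (hHK (e.symm c).2)
      rwa [mul_inv_rev, inv_inv, inv_mul_cancel_right] at this
    · rw [← map_inv] at hc
      have hc' : c' * (s⁻¹ * y * s) * c'⁻¹ = y⁻¹ := conj_transport e hys (H.inv_mem hyH) hc
      -- an element of `K` inverting `y`
      obtain ⟨t, htK, htH⟩ : ∃ t ∈ K, t ∉ H := by
        by_contra hcon
        push Not at hcon
        have := Subgroup.card_le_of_le (show K ≤ H from hcon)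
        omega
      have hnorm : (H.subgroupOf K).Normal := Subgroup.normal_of_index_eq_two hrel
      have hty : t * y * t⁻¹ ∈ H := by
        have := hnorm.conj_mem ⟨y, hHK hyH⟩ hyH ⟨t, htK⟩
        exact this
      have hty3 : orderOf (t * y * t⁻¹) = 3 := by
        rw [show t * y * t⁻¹ = MulAut.conj t y from rfl, MulEquiv.orderOf_eq, y3]
      have hne3 : e ⟨_, hty⟩ ≠ 1 := fun h => by
        have := orderOf_equiv e hty
        rw [h, orderOf_one] at this
        omega
      obtain ⟨d, hd⟩ := e3 (e ⟨_, hty⟩) (e ⟨y, hyH⟩) hne3 hne1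
        (by rw [← hty3, ← orderOf_equiv e hty]; exact pow_orderOf_eq_one _) h
      set d' : PSL2 F := (e.symm d : PSL2 F)
      rcases hd with hd | hd
      · have hd' := conj_transport e hty hyH hd
        have hcomm : d' * t * y = y * (d' * t) := by
          calc d' * t * y = d' * (t * y * t⁻¹) * d'⁻¹ * (d' * t) := by group
            _ = y * (d' * t) := by rw [hd']
        have := mem_of_commute_order h7 hyH (Or.inl y3) hcomm
        apply htH
        have := H.mul_mem (H.inv_mem (e.symm d).2) this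
        rwa [inv_mul_cancel_left] at this
      · rw [← map_inv] at hd
        have hd' : d' * (t * y * t⁻¹) * d'⁻¹ = y⁻¹ := conj_transport e hty (H.inv_mem hyH) hd
        set u := c' * s⁻¹ with hu
        set v := d' * t with hv
        have hu' : u * y * u⁻¹ = y⁻¹ := by rw [hu, ← hc']; group
        have hv' : v * y * v⁻¹ = y⁻¹ := by rw [hv, ← hd']; group
        have hcomm : v⁻¹ * u * y = y * (v⁻¹ * u) := by
          have e1 : u * y = y⁻¹ * u := by rw [← hu', inv_mul_cancel_right]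
          rw [mul_assoc, e1, ← hv']
          group
        have hin := mem_of_commute_order h7 hyH (Or.inl y3) hcomm
        apply hs
        have huK : u ∈ K := by
          have := K.mul_mem (K.mul_mem (hHK (e.symm d).2) htK) (hHK hin)
          rwa [mul_inv_cancel_left] at this
        have := K.mul_mem (K.inv_mem huK) (hHK (e.symm c).2)
        rwa [hu, mul_inv_rev, inv_inv, inv_mul_cancel_right] at this

end Cfsg.Agent.BinaryPSL
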