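/-
Subfield subgroups of `PSL_2(q)`.

Main results (namespace `Cfsg.Agent.BinaryPSL`):
* `not_binary_std_affine` : `PSL_2(r)`, `PGL_2(r)` in standard position, `r ≥ 4`, not `PSL_2(5)`
* `not_binary_subfield`   : all subfield subgroups
-/
import Cfsg.Agent.Lib.BinaryPSL.Borel
import Cfsg.Agent.Lib.BinaryPSL.Polyhedral
import Cfsg.Agent.Lib.PSL2.SubfieldConj
import Cfsg.Agent.Lib.Linear.PSLTwoSmall

set_option autoImplicit false
set_option linter.unusedSectionVars false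
set_option synthInstance.maxSize 1024

open Matrix

namespace Cfsg.Agent.BinaryPSL

open PSL2

variable {F : Type*} [Field F] [Finite F]

local notation "π" => (QuotientGroup.mk : SL2 F → PSL2 F)

theorem exists_pow_ne_one {n : ℕ} (hn : 0 < n) (h : n < Nat.card F - 1) :
    ∃ x : Fˣ, x ^ n ≠ 1 := by
  obtain ⟨g, hg⟩ := IsCyclic.exists_ofOrder_eq_natCard (α := Fˣ)
  refine ⟨g, fun e => ?_⟩
  have := Nat.le_of_dvd hn (orderOf_dvd_of_pow_eq_one e)
  rw [hg, Nat.card_units] at this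
  omega

/-- Entries of an element of `PGL_2(R)`. -/
theorem entries_of_mem_stdPGL {R : Subfield F} {Y : SL2 F} (h : π Y ∈ stdPGL R.subtype) :
    ∃ N : Fin 2 → Fin 2 → R, ∃ k : F, ∀ i j, Y.1 i j = (N i j : F) * k := by
  obtain ⟨y, hy⟩ := h
  induction y using Matrix.ProjGenLinGroup.induction_on with | mk N => ?_
  rw [ProjGenLinGroup.map_mk, ProjectiveSpecialLinearGroup.toPGL_mk,
    ProjGenLinGroup.mk_eq_mk_iff] at hy
  obtain ⟨k, hk⟩ := hy
  refine ⟨fun i j => N.1 i j, (k : F), fun i j => ?_⟩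
  have h' := congrArg (fun M : GL (Fin 2) F => M.1 i j) hk
  fin_cases i <;> fin_cases j <;>
    simpa [Units.val_mul, Matrix.mul_apply, Fin.sum_univ_two, Matrix.scalar_apply] using h'.symm

/-- An element and its conjugate by a diagonal element outside the subfield. -/
theorem diag_of_mem_stdPGL {R : Subfield F} {t : Fˣ} (ht : (t : F) ^ 4 ∉ R) {y : PSL2 F}
    (hy : y ∈ stdPGL R.subtype)
    (hy' : (π (bor t 0))⁻¹ * y * π (bor t 0) ∈ stdPGL R.subtype) : ∃ l, y = π (bor l 0) := by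
  obtain ⟨Y, rfl⟩ := QuotientGroup.mk_surjective y
  obtain ⟨N, k, hN⟩ := entries_of_mem_stdPGL hy
  rw [← QuotientGroup.mk_inv, ← QuotientGroup.mk_mul, ← QuotientGroup.mk_mul] at hy'
  obtain ⟨M, k', hM⟩ := entries_of_mem_stdPGL hy'
  have ht0 : (t : F) ≠ 0 := t.ne_zero
  have hs : (t : F) ^ 2 ∉ R := fun h => ht (by
    rw [show (t : F) ^ 4 = (t : F) ^ 2 * (t : F) ^ 2 by ring]; exact R.mul_mem h h)
  have eM : ((bor t 0)⁻¹ * Y * bor t 0).1 =
      !![Y.1 0 0, Y.1 0 1 / (t : F) ^ 2; Y.1 1 0 * (t : F) ^ 2, Y.1 1 1] := by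
    rw [bor_inv, Matrix.SpecialLinearGroup.coe_mul, Matrix.SpecialLinearGroup.coe_mul, bor_coe, bor_coe,
      Matrix.eta_fin_two Y.1, Matrix.mul_fin_two, Matrix.mul_fin_two]
    ext i j
    fin_cases i <;> fin_cases j <;> simp [Matrix.mul_apply, Fin.sum_univ_two] <;> field_simp
  have h00 := hM 0 0
  have h01 := hM 0 1
  have h10 := hM 1 0
  have h11 := hM 1 1
  rw [eM] at h00 h01 h10 h11
  simp only [Matrix.of_apply, Matrix.cons_val', Matrix.cons_val_zero, Matrix.cons_val_one,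
    Matrix.empty_val', Matrix.cons_val_fin_one] at h00 h01 h10 h11
  have hd := det_eq Y
  -- the ratio of the two scalars
  by_cases hz : Y.1 0 0 = 0 ∧ Y.1 1 1 = 0
  · exfalso
    rw [hz.1, zero_mul, zero_sub] at hd
    have hb : Y.1 0 1 ≠ 0 := fun e => by rw [e, zero_mul, neg_zero] at hd; exact zero_ne_one hd
    have hc : Y.1 1 0 ≠ 0 := fun e => by rw [e, mul_zero, neg_zero] at hd; exact zero_ne_one hd
    apply ht
    have e1 : (t : F) ^ 4 = (N 0 1 : F) * (M 1 0 : F) / ((M 0 1 : F) * (N 1 0 : F)) := by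
      rw [hN 0 1] at hb h01
      rw [hN 1 0] at hc h10
      have hk' : k' ≠ 0 := fun e => by
        rw [e, mul_zero] at h10; exact mul_ne_zero hc (pow_ne_zero 2 ht0) h10
      have n10 : (N 1 0 : F) ≠ 0 := (mul_ne_zero_iff.1 hc).1
      have m01 : (M 0 1 : F) ≠ 0 := fun e => by
        rw [e, zero_mul, div_eq_zero_iff] at h01
        exact h01.elim hb (pow_ne_zero 2 ht0)
      rw [eq_div_iff (mul_ne_zero m01 n10)]
      refine mul_right_cancel₀ hk' ?_
      field_simp at h01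
      linear_combination -(t : F) ^ 2 * (N 1 0 : F) * h01 + (N 0 1 : F) * h10
    rw [e1]
    exact R.div_mem (R.mul_mem (N 0 1).2 (M 1 0).2) (R.mul_mem (M 0 1).2 (N 1 0).2)
  obtain ⟨ρ, hρR, hρ⟩ : ∃ ρ ∈ R, k = ρ * k' := by
    rw [hN 0 0, hN 1 1] at hz
    rcases not_and_or.1 hz with h | h
    · refine ⟨(M 0 0 : F) / (N 0 0 : F), R.div_mem (M 0 0).2 (N 0 0).2, ?_⟩
      have hn : (N 0 0 : F) ≠ 0 := (mul_ne_zero_iff.1 h).1
      rw [hN 0 0] at h00
      field_simp
      linear_combination h00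
    · refine ⟨(M 1 1 : F) / (N 1 1 : F), R.div_mem (M 1 1).2 (N 1 1).2, ?_⟩
      have hn : (N 1 1 : F) ≠ 0 := (mul_ne_zero_iff.1 h).1
      rw [hN 1 1] at h11
      field_simp
      linear_combination h11
  have hk0 : k' ≠ 0 := fun e => hz ⟨by rw [h00, e, mul_zero], by rw [h11, e, mul_zero]⟩
  have e10 : Y.1 1 0 = 0 := by
    by_contra h
    apply hs
    rw [hN 1 0, hρ] at h h10
    have hn : (N 1 0 : F) * ρ ≠ 0 := fun e => h (by rw [← mul_assoc, e, zero_mul])
    have e1 : (t : F) ^ 2 = (M 1 0 : F) / ((N 1 0 : F) * ρ) := by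
      rw [eq_div_iff hn]
      exact mul_right_cancel₀ hk0 (by linear_combination h10)
    rw [e1]
    exact R.div_mem (M 1 0).2 (R.mul_mem (N 1 0).2 hρR)
  have e01 : Y.1 0 1 = 0 := by
    by_contra h
    apply hs
    rw [hN 0 1, hρ] at h h01
    have hn : (N 0 1 : F) * ρ ≠ 0 := fun e => h (by rw [← mul_assoc, e, zero_mul])
    have hm : (M 0 1 : F) ≠ 0 := fun e => by
      rw [e, zero_mul, div_eq_zero_iff] at h01; exact h01.elim h (pow_ne_zero 2 ht0)
    have e1 : (t : F) ^ 2 = ((N 0 1 : F) * ρ) / (M 0 1 : F) := by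
      rw [eq_div_iff hm]
      rw [div_eq_iff (pow_ne_zero 2 ht0)] at h01
      exact mul_right_cancel₀ hk0 (by linear_combination -h01)
    rw [e1]
    exact R.div_mem (R.mul_mem (N 0 1).2 hρR) (M 0 1).2
  rw [e10, mul_zero, sub_zero] at hd
  refine ⟨⟨Y.1 0 0, Y.1 1 1, hd, by rw [mul_comm, hd]⟩, congrArg _ (Subtype.ext ?_)⟩
  rw [bor_coe]
  ext i j
  fin_cases i <;> fin_cases j <;> simp [e01, e10]

theorem toPGL_bor (l : Fˣ) (b : F) :
    ProjectiveSpecialLinearGroup.toPGL (π (bor l b)) =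
      mob (l : F) b 0 ((l⁻¹ : Fˣ) : F) (by simp) := by
  rw [ProjectiveSpecialLinearGroup.toPGL_mk, mob]
  refine congrArg ProjGenLinGroup.mk (Units.ext ?_)
  rw [Matrix.SpecialLinearGroup.coe_GL_coe_matrix]
  rfl

theorem bor_mem_stdPSL {R : Subfield F} (l : Rˣ) (b : R) :
    π (bor (Units.map (R.subtype : R →* F) l) (b : F)) ∈ stdPSL R.subtype := by
  let Y : SL2 R := ⟨!![(l : R), b; 0, ((l⁻¹ : Rˣ) : R)], by
    rw [Matrix.det_fin_two_of, mul_zero, sub_zero, ← Units.val_mul, mul_inv_cancel, Units.val_one]⟩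
  refine ⟨QuotientGroup.mk Y, ?_⟩
  rw [toK_mk, toPGL_bor, mob_eq_mob_iff]
  exact ⟨1, by simp [Y]⟩

/-- Standard subfield subgroups with enough multipliers. -/
theorem not_binary_std_affine {R : Subfield F} {H : Subgroup (PSL2 F)}
    (hlo : stdPSL R.subtype ≤ H) (hhi : H ≤ stdPGL R.subtype) {t : Fˣ} (ht : (t : F) ^ 4 ∉ R)
    {ζ : Fˣ} (hζH : π (bor ζ 0) ∈ H) (hζR : (ζ : F) ^ 2 ∈ R) (hζ : (ζ : F) ^ 4 ≠ 1) :
    ¬ Binary H := by
  have hz2 : (ζ : F) ^ 2 ≠ 1 := fun e => hζ (by linear_combination ((ζ : F) ^ 2 + 1) * e)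
  have hinv : ((ζ⁻¹ : Fˣ) : F) = (ζ : F)⁻¹ := Units.val_inv_eq_inv_val ζ
  have hup : ∀ b ∈ R, b ∈ transGroup H := fun b hb => by
    rw [mem_transGroup, upT_eq_bor]
    exact hlo (by simpa using bor_mem_stdPSL (R := R) 1 ⟨b, hb⟩)
  have hiH : π (bor ζ⁻¹ 0) ∈ H := by
    have h := H.inv_mem hζH
    rwa [← QuotientGroup.mk_inv, bor_inv, neg_zero] at h
  have hfix : ∀ l : Fˣ, (π (bor t 0))⁻¹ * π (bor l 0) * π (bor t 0) = π (bor l 0) := by
    intro l
    rw [← QuotientGroup.mk_inv, ← QuotientGroup.mk_mul, ← QuotientGroup.mk_mul, bor_inv, bor_mul,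
      bor_mul]
    congr 2
    · rw [mul_comm t⁻¹, inv_mul_cancel_right]
    · simp
  have hd : (ζ : F) ^ 2 - ((ζ⁻¹ : Fˣ) : F) ^ 2 ≠ 0 := fun e => hζ (by
    rw [hinv] at e
    have := ζ.ne_zero
    field_simp at e
    linear_combination e)
  refine not_binary_affine (g := π (bor t 0)) (ζ := ζ) (η := ζ⁻¹) (w := 1)
    (s := (1 - ((ζ⁻¹ : Fˣ) : F) ^ 2) / ((ζ : F) ^ 2 - ((ζ⁻¹ : Fˣ) : F) ^ 2))
    (fun y hy hy' => diag_of_mem_stdPGL ht (hhi hy) (hhi hy'))
    ⟨hζH, by rw [hfix]; exact hζH⟩ ⟨hiH, by rw [hfix]; exact hiH⟩ (hup 1 R.one_mem) (hup _ ?_)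
    one_ne_zero hz2 (by rw [hinv, inv_pow, ne_eq, inv_eq_one]; exact hz2)
    (by rw [div_mul_cancel₀ _ hd, one_mul])
  rw [hinv, inv_pow]
  exact R.div_mem (R.sub_mem R.one_mem (R.inv_mem hζR)) (R.sub_mem hζR (R.inv_mem hζR))

theorem nonempty_pgl_three {L : Type*} [Field L] [Finite L] (h : Nat.card L = 3) :
    Nonempty (PGL2 L ≃* Equiv.Perm (Fin 4)) := by
  have hc : Nat.card (Pt L) = 4 := by rw [show Pt L = _ from rfl, Linear.card_projLine, h]
  have : Finite (Pt L) := Nat.finite_of_card_ne_zero (by omega)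
  have hinj : Function.Injective (MulAction.toPermHom (PGL2 L) (Pt L)) := by
    rw [injective_iff_map_eq_one]
    intro g hg
    have hfix : ∀ P : Pt L, g • P = P := fun P => Equiv.congr_fun hg P
    exact eq_one_of_fix_three (pinf_ne_pt 0) (pinf_ne_pt 1) (by simp) (hfix _) (hfix _) (hfix _)
  have : Finite (PGL2 L) := Finite.of_injective _ hinj
  refine ⟨(MulEquiv.ofBijective _ ((Nat.bijective_iff_injective_and_card _).2 ⟨hinj, ?_⟩)).trans
    (Equiv.permCongrHom (Nat.equivFinOfCardPos (by omega) |>.trans (finCongr hc)))⟩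
  rw [card_pgl_eq, h, Nat.card_perm, hc]
  rfl

theorem symThree_facts :
    (∀ s t : Equiv.Perm (Fin 3), s * s = 1 → t * t = 1 → s ≠ 1 → t ≠ 1 → s * t = t * s → s = t) ∧
    (∀ s e : Equiv.Perm (Fin 3), s * s = 1 → s ≠ 1 → e * e ≠ 1 → s * e * s = e⁻¹) := by
  constructor <;> decide +kernel

theorem not_binary_symThree (h4 : 4 ≤ Nat.card F) {H : Subgroup (PSL2 F)}
    (e : H ≃* Equiv.Perm (Fin 3)) : ¬ Binary H := by
  have hm : ∀ {u : PSL2 F}, ∀ hu : u ∈ H, e ⟨u, hu⟩ = 1 ↔ u = 1 := fun hu => by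
    rw [map_eq_one_iff _ e.injective]; exact Subtype.ext_iff
  have hsq : ∀ {u v : PSL2 F}, ∀ hu : u ∈ H, ∀ hv : v ∈ H, e ⟨u, hu⟩ * e ⟨v, hv⟩ = 1 ↔ u * v = 1 :=
    fun hu hv => by rw [← map_mul]; exact hm _
  refine not_binary_of_inverting_psl h4 (s := (e.symm (Equiv.swap 0 1) : PSL2 F)) (SetLike.coe_mem _)
    (fun h => ?_) ?_ (fun s hs t ht s2 t2 s1 t1 hst => ?_) (fun s hs y hy s2 s1 y2 => ?_)
  · have h' : Equiv.swap (0 : Fin 3) 1 = 1 := e.symm.injective (by rw [map_one]; exact Subtype.ext h)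
    exact absurd h' (by decide)
  · rw [← Subgroup.coe_mul, ← map_mul, Equiv.swap_mul_self, map_one, Subgroup.coe_one]
  · refine congrArg Subtype.val (e.injective (symThree_facts.1 (e ⟨s, hs⟩) (e ⟨t, ht⟩) ?_ ?_ ?_ ?_ ?_))
    · exact (hsq hs hs).2 s2
    · exact (hsq ht ht).2 t2
    · exact fun h => s1 ((hm hs).1 h)
    · exact fun h => t1 ((hm ht).1 h)
    · rw [← map_mul, ← map_mul]; exact congrArg e (Subtype.ext hst)
  · have h := symThree_facts.2 (e ⟨s, hs⟩) (e ⟨y, hy⟩) ((hsq hs hs).2 s2) (fun h => s1 ((hm hs).1 h))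
      (fun h => y2 ((hsq hy hy).1 h))
    rw [← map_mul, ← map_mul, ← map_inv] at h
    exact congrArg Subtype.val (e.injective h)

theorem isSquare_of_even_degree {R : Subfield F} {m : ℕ} (hm : Nat.card R ^ m = Nat.card F)
    (heven : Even m) (hodd : Odd (Nat.card F)) {a : F} (ha : a ∈ R) : IsSquare a := by
  have := Fintype.ofFinite F
  have := Fintype.ofFinite R
  by_cases h0 : a = 0
  · exact ⟨0, by rw [h0, mul_zero]⟩
  have hc : ringChar F ≠ 2 := fun h => by
    rw [Nat.card_eq_fintype_card, Nat.odd_iff, (FiniteField.even_card_iff_char_two (F := F)).1 h] at hodd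
    omega
  rw [FiniteField.isSquare_iff hc h0]
  obtain ⟨j, rfl⟩ := heven
  set r := Nat.card R
  have hr : Odd r := by
    rw [← hm] at hodd
    exact ((Nat.odd_pow_iff (by rintro e; rw [e, pow_zero] at hm; have := Finite.one_lt_card (α := F); omega)).1 hodd)
  have h1 : r - 1 ∣ (Fintype.card F) / 2 := by
    obtain ⟨i, hi⟩ := hr
    obtain ⟨c, hc⟩ : r * r - 1 ∣ (r * r) ^ j - 1 := by simpa using Nat.sub_dvd_pow_sub_pow (r * r) 1 j
    refine ⟨(i + 1) * c, ?_⟩
    rw [← Nat.card_eq_fintype_card, ← hm, pow_add, ← mul_pow]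
    have h2 : r * r - 1 = 2 * ((r - 1) * (i + 1)) := by
      rw [hi]
      simp only [Nat.add_sub_cancel]
      have : (2 * i + 1) * (2 * i + 1) = 2 * (2 * i * (i + 1)) + 1 := by ring
      omega
    have hpos : 1 ≤ (r * r) ^ j := Nat.one_le_pow _ _ (Nat.mul_pos (by omega) (by omega))
    rw [show (r * r) ^ j = 2 * ((r - 1) * ((i + 1) * c)) + 1 by
      rw [← Nat.sub_add_cancel hpos, hc, h2]; ring]
    omega
  obtain ⟨d, hd⟩ := h1
  have hR : a ^ (r - 1) = 1 := by
    have h := FiniteField.pow_card_sub_one_eq_one (⟨a, ha⟩ : R) (fun e => h0 (congrArg Subtype.val e))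
    rw [← Nat.card_eq_fintype_card] at h
    exact congrArg Subtype.val h
  rw [hd, pow_mul, hR, one_pow]

variable (p : ℕ) [Fact p.Prime] [CharP F p]

include p in
/-- Subfield subgroups in standard position. -/
theorem not_binary_subfield {H : Subgroup (PSL2 F)} (hH : H ≠ ⊤) {R : Subfield F} {m : ℕ}
    (h4 : 4 ≤ Nat.card F) (hm1 : 1 ≤ m) (hm : Nat.card R ^ m = Nat.card F)
    (hstd : H = stdPSL R.subtype ∨ (p ≠ 2 ∧ Even m ∧ H = stdPGL R.subtype)) : ¬ Binary H := by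
  set r := Nat.card R with hr
  have hr2 : 2 ≤ r := Finite.one_lt_card
  have hm2 : 2 ≤ m := by
    by_contra hlt
    have hm' : m = 1 := by omega
    subst hm'
    rcases hstd with rfl | ⟨-, he, -⟩
    · obtain ⟨e⟩ := nonempty_stdPSL_equiv R.subtype
      rw [pow_one] at hm
      exact hH (eq_top_of_psl hm e)
    · exact absurd he (by decide)
  have hq : r * r ≤ Nat.card F := by
    rw [← hm, ← pow_two]
    exact Nat.pow_le_pow_right (by omega) hm2
  have hodd_of : p ≠ 2 → Odd (Nat.card F) := fun hp => two_ne_zero_iff_odd.1 (two_ne_zero_of_char p hp)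
  have hchar : ∀ n : ℕ, n.Prime → n ∣ r → p = n := by
    intro n hn hd
    obtain ⟨c, hc, hcq⟩ := GLOrder.exists_card_eq_pow (F := F) p
    have h : n ∣ p ^ c := hcq ▸ hm ▸ dvd_pow hd (by omega)
    exact ((Nat.prime_dvd_prime_iff_eq hn (Fact.out : p.Prime)).1 (hn.dvd_of_dvd_pow h)).symm
  rcases Nat.lt_or_ge r 4 with hr4 | hr4
  · rcases (show r = 2 ∨ r = 3 by omega) with hr' | hr'
    · rcases hstd with rfl | ⟨hp2, -, -⟩
      · obtain ⟨e⟩ := nonempty_stdPSL_equiv R.subtype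
        obtain ⟨φ, hφ⟩ := Linear.exists_psl_perm (F := R) (n := 3) (by omega)
        obtain ⟨f⟩ := Linear.nonempty_mulEquiv_perm φ hφ (by
          rw [GLOrder.card_PSL_two, ← hr, hr']; rfl)
        exact not_binary_symThree h4 (e.trans f)
      · exact absurd (hchar 2 Nat.prime_two (hr' ▸ dvd_rfl)) hp2
    · have hp3 : p = 3 := hchar 3 Nat.prime_three (hr' ▸ dvd_rfl)
      have hodd := hodd_of (by omega)
      rw [hr'] at hq
      rcases hstd with rfl | ⟨-, he, rfl⟩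
      · obtain ⟨e⟩ := nonempty_stdPSL_equiv R.subtype
        obtain ⟨f⟩ := Linear.nonempty_pslTwo_three (F := R) hr'
        exact not_binary_altFour p (by omega) hodd (e.trans f)
      · obtain ⟨e⟩ := nonempty_stdPGL_equiv R.subtype fun a => isSquare_of_even_degree hm he hodd a.2
        obtain ⟨f⟩ := nonempty_pgl_three (L := R) hr'
        exact not_binary_permFour p hodd (Or.inr hp3) (by omega) (e.trans f)
  by_cases h5 : r = 5 ∧ H = stdPSL R.subtype
  · obtain ⟨hr', rfl⟩ := h5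
    have hp5 : p = 5 := hchar 5 Nat.prime_five (hr' ▸ dvd_rfl)
    have hodd := hodd_of (by omega)
    rw [hr'] at hq
    obtain ⟨e⟩ := nonempty_stdPSL_equiv R.subtype
    have := Fintype.ofFinite R
    obtain ⟨f⟩ := Linear.nonempty_pslTwo_five (F := R) (by rw [← Nat.card_eq_fintype_card]; exact hr')
    exact not_binary_altFive p hodd (by omega) (e.trans f)
  obtain ⟨t, ht⟩ : ∃ t : Fˣ, (t : F) ^ 4 ∉ R := by
    obtain ⟨t, ht⟩ := exists_pow_ne_one (F := F) (n := 4 * (r - 1)) (by omega) (by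
      have : 4 * r ≤ r * r := Nat.mul_le_mul_right r hr4
      omega)
    refine ⟨t, fun h => ht (Units.ext ?_)⟩
    have := Fintype.ofFinite R
    have h' := FiniteField.pow_card_sub_one_eq_one (⟨_, h⟩ : R)
      (fun e => pow_ne_zero 4 t.ne_zero (congrArg Subtype.val e))
    rw [← Nat.card_eq_fintype_card] at h'
    rw [Units.val_pow_eq_pow_val, pow_mul, Units.val_one]
    exact congrArg Subtype.val h'
  rcases hstd with rfl | ⟨hp2, he, rfl⟩
  · obtain ⟨x, hx⟩ : ∃ x : Rˣ, (x : R) ^ 4 ≠ 1 := by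
      rcases (show r = 4 ∨ 5 < r by
        rcases Nat.eq_or_lt_of_le hr4 with h | h
        · exact Or.inl h.symm
        · exact Or.inr (lt_of_le_of_ne h fun e => h5 ⟨e.symm, rfl⟩)) with hr' | hr'
      · obtain ⟨x, hx⟩ := exists_pow_ne_one (F := R) (n := 1) one_pos (by omega)
        refine ⟨x, fun e => hx ?_⟩
        have := Fintype.ofFinite R
        have h3 := FiniteField.pow_card_sub_one_eq_one (x : R) x.ne_zero
        rw [← Nat.card_eq_fintype_card, ← hr, hr'] at h3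
        have hx1 : (x : R) = 1 := by
          rw [pow_succ, h3, one_mul] at e
          exact e
        rw [pow_one]
        exact Units.ext hx1
      · obtain ⟨x, hx⟩ := exists_pow_ne_one (F := R) (n := 4) (by norm_num) (by omega)
        exact ⟨x, fun e => hx (Units.ext (by rw [Units.val_pow_eq_pow_val, e, Units.val_one]))⟩
    refine not_binary_std_affine le_rfl (stdPSL_le_stdPGL _) ht
      (by simpa using bor_mem_stdPSL (R := R) x 0) ?_ ?_
    · exact R.pow_mem (x : R).2 2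
    · intro e
      exact hx (Subtype.ext e)
  · have hodd := hodd_of hp2
    obtain ⟨a, ha⟩ : ∃ a : Rˣ, a ^ 2 ≠ 1 := exists_pow_ne_one (F := R) two_pos (by omega)
    obtain ⟨z, hz⟩ := isSquare_of_even_degree hm he hodd (a : R).2
    have hz0 : z ≠ 0 := fun e => (Units.ne_zero a) (Subtype.ext (by rw [hz, e, mul_zero]; rfl))
    refine not_binary_std_affine (stdPSL_le_stdPGL _) le_rfl ht (ζ := Units.mk0 z hz0) ?_ ?_ ?_
    · refine ⟨mob (a : R) 0 0 1 (by simp), ?_⟩
      rw [map_mob, toPGL_bor, mob_eq_mob_iff]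
      refine ⟨(Units.mk0 z hz0)⁻¹, ?_⟩
      simp [hz]
    · rw [Units.val_mk0, pow_two, ← hz]; exact (a : R).2
    · rw [Units.val_mk0]
      intro e
      apply ha
      apply Units.ext
      apply Subtype.ext
      show (((a : R) ^ 2 : R) : F) = 1
      push_cast
      rw [hz]
      linear_combination e

end Cfsg.Agent.BinaryPSL
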