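/-
Binary coset actions of `PSL_2(q)`.

Main result (namespace `Cfsg.Agent.BinaryPSL`):
* `binary_iff` : binary exactly for the trivial group, the Sylow 2-subgroups (`q` even) and the
  subgroups of order three (`q` an odd power of two)
-/
import Cfsg.Agent.Lib.BinaryPSL.Borel
import Cfsg.Agent.Lib.BinaryPSL.Small
import Cfsg.Agent.Lib.BinaryPSL.Subfield
import Cfsg.Agent.Lib.BinaryPSL.Positive

set_option autoImplicit false
set_option linter.unusedSectionVars false

open Matrix

namespace Cfsg.Agent.BinaryPSL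

open PSL2

variable {F : Type*} [Field F] [Finite F] (p : ℕ) [Fact p.Prime] [CharP F p]

local notation "π" => (QuotientGroup.mk : SL2 F → PSL2 F)

theorem bor_pow (l : Fˣ) (b : F) (n : ℕ) : ∃ b', bor l b ^ n = bor (l ^ n) b' := by
  induction n with
  | zero => exact ⟨0, by rw [pow_zero, pow_zero, bor_one]⟩
  | succ n ih =>
    obtain ⟨b', hb'⟩ := ih
    exact ⟨_, by rw [pow_succ, hb', bor_mul, ← pow_succ]⟩

include p in
/-- A `p`-element of a triangular group is a translation. -/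
theorem exists_upT_of_pow_char {y : PSL2 F} {j : ℕ} (hy : y ^ p ^ j = 1)
    (hb : ∃ l b, y = π (bor l b)) : ∃ b, y = π (upT b) := by
  obtain ⟨l, b, rfl⟩ := hb
  obtain ⟨b', hb'⟩ := bor_pow l b (p ^ j)
  rw [← QuotientGroup.mk_pow, hb', mk_bor_eq_one_iff] at hy
  have key : ∀ s : F, (l : F) ^ p ^ j = s ^ p ^ j → (l : F) = s := fun s h =>
    iterateFrobenius_inj F p j (by rw [iterateFrobenius_def, iterateFrobenius_def]; exact h)
  rcases hy.1 with h | h
  · refine ⟨b, ?_⟩
    have hl : l = 1 := Units.ext (by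
      rw [Units.val_one]
      exact key 1 (by rw [one_pow, ← Units.val_pow_eq_pow_val, h, Units.val_one]))
    rw [hl, upT_eq_bor]
  · refine ⟨-b, ?_⟩
    rw [upT_eq_bor, mk_bor_eq_iff]
    refine Or.inr ⟨Units.ext ?_, (neg_neg b).symm⟩
    rw [Units.val_neg, Units.val_one]
    refine key (-1) ?_
    have e : iterateFrobenius F p j (-1) = -1 := by rw [map_neg, map_one]
    rw [iterateFrobenius_def] at e
    rw [e, ← Units.val_pow_eq_pow_val, h, Units.val_neg, Units.val_one]

theorem binary_conj_iff {G : Type*} [Group G] {H : Subgroup G} (f : G ≃* G) :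
    Binary (H.map f.toMonoidHom) ↔ Binary H := by
  refine ⟨fun h => ?_, fun h => h.map f⟩
  have := h.map f.symm
  rwa [Subgroup.map_map, show f.symm.toMonoidHom.comp f.toMonoidHom = MonoidHom.id G from
    MonoidHom.ext fun x => f.symm_apply_apply x, Subgroup.map_id] at this

theorem card_psl_even (h2 : p = 2) :
    ∃ c, 0 < c ∧ Nat.card F = 2 ^ c ∧ Nat.card (PSL2 F) = 2 ^ c * ((2 ^ c + 1) * (2 ^ c - 1)) ∧
      ¬ 2 ∣ (2 ^ c + 1) * (2 ^ c - 1) := by
  subst h2
  obtain ⟨c, hc, hcq⟩ := GLOrder.exists_card_eq_pow (F := F) 2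
  have heven : 2 ∣ 2 ^ c := dvd_pow_self 2 hc.ne'
  have hpos : 1 ≤ 2 ^ c := Nat.one_le_two_pow
  have h := card_psl_mul (F := F)
  rw [hcq, Nat.Coprime.gcd_eq_one (Nat.coprime_two_left.2 (Nat.odd_iff.2 (by omega))), one_mul] at h
  refine ⟨c, hc, hcq, h, fun hd => ?_⟩
  rcases (Nat.Prime.dvd_mul Nat.prime_two).1 hd with h' | h' <;> omega

theorem exists_omega (h2 : (2 : F) = 0) {c : ℕ} (hc : Nat.card F = 2 ^ c) (he : Even c) :
    ∃ ω : F, ω ^ 2 + ω + 1 = 0 := by
  have : Fact (Nat.Prime 3) := ⟨Nat.prime_three⟩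
  have h3 : 3 ∣ Nat.card Fˣ := by
    rw [Nat.card_units, hc]
    obtain ⟨j, rfl⟩ := he
    rw [← two_mul, pow_mul]
    simpa [show (2 : ℕ) ^ 2 = 4 from rfl] using Nat.sub_dvd_pow_sub_pow 4 1 j
  obtain ⟨u, hu⟩ := exists_prime_orderOf_dvd_card' (G := Fˣ) 3 h3
  refine ⟨u, ?_⟩
  have hu3 : (u : F) ^ 3 = 1 := by
    rw [← Units.val_pow_eq_pow_val, ← hu, pow_orderOf_eq_one, Units.val_one]
  have hu1 : (u : F) - 1 ≠ 0 := fun e => by
    rw [Units.ext (show (u : F) = ((1 : Fˣ) : F) by rw [Units.val_one]; exact sub_eq_zero.1 e),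
      orderOf_one] at hu
    omega
  exact (mul_eq_zero.1 (show ((u : F) - 1) * ((u : F) ^ 2 + u + 1) = 0 by
    linear_combination hu3)).resolve_left hu1

theorem no_omega (h2 : (2 : F) = 0) {c : ℕ} (hc : Nat.card F = 2 ^ c) (ho : Odd c) (s : F) :
    s ^ 2 + s + 1 ≠ 0 := by
  intro h
  have hs0 : s ≠ 0 := by rintro rfl; simp at h
  have hs1 : s ≠ 1 := by rintro rfl; exact one_ne_zero (α := F) (by linear_combination h - h2)
  have : Fact (Nat.Prime 3) := ⟨Nat.prime_three⟩
  have hu : orderOf (Units.mk0 s hs0) = 3 := orderOf_eq_prime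
    (Units.ext (by rw [Units.val_pow_eq_pow_val, Units.val_mk0, Units.val_one]; linear_combination (s - 1) * h))
    (fun e => hs1 (by simpa using congrArg (fun u : Fˣ => (u : F)) e))
  have h3 : 3 ∣ Nat.card Fˣ := hu ▸ orderOf_dvd_natCard _
  rw [Nat.card_units, hc] at h3
  obtain ⟨j, rfl⟩ := ho
  have h32 : 2 ^ (2 * j + 1) % 3 = 2 := by
    rw [pow_succ, pow_mul, Nat.mul_mod, Nat.pow_mod]; norm_num
  have := Nat.one_le_two_pow (n := 2 * j + 1)
  obtain ⟨i, hi⟩ := h3
  generalize 2 ^ (2 * j + 1) = X at hi h32 this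
  omega

include p in
/-- The translations form a Sylow subgroup and conversely. -/
theorem trans_of_sylow (hp : p = 2) (P : Sylow 2 (PSL2 F)) :
    ∃ k : PSL2 F, ∀ y, y ∈ (P : Subgroup (PSL2 F)).map (MulAut.conj k).toMonoidHom ↔
      ∃ b, y = π (upT b) := by
  obtain ⟨c, hc, hcq, hG, hodd⟩ := card_psl_even (F := F) p hp
  subst hp
  obtain ⟨Q, hQ⟩ := normalizer_sylow_le 2 P
  obtain ⟨k, hk⟩ := exists_conj_bor (H := (P : Subgroup (PSL2 F))) (P := Q)
    fun h hh => hQ (Subgroup.le_normalizer hh)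
  refine ⟨k, ?_⟩
  set K := (P : Subgroup (PSL2 F)).map (MulAut.conj k).toMonoidHom
  have hK : Nat.card K = Nat.card F := by
    rw [Subgroup.card_map_of_injective (MulAut.conj k).injective,
      SmallOrders.card_sylow_subgroup (e := c) hG hodd P, hcq]
  have hsub : ∀ y ∈ K, ∃ b, y = π (upT b) := by
    intro y hy
    refine exists_upT_of_pow_char 2 (j := c) ?_ (hk y hy)
    have h := congrArg Subtype.val (pow_card_eq_one' (x := (⟨y, hy⟩ : K)))
    rw [hK, hcq] at h
    exact h
  intro y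
  refine ⟨hsub y, ?_⟩
  rintro ⟨b, rfl⟩
  by_contra hb
  have hle : (K : Set (PSL2 F)) ⊆ (fun b => π (upT b)) '' {b' | b' ≠ b} := fun z hz => by
    obtain ⟨b', rfl⟩ := hsub z hz
    exact ⟨b', fun e => hb (e ▸ hz), rfl⟩
  have h1 := Set.ncard_le_ncard hle (Set.toFinite _)
  rw [← Nat.card_coe_set_eq, SetLike.coe_sort_coe, hK] at h1
  have h2 := Set.ncard_image_le (f := fun b => π (upT b)) (Set.toFinite {b' : F | b' ≠ b})
  have h3 : {b' : F | b' ≠ b}.ncard < Nat.card F := by
    rw [← Set.ncard_univ]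
    exact Set.ncard_lt_ncard ⟨Set.subset_univ _, fun h => h (Set.mem_univ b) rfl⟩ Set.finite_univ
  omega

include p in
theorem not_binary_altFive_any (hodd : Odd (Nat.card F)) (h4 : 4 ≤ Nat.card F) (h5 : Nat.card F ≠ 5)
    {H : Subgroup (PSL2 F)} (e : H ≃* alternatingGroup (Fin 5))
    (h : p = 3 ∨ ¬ p ∣ 60) : ¬ Binary H := by
  by_cases h21 : 21 < Nat.card F
  · exact not_binary_altFive p hodd h21 e
  push Not at h21
  obtain ⟨c, hc, hcq⟩ := GLOrder.exists_card_eq_pow (F := F) p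
  by_cases h9 : Nat.card F = 9 ∨ Nat.card F = 11
  · exact not_binary_altFive_small h9 e
  by_cases h19 : Nat.card F = 19
  · exact not_binary_altFive_nineteen p h19 e
  exfalso
  have : Fact (Nat.Prime 5) := ⟨Nat.prime_five⟩
  have hx : orderOf (e.symm x55 : PSL2 F) = 5 := by
    rw [orderOf_poly, orderOf_eq_prime polyFacts_altFive_five.pow (by decide +kernel)]
  have hd : Nat.gcd 2 (Nat.card F - 1) = 2 := by
    obtain ⟨j, hj⟩ := hodd
    exact Nat.gcd_eq_left (by omega)
  have hcases := psl_orderOf_cases p (e.symm x55 : PSL2 F)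
  rw [hx, hd] at hcases
  have hp5 : p ≠ 5 := fun e5 => by
    rcases h with h | h
    · omega
    · exact h (e5 ▸ by norm_num)
  have h5p : ¬ 5 ∣ p := fun h => hp5 ((Nat.prime_dvd_prime_iff_eq Nat.prime_five (Fact.out : p.Prime)).1 h).symm
  have hpq : p ∣ Nat.card F := hcq ▸ dvd_pow_self p hc.ne'
  obtain ⟨j, hj⟩ := hodd
  have h215 : Nat.card F = 15 → False := fun h15 => by
    rw [h15] at hpq
    have hp15 : p ∈ Nat.divisors 15 := Nat.mem_divisors.2 ⟨hpq, by norm_num⟩
    rw [show Nat.divisors 15 = {1, 3, 5, 15} from by decide] at hp15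
    simp only [Finset.mem_insert, Finset.mem_singleton] at hp15
    have hp' := (Fact.out : p.Prime)
    rcases hp15 with rfl | rfl | rfl | rfl
    · exact Nat.not_prime_one hp'
    · rcases Nat.lt_or_ge c 3 with h' | h'
      · interval_cases c <;> omega
      · have : 3 ^ 3 ≤ 3 ^ c := Nat.pow_le_pow_right (by norm_num) h'
        omega
    · exact hp5 rfl
    · exact absurd hp' (by norm_num)
  have h221 : Nat.card F = 21 → False := fun h21 => by
    rw [h21] at hpq
    have hp21 : p ∈ Nat.divisors 21 := Nat.mem_divisors.2 ⟨hpq, by norm_num⟩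
    rw [show Nat.divisors 21 = {1, 3, 7, 21} from by decide] at hp21
    simp only [Finset.mem_insert, Finset.mem_singleton] at hp21
    have hp' := (Fact.out : p.Prime)
    rcases hp21 with rfl | rfl | rfl | rfl
    · exact Nat.not_prime_one hp'
    · rcases Nat.lt_or_ge c 3 with h' | h'
      · interval_cases c <;> omega
      · have : 3 ^ 3 ≤ 3 ^ c := Nat.pow_le_pow_right (by norm_num) h'
        omega
    · rcases Nat.lt_or_ge c 2 with h' | h'
      · interval_cases c; omega
      · have : 7 ^ 2 ≤ 7 ^ c := Nat.pow_le_pow_right (by norm_num) h'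
        omega
    · exact absurd hp' (by norm_num)
  rcases hcases with h' | h' | h'
  · have : Nat.card F ≠ 15 ∧ Nat.card F ≠ 21 := ⟨h215, h221⟩
    obtain ⟨i, hi⟩ := h'
    omega
  · have : Nat.card F ≠ 15 ∧ Nat.card F ≠ 21 := ⟨h215, h221⟩
    obtain ⟨i, hi⟩ := h'
    omega
  · exact h5p h'

include p in
theorem not_binary_permFour_any (hodd : Odd (Nat.card F)) (h4 : 4 ≤ Nat.card F) (h5 : Nat.card F ≠ 5)
    {H : Subgroup (PSL2 F)} (e : H ≃* Equiv.Perm (Fin 4)) (h3 : ¬ p ∣ 24) : ¬ Binary H := by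
  by_cases h13 : 13 < Nat.card F
  · exact not_binary_permFour p hodd (Or.inl h13) (by omega) e
  push Not at h13
  obtain ⟨c, hc, hcq⟩ := GLOrder.exists_card_eq_pow (F := F) p
  have hpq : p ∣ Nat.card F := hcq ▸ dvd_pow_self p hc.ne'
  obtain ⟨j, hj⟩ := hodd
  by_cases h7 : Nat.card F = 7
  · exact not_binary_permFour_seven h7 e
  exfalso
  have h9 : Nat.card F ≠ 9 := fun h9 => by
    rw [h9] at hpq
    have : p ∣ 3 := (Fact.out : p.Prime).dvd_of_dvd_pow (n := 2) (by simpa using hpq)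
    rcases (Nat.dvd_prime Nat.prime_three).1 this with h | h
    · exact (Fact.out : p.Prime).ne_one h
    · exact h3 (h ▸ by norm_num)
  have hord : orderOf (e.symm (c[0, 1, 2, 3] : Equiv.Perm (Fin 4)) : PSL2 F) = 4 := by
    rw [orderOf_poly]
    refine (orderOf_eq_iff (by norm_num)).2 ⟨by decide +kernel, fun m hm hm0 => ?_⟩
    interval_cases m <;> decide +kernel
  have hd : Nat.gcd 2 (Nat.card F - 1) = 2 := Nat.gcd_eq_left (by omega)
  have hcases := psl_orderOf_cases p (e.symm (c[0, 1, 2, 3] : Equiv.Perm (Fin 4)) : PSL2 F)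
  rw [hord, hd] at hcases
  rcases hcases with ⟨i, hi⟩ | ⟨i, hi⟩ | h'
  · omega
  · omega
  · rcases (Nat.dvd_prime (Fact.out : p.Prime)).1 h' with h | h
    · omega
    · exact Nat.Prime.ne_one (Fact.out : p.Prime) (by
        have := (Fact.out : p.Prime)
        rw [← h] at this
        exact absurd this (by norm_num))

include p in
/-- The classification of binary coset actions. -/
theorem binary_iff (h4 : 4 ≤ Nat.card F) (h5 : Nat.card F ≠ 5) {H : Subgroup (PSL2 F)} (hH : H ≠ ⊤) :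
    Binary H ↔ (H = ⊥ ∨ ((∃ a : ℕ, Nat.card F = 2 ^ a) ∧ ∃ P : Sylow 2 (PSL2 F), H = P) ∨
      ((∃ a : ℕ, Odd a ∧ Nat.card F = 2 ^ a) ∧ Nat.card H = 3)) := by
  have hpp : p.Prime := Fact.out
  have hp_two : ∀ a, Nat.card F = 2 ^ a → p = 2 := by
    intro a ha
    obtain ⟨c, hc, hcq⟩ := GLOrder.exists_card_eq_pow (F := F) p
    have h : p ∣ 2 ^ a := ha ▸ hcq ▸ dvd_pow_self p hc.ne'
    exact (Nat.prime_dvd_prime_iff_eq hpp Nat.prime_two).1 (hpp.dvd_of_dvd_pow h)
  have h2of : p = 2 → (2 : F) = 0 := fun hp => by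
    subst hp; exact_mod_cast CharP.cast_eq_zero F 2
  constructor
  swap
  · rintro (rfl | ⟨⟨a, ha⟩, P, rfl⟩ | ⟨⟨a, hao, ha⟩, h3⟩)
    · exact binary_bot
    · obtain ⟨k, hk⟩ := trans_of_sylow p (hp_two a ha) P
      exact (binary_conj_iff (MulAut.conj k)).1 (binary_trans (h2of (hp_two a ha)) hk)
    · have h2 := h2of (hp_two a ha)
      exact binary_three h2 (no_omega h2 ha hao) h3
  intro hB
  by_contra hcon
  push Not at hcon
  obtain ⟨hbot, hsyl, hthree⟩ := hcon
  have hodd_of : p ≠ 2 → Odd (Nat.card F) := fun hp => two_ne_zero_iff_odd.1 (two_ne_zero_of_char p hp)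
  have h7 : p ≠ 2 → 7 ≤ Nat.card F := fun hp => by
    obtain ⟨j, hj⟩ := hodd_of hp
    omega
  rcases psl_dickson_std p H with ⟨hdvd, S, hS⟩ | ⟨hnd, hcyc, -⟩ | ⟨n, hn2, hpn, -, hcard, ⟨e⟩⟩ |
    ⟨hnd, ⟨⟨e⟩⟩ | ⟨⟨e⟩⟩ | ⟨⟨e⟩⟩⟩ | ⟨hp3, -, ⟨e⟩⟩ | ⟨R, m, u, hm1, hm, hstd⟩
  · -- point stabilisers
    obtain ⟨Q, hQ⟩ := normalizer_sylow_le p S
    obtain ⟨k, hk⟩ := exists_conj_bor (H := H) (P := Q) fun h hh => hQ (hS hh)
    set K := H.map (MulAut.conj k).toMonoidHom
    have hBK : Binary K := hB.map _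
    have hcK : Nat.card K = Nat.card H := Subgroup.card_map_of_injective (MulAut.conj k).injective
    obtain ⟨y, hy⟩ := exists_prime_orderOf_dvd_card' (G := K) p (hcK ▸ hdvd)
    obtain ⟨b, hb⟩ := exists_upT_of_pow_char p (y := (y : PSL2 F)) (j := 1) (by
      rw [pow_one, ← hy, ← Subgroup.orderOf_coe, pow_orderOf_eq_one]) (hk _ y.2)
    refine not_binary_bor h4 hk (w := b) (by rw [mem_transGroup, ← hb]; exact y.2) (fun b0 => ?_)
      (fun ⟨h2, hall⟩ => ?_) hBK
    · rw [b0, upT_zero, QuotientGroup.mk_one] at hb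
      rw [← Subgroup.orderOf_coe, hb, orderOf_one] at hy
      exact hpp.ne_one hy.symm
    · have hp : p = 2 := by
        rcases (Nat.dvd_prime Nat.prime_two).1
          ((CharP.cast_eq_zero_iff F p 2).1 (by exact_mod_cast h2)) with h | h
        · exact absurd h hpp.ne_one
        · exact h
      obtain ⟨c, hc, hcq, hG, hodd⟩ := card_psl_even (F := F) p hp
      have hKc : Nat.card K = 2 ^ c := by
        rw [← hcq]
        refine Nat.card_congr (Equiv.ofBijective (fun b : F => (⟨π (upT b), (hall _).2 ⟨b, rfl⟩⟩ : K))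
          ⟨fun b b' hbb => ?_, fun z => ?_⟩).symm
        · have h' := congrArg Subtype.val hbb
          simp only [upT_eq_bor, mk_bor_eq_iff] at h'
          rcases h' with ⟨-, h'⟩ | ⟨-, h'⟩
          · exact h'
          · linear_combination h' - b' * h2
        · obtain ⟨b', hb'⟩ := (hall _).1 z.2
          exact ⟨b', Subtype.ext hb'.symm⟩
      have hfact : Nat.card H = 2 ^ (Nat.card (PSL2 F)).factorization 2 := by
        rw [← hcK, hKc, hG, Nat.factorization_mul (by positivity) (fun h0 => hodd (by rw [h0]; exact dvd_zero 2)),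
          Finsupp.add_apply, Nat.prime_two.factorization_pow, Finsupp.single_eq_same,
          Nat.factorization_eq_zero_of_not_dvd hodd, add_zero]
      exact hsyl ⟨c, hcq⟩ (Sylow.ofCard H hfact) rfl
  · -- cyclic groups
    obtain ⟨⟨x, hx⟩, hgen⟩ := hcyc.exists_generator
    have hHx : H = Subgroup.zpowers x := by
      refine le_antisymm (fun y hy => ?_) (Subgroup.zpowers_le.2 hx)
      obtain ⟨i, hi⟩ := hgen ⟨y, hy⟩
      exact ⟨i, congrArg Subtype.val hi⟩
    have hox : orderOf x = Nat.card H := by rw [hHx, Nat.card_zpowers]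
    have hxp : ¬ orderOf x ∣ p := fun h => by
      rcases (Nat.dvd_prime hpp).1 h with h' | h'
      · rw [hox] at h'
        exact hbot (Subgroup.card_eq_one.1 h')
      · rw [hox] at h'
        exact hnd (h' ▸ dvd_rfl)
    subst hHx
    rcases Nat.even_or_odd (orderOf x) with he | ho
    · have hp2 : p ≠ 2 := fun hp => hnd (by rw [← hox, hp]; exact he.two_dvd)
      exact not_binary_of_cyclic_even p (h7 hp2) (hodd_of hp2) he hB
    · refine not_binary_of_cyclic_odd p hxp ho (fun h2 h3 => ?_) hB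
      have hp : p = 2 := by
        rcases (Nat.dvd_prime Nat.prime_two).1
          ((CharP.cast_eq_zero_iff F p 2).1 (by exact_mod_cast h2)) with h | h
        · exact absurd h hpp.ne_one
        · exact h
      obtain ⟨c, -, hcq, -⟩ := card_psl_even (F := F) p hp
      rcases Nat.even_or_odd c with hce | hco
      · exact exists_omega h2 hcq hce
      · exact absurd (hox.symm.trans h3) (hthree ⟨c, hco, hcq⟩)
  · -- dihedral groups
    rcases Nat.even_or_odd n with he | ho
    · have hp2 : p ≠ 2 := fun hp => hpn (hp ▸ he.two_dvd)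
      exact not_binary_of_dihedral_even (h7 hp2) (hodd_of hp2) he (by omega) e hB
    · exact not_binary_of_dihedral_odd h4 ho e hB
  · have hc : Nat.card H = 12 := (Nat.card_congr e.toEquiv).trans card_alt_four
    have hp2 : p ≠ 2 := fun hp => hnd (by rw [hc, hp]; norm_num)
    rcases Nat.lt_or_ge 7 (Nat.card F) with h | h
    · exact not_binary_altFour p h (hodd_of hp2) e hB
    · exact not_binary_altFour_seven (le_antisymm h (h7 hp2)) e hB
  · have hc : Nat.card H = 24 := (Nat.card_congr e.toEquiv).trans card_perm_four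
    have hp2 : p ≠ 2 := fun hp => hnd (by rw [hc, hp]; norm_num)
    exact not_binary_permFour_any p (hodd_of hp2) h4 h5 e (hc ▸ hnd) hB
  · have hc : Nat.card H = 60 := (Nat.card_congr e.toEquiv).trans card_alt_five
    have hp2 : p ≠ 2 := fun hp => hnd (by rw [hc, hp]; norm_num)
    exact not_binary_altFive_any p (hodd_of hp2) h4 h5 e (Or.inr (hc ▸ hnd)) hB
  · exact not_binary_altFive_any p (hodd_of (by omega)) h4 h5 e (Or.inl hp3) hB
  · refine not_binary_subfield p (H := H.map (outConj u).toMonoidHom) ?_ h4 hm1 hm hstd (hB.map _)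
    intro h
    apply hH
    rw [eq_top_iff]
    intro y _
    have := (Subgroup.mem_map_iff_mem (f := (outConj u).toMonoidHom) (outConj u).injective (x := y)).1
      (h ▸ Subgroup.mem_top _)
    exact this

end Cfsg.Agent.BinaryPSL
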